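import Mathlib
import Cfsg.Agent.Lib.Helper13.SympMat

set_option autoImplicit false

namespace Cfsg.Agent.Lib.Helper5.SpCard

open Matrix Cfsg.Agent.Lib.Helper13 Cfsg.Agent.Lib.Helper13.SympMat

variable {F : Type*} [Field F]

/-- The number of solutions of a nontrivial linear equation. -/
theorem card_fiber_mul [Fintype F] {V : Type*} [AddCommGroup V] [Module F V] [Finite V]
    (φ : V →ₗ[F] F) (hφ : φ ≠ 0) (c : F) :
    Nat.card {v : V // φ v = c} * Fintype.card F = Nat.card V := by
  obtain ⟨w', hw'⟩ : ∃ w', φ w' ≠ 0 := by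
    by_contra hcon
    push Not at hcon
    exact hφ (LinearMap.ext hcon)
  set w : V := (φ w')⁻¹ • w' with hw
  have hw1 : φ w = 1 := by
    rw [hw, map_smul, smul_eq_mul, inv_mul_cancel₀ hw']
  rw [← Nat.card_eq_fintype_card, ← Nat.card_prod]
  apply Nat.card_congr
  exact
    { toFun := fun p => p.1.1 + p.2 • w
      invFun := fun v => (⟨v - (φ v - c) • w, by
        rw [map_sub, map_smul, hw1, smul_eq_mul, mul_one]; ring⟩, φ v - c)
      left_inv := by
        rintro ⟨⟨v, hv⟩, t⟩
        simp only [map_add, map_smul, hw1, smul_eq_mul, mul_one, hv, add_sub_cancel_left,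
          add_sub_cancel_right]
      right_inv := by
        intro v
        simp }

/-- The index bijection splitting off the first hyperbolic pair. -/
def eps (m : ℕ) : Fin 2 ⊕ (Fin m ⊕ Fin m) ≃ Fin (m + 1) ⊕ Fin (m + 1) where
  toFun := Sum.elim (fun a => if a = 0 then Sum.inl 0 else Sum.inr 0)
    (Sum.elim (fun k => Sum.inl k.succ) (fun k => Sum.inr k.succ))
  invFun := Sum.elim (Fin.cases (Sum.inl 0) (fun k => Sum.inr (Sum.inl k)))
    (Fin.cases (Sum.inl 1) (fun k => Sum.inr (Sum.inr k)))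
  left_inv := by
    rintro (a | k | k)
    · fin_cases a <;> simp
    · simp
    · simp
  right_inv := by
    rintro (i | i)
    · refine Fin.cases ?_ (fun k => ?_) i <;> simp
    · refine Fin.cases ?_ (fun k => ?_) i <;> simp

/-- The matrix `J` in the split coordinates. -/
theorem J_submatrix (m : ℕ) :
    (J (Fin (m + 1)) F).submatrix (eps m) (eps m) =
      fromBlocks (!![0, -1; 1, 0] : Matrix (Fin 2) (Fin 2) F) 0 0 (J (Fin m) F) := by
  ext (a | k | k) (b | l | l)
  all_goals try fin_cases a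
  all_goals try fin_cases b
  all_goals simp [eps, J, Matrix.one_apply, Matrix.fromBlocks, (Fin.succ_ne_zero _).symm]

/-- Membership in the symplectic group, in split coordinates. -/
theorem mem_iff_sub (m : ℕ) (A : Matrix (Fin (m + 1) ⊕ Fin (m + 1)) (Fin (m + 1) ⊕ Fin (m + 1)) F) :
    A ∈ symplecticGroup (Fin (m + 1)) F ↔
      A.submatrix (eps m) (eps m) *
        fromBlocks (!![0, -1; 1, 0] : Matrix (Fin 2) (Fin 2) F) 0 0 (J (Fin m) F) *
        (A.submatrix (eps m) (eps m))ᵀ =
      fromBlocks (!![0, -1; 1, 0] : Matrix (Fin 2) (Fin 2) F) 0 0 (J (Fin m) F) := by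
  rw [SymplecticGroup.mem_iff, ← J_submatrix, transpose_submatrix, submatrix_mul_equiv,
    submatrix_mul_equiv]
  constructor
  · intro h
    rw [h]
  · intro h
    have h2 := congrArg (fun M => M.submatrix (eps m).symm (eps m).symm) h
    simpa using h2

/-- Extending a matrix by the identity on the first hyperbolic pair. -/
def extMat (m : ℕ) (A : Matrix (Fin m ⊕ Fin m) (Fin m ⊕ Fin m) F) :
    Matrix (Fin (m + 1) ⊕ Fin (m + 1)) (Fin (m + 1) ⊕ Fin (m + 1)) F :=
  (fromBlocks (1 : Matrix (Fin 2) (Fin 2) F) 0 0 A).submatrix (eps m).symm (eps m).symm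

theorem extMat_submatrix (m : ℕ) (A : Matrix (Fin m ⊕ Fin m) (Fin m ⊕ Fin m) F) :
    (extMat m A).submatrix (eps m) (eps m) = fromBlocks (1 : Matrix (Fin 2) (Fin 2) F) 0 0 A := by
  simp [extMat]

theorem extMat_mem (m : ℕ) (A : Matrix (Fin m ⊕ Fin m) (Fin m ⊕ Fin m) F)
    (hA : A ∈ symplecticGroup (Fin m) F) : extMat m A ∈ symplecticGroup (Fin (m + 1)) F := by
  rw [mem_iff_sub, extMat_submatrix]
  rw [SymplecticGroup.mem_iff] at hA
  simp [fromBlocks_multiply, fromBlocks_transpose, hA]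

theorem extMat_injective (m : ℕ) : Function.Injective (extMat m (F := F)) := by
  intro A B h
  have h2 := congrArg (fun M => (M.submatrix (eps m) (eps m)).toBlocks₂₂) h
  simpa [extMat_submatrix] using h2

/-- A symplectic matrix fixing the first hyperbolic pair is an extension. -/
theorem exists_extMat (m : ℕ) (A : Matrix (Fin (m + 1) ⊕ Fin (m + 1)) (Fin (m + 1) ⊕ Fin (m + 1)) F)
    (hA : A ∈ symplecticGroup (Fin (m + 1)) F)
    (h0 : A *ᵥ Pi.single (Sum.inl 0) 1 = Pi.single (Sum.inl 0) 1)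
    (h1 : A *ᵥ Pi.single (Sum.inr 0) 1 = Pi.single (Sum.inr 0) 1) :
    ∃ A' ∈ symplecticGroup (Fin m) F, A = extMat m A' := by
  set M := A.submatrix (eps m) (eps m) with hM
  have hcol : ∀ (r : Fin 2 ⊕ (Fin m ⊕ Fin m)) (a : Fin 2), M r (Sum.inl a) =
      if r = Sum.inl a then 1 else 0 := by
    intro r a
    have key : ∀ j : Fin (m + 1) ⊕ Fin (m + 1), A *ᵥ Pi.single j 1 = Pi.single j 1 →
        ∀ i, A i j = if i = j then 1 else 0 := by
      intro j hj i
      have := congrFun hj i
      rw [Matrix.mulVec_single_one] at this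
      rw [Pi.single_apply] at this
      exact this
    have hj : A *ᵥ Pi.single ((eps m) (Sum.inl a)) 1 = Pi.single ((eps m) (Sum.inl a)) 1 := by
      fin_cases a
      · exact h0
      · exact h1
    rw [hM, Matrix.submatrix_apply, key _ hj]
    simp only [(eps m).apply_eq_iff_eq]
  have h11 : M.toBlocks₁₁ = 1 := by
    ext r a
    rw [Matrix.toBlocks₁₁, Matrix.of_apply, hcol, Matrix.one_apply]
    simp
  have h21 : M.toBlocks₂₁ = 0 := by
    ext r a
    rw [Matrix.toBlocks₂₁, Matrix.of_apply, hcol]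
    simp
  have hMb : M = fromBlocks 1 M.toBlocks₁₂ 0 M.toBlocks₂₂ := by
    conv_lhs => rw [← Matrix.fromBlocks_toBlocks M, h11, h21]
  have hsym := (mem_iff_sub m A).1 hA
  rw [← hM, hMb] at hsym
  simp only [fromBlocks_multiply, fromBlocks_transpose, Matrix.one_mul, Matrix.mul_one,
    Matrix.zero_mul, Matrix.mul_zero, add_zero, zero_add, transpose_one, transpose_zero] at hsym
  obtain ⟨-, h12, -, h22⟩ := Matrix.fromBlocks_inj.1 hsym
  have h22' : M.toBlocks₂₂ ∈ symplecticGroup (Fin m) F := SymplecticGroup.mem_iff.2 h22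
  have hunit : IsUnit (J (Fin m) F * M.toBlocks₂₂ᵀ).det := by
    rw [Matrix.det_mul, Matrix.det_transpose]
    exact (isUnit_det_J (Fin m) F).mul (SymplecticGroup.symplectic_det h22')
  have h12' : M.toBlocks₁₂ = 0 := by
    have h3 : M.toBlocks₁₂ * (J (Fin m) F * M.toBlocks₂₂ᵀ) = 0 := by
      rw [← Matrix.mul_assoc]; exact h12
    have h4 := Matrix.mul_nonsing_inv_cancel_right (J (Fin m) F * M.toBlocks₂₂ᵀ) (M.toBlocks₁₂) hunit
    rw [h3, Matrix.zero_mul] at h4
    exact h4.symm
  refine ⟨M.toBlocks₂₂, h22', ?_⟩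
  have h5 : A = M.submatrix (eps m).symm (eps m).symm := by
    rw [hM]; simp
  rw [h5, hMb, h12']
  simp [extMat]

theorem extMat_mulVec_single (m : ℕ) (A : Matrix (Fin m ⊕ Fin m) (Fin m ⊕ Fin m) F) (a : Fin 2) :
    extMat m A *ᵥ Pi.single ((eps m) (Sum.inl a)) 1 = Pi.single ((eps m) (Sum.inl a)) 1 := by
  ext i
  rw [Matrix.mulVec_single_one]
  obtain ⟨r, rfl⟩ := (eps m).surjective i
  rcases r with r | k
  · simp [extMat, Pi.single_apply, Matrix.one_apply, (eps m).apply_eq_iff_eq]
  · simp [extMat, Pi.single_apply, (eps m).apply_eq_iff_eq]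

/-- Hyperbolic pairs. -/
abbrev Pairs (n : ℕ) (F : Type*) [Field F] : Type _ :=
  {p : (Fin n ⊕ Fin n → F) × (Fin n ⊕ Fin n → F) // form n F p.1 p.2 = 1}

/-- The action of the symplectic group on hyperbolic pairs, as a function. -/
def act (n : ℕ) (A : symplecticGroup (Fin n) F) (p : Pairs n F) : Pairs n F :=
  ⟨((A : Matrix (Fin n ⊕ Fin n) (Fin n ⊕ Fin n) F) *ᵥ p.1.1,
    (A : Matrix (Fin n ⊕ Fin n) (Fin n ⊕ Fin n) F) *ᵥ p.1.2), by
      rw [(mem_symp_iff n _).1 A.2]; exact p.2⟩

theorem act_one (n : ℕ) (p : Pairs n F) : act n 1 p = p := by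
  apply Subtype.ext
  apply Prod.ext
  · exact Matrix.one_mulVec _
  · exact Matrix.one_mulVec _

theorem act_mul (n : ℕ) (A B : symplecticGroup (Fin n) F) (p : Pairs n F) :
    act n (A * B) p = act n A (act n B p) := by
  apply Subtype.ext
  apply Prod.ext
  · show ((A : Matrix (Fin n ⊕ Fin n) (Fin n ⊕ Fin n) F) *
      (B : Matrix (Fin n ⊕ Fin n) (Fin n ⊕ Fin n) F)) *ᵥ p.1.1 = _
    rw [← Matrix.mulVec_mulVec]
    rfl
  · show ((A : Matrix (Fin n ⊕ Fin n) (Fin n ⊕ Fin n) F) *
      (B : Matrix (Fin n ⊕ Fin n) (Fin n ⊕ Fin n) F)) *ᵥ p.1.2 = _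
    rw [← Matrix.mulVec_mulVec]
    rfl

/-- The action of the symplectic group on hyperbolic pairs. -/
instance pairsAction (n : ℕ) : MulAction (symplecticGroup (Fin n) F) (Pairs n F) where
  smul := act n
  one_smul := act_one n
  mul_smul := act_mul n

theorem smul_pairs_val (n : ℕ) (A : symplecticGroup (Fin n) F) (p : Pairs n F) :
    (A • p).1 = ((A : Matrix (Fin n ⊕ Fin n) (Fin n ⊕ Fin n) F) *ᵥ p.1.1,
      (A : Matrix (Fin n ⊕ Fin n) (Fin n ⊕ Fin n) F) *ᵥ p.1.2) := rfl

instance pairsTransitive (n : ℕ) : MulAction.IsPretransitive (symplecticGroup (Fin n) F) (Pairs n F) := by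
  constructor
  rintro ⟨⟨u, v⟩, h⟩ ⟨⟨u', v'⟩, h'⟩
  rw [form_apply] at h h'
  obtain ⟨A, -, hu, hv⟩ := trans_pairs n u v u' v' h h'
  refine ⟨A, Subtype.ext ?_⟩
  rw [smul_pairs_val]
  exact Prod.ext hu hv

/-- The standard hyperbolic pair. -/
noncomputable def stdPair (m : ℕ) : Pairs (m + 1) F :=
  ⟨(Pi.single (Sum.inr 0) 1, Pi.single (Sum.inl 0) 1), by
    rw [form_apply, Cfsg.sympForm, Matrix.mulVec_single_one, single_dotProduct, one_mul]
    simp [J]⟩

theorem card_stabilizer (m : ℕ) :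
    Nat.card (MulAction.stabilizer (symplecticGroup (Fin (m + 1)) F) (stdPair (F := F) m)) =
      Nat.card (symplecticGroup (Fin m) F) := by
  symm
  apply Nat.card_congr
  have e0 : (eps m) (Sum.inl 0) = Sum.inl 0 := rfl
  have e1 : (eps m) (Sum.inl 1) = Sum.inr 0 := rfl
  refine Equiv.ofBijective (fun A : symplecticGroup (Fin m) F =>
    (⟨⟨extMat m A.1, extMat_mem m A.1 A.2⟩, by
      rw [MulAction.mem_stabilizer_iff]
      apply Subtype.ext
      rw [smul_pairs_val]
      apply Prod.ext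
      · have := extMat_mulVec_single m A.1 1
        rw [e1] at this
        exact this
      · have := extMat_mulVec_single m A.1 0
        rw [e0] at this
        exact this⟩ :
      MulAction.stabilizer (symplecticGroup (Fin (m + 1)) F) (stdPair (F := F) m))) ⟨?_, ?_⟩
  · intro A B h
    have h2 := congrArg (fun X : MulAction.stabilizer (symplecticGroup (Fin (m + 1)) F)
      (stdPair (F := F) m) => ((X : symplecticGroup (Fin (m + 1)) F) :
        Matrix (Fin (m + 1) ⊕ Fin (m + 1)) (Fin (m + 1) ⊕ Fin (m + 1)) F)) h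
    exact Subtype.ext (extMat_injective m h2)
  · rintro ⟨A, hA⟩
    rw [MulAction.mem_stabilizer_iff] at hA
    have h2 := congrArg Subtype.val hA
    rw [smul_pairs_val] at h2
    have h3 : (A : Matrix (Fin (m + 1) ⊕ Fin (m + 1)) (Fin (m + 1) ⊕ Fin (m + 1)) F) *ᵥ
        Pi.single (Sum.inr 0) 1 = Pi.single (Sum.inr 0) 1 := congrArg Prod.fst h2
    have h4 : (A : Matrix (Fin (m + 1) ⊕ Fin (m + 1)) (Fin (m + 1) ⊕ Fin (m + 1)) F) *ᵥ
        Pi.single (Sum.inl 0) 1 = Pi.single (Sum.inl 0) 1 := congrArg Prod.snd h2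
    obtain ⟨A', hA', hAA'⟩ := exists_extMat m A.1 A.2 h4 h3
    refine ⟨⟨A', hA'⟩, ?_⟩
    apply Subtype.ext
    apply Subtype.ext
    exact hAA'.symm

theorem card_pairs_mul [Fintype F] (n : ℕ) :
    Nat.card (Pairs n F) * Fintype.card F =
      (Fintype.card F ^ (2 * n) - 1) * Fintype.card F ^ (2 * n) := by
  classical
  have hV : Nat.card (Fin n ⊕ Fin n → F) = Fintype.card F ^ (2 * n) := by
    rw [Nat.card_eq_fintype_card, Fintype.card_fun, Fintype.card_sum, Fintype.card_fin, two_mul]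
  have e : Pairs n F ≃ Σ u : (Fin n ⊕ Fin n → F), {v : (Fin n ⊕ Fin n → F) // form n F u v = 1} :=
    Equiv.subtypeProdEquivSigmaSubtype (fun u v => form n F u v = 1)
  rw [Nat.card_congr e, Nat.card_sigma, Finset.sum_mul]
  have hterm : ∀ u : (Fin n ⊕ Fin n → F),
      Nat.card {v : (Fin n ⊕ Fin n → F) // form n F u v = 1} * Fintype.card F =
        if u = 0 then 0 else Fintype.card F ^ (2 * n) := by
    intro u
    split_ifs with hu
    · subst hu
      have : IsEmpty {v : (Fin n ⊕ Fin n → F) // form n F 0 v = 1} := by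
        constructor
        rintro ⟨v, hv⟩
        simp at hv
      rw [Nat.card_of_isEmpty, zero_mul]
    · rw [← hV]
      apply card_fiber_mul (form n F u)
      intro h0
      apply hu
      apply (form_nondeg (F := F) n).1 u
      intro y
      rw [h0]
      rfl
  rw [Finset.sum_congr rfl (fun u _ => hterm u), Finset.sum_ite, Finset.sum_const_zero, zero_add,
    Finset.sum_const, smul_eq_mul, Finset.filter_ne', Finset.card_erase_of_mem (Finset.mem_univ _),
    Finset.card_univ, ← Nat.card_eq_fintype_card (α := Fin n ⊕ Fin n → F), hV]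

/-- The recurrence for the order of the symplectic group. -/
theorem card_succ [Fintype F] (m : ℕ) :
    Nat.card (symplecticGroup (Fin (m + 1)) F) =
      Nat.card (symplecticGroup (Fin m) F) *
        ((Fintype.card F ^ (2 * (m + 1)) - 1) * Fintype.card F ^ (2 * m + 1)) := by
  have h1 := Subgroup.card_mul_index
    (MulAction.stabilizer (symplecticGroup (Fin (m + 1)) F) (stdPair (F := F) m))
  rw [MulAction.index_stabilizer_of_transitive, card_stabilizer] at h1
  have h2 := card_pairs_mul (F := F) (m + 1)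
  have hq : 0 < Fintype.card F := Fintype.card_pos
  apply Nat.eq_of_mul_eq_mul_right hq
  rw [← h1, mul_assoc, h2]
  have e2 : 2 * (m + 1) = 2 * m + 1 + 1 := by ring
  rw [e2, pow_succ (Fintype.card F) (2 * m + 1)]
  ring

/-- The order of the symplectic group. -/
theorem card_symplectic [Fintype F] (m : ℕ) :
    Nat.card (symplecticGroup (Fin m) F) =
      Fintype.card F ^ (m ^ 2) * ∏ i ∈ Finset.range m, (Fintype.card F ^ (2 * (i + 1)) - 1) := by
  induction m with
  | zero =>
    have : Unique (symplecticGroup (Fin 0) F) :=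
      { default := 1
        uniq := fun A => Subtype.ext (Subsingleton.elim _ _) }
    simp
  | succ m ih =>
    rw [card_succ, ih, Finset.prod_range_succ]
    have e : (m + 1) ^ 2 = m ^ 2 + (2 * m + 1) := by ring
    rw [e, pow_add]
    ring

end Cfsg.Agent.Lib.Helper5.SpCard
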