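import Mathlib

set_option autoImplicit false

namespace Cfsg.Agent.Lib.Helper5.SLCard

open Matrix

variable {F : Type*} [Field F]

/-- `|SL_n(F)| * |Fˣ| = |GL_n(F)|` for a nonempty index type. -/
theorem card_SL_mul {ι : Type*} [Fintype ι] [DecidableEq ι] [Nonempty ι] :
    Nat.card (SpecialLinearGroup ι F) * Nat.card Fˣ = Nat.card (GL ι F) := by
  have h1 : Nat.card (SpecialLinearGroup ι F) =
      Nat.card (GeneralLinearGroup.det : GL ι F →* Fˣ).ker := by
    apply Nat.card_congr
    refine Equiv.ofBijective (fun s => ⟨SpecialLinearGroup.toGL s, ?_⟩) ⟨?_, ?_⟩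
    · rw [MonoidHom.mem_ker]
      apply Units.ext
      simp
    · intro a b hab
      apply SpecialLinearGroup.toGL_injective
      simpa using congrArg Subtype.val hab
    · rintro ⟨g, hg⟩
      rw [MonoidHom.mem_ker] at hg
      have hdet : (g : Matrix ι ι F).det = 1 := by
        have := congrArg Units.val hg
        simpa using this
      exact ⟨⟨(g : Matrix ι ι F), hdet⟩, Subtype.ext (Units.ext rfl)⟩
  have h2 : (GeneralLinearGroup.det : GL ι F →* Fˣ).ker.index = Nat.card Fˣ := by
    rw [Subgroup.index_ker, MonoidHom.range_eq_top.mpr GeneralLinearGroup.det_surjective]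
    exact Nat.card_congr Subgroup.topEquiv.toEquiv
  rw [h1, ← h2, Subgroup.card_mul_index]

/-- The centre of `GL_n(F)` has `|Fˣ|` elements for a nonempty index type. -/
theorem card_center_GL {ι : Type*} [Fintype ι] [DecidableEq ι] [Nonempty ι] :
    Nat.card (Subgroup.center (GL ι F)) = Nat.card Fˣ := by
  rw [GeneralLinearGroup.center_eq_range_scalar]
  symm
  apply Nat.card_congr
  refine Equiv.ofInjective _ ?_
  intro a b hab
  have h := congrArg (fun g : GL ι F => (g : Matrix ι ι F) (Classical.arbitrary ι) (Classical.arbitrary ι)) hab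
  simp at h
  exact Units.ext h

end Cfsg.Agent.Lib.Helper5.SLCard
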