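import Mathlib
import Cfsg.Agent.Lib.Helper5.SLCard

set_option autoImplicit false

namespace Cfsg.Agent.Lib.Helper5.SL2Card

open Matrix

variable {F : Type*} [Field F] [Fintype F]

theorem two_le_card : 2 ≤ Fintype.card F := Fintype.one_lt_card

theorem card_GL_two {q : ℕ} (hF : Fintype.card F = q) :
    Nat.card (GL (Fin 2) F) = (q ^ 2 - 1) * (q ^ 2 - q) := by
  rw [Matrix.card_GL_field, hF, Fin.prod_univ_two]
  simp

theorem card_units {q : ℕ} (hF : Fintype.card F = q) : Nat.card Fˣ = q - 1 := by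
  classical
  rw [Nat.card_eq_fintype_card, Fintype.card_units, hF]

theorem card_SL_two {q : ℕ} (hF : Fintype.card F = q) :
    Nat.card (SpecialLinearGroup (Fin 2) F) = q * (q ^ 2 - 1) := by
  have h := Cfsg.Agent.Lib.Helper5.SLCard.card_SL_mul (F := F) (ι := Fin 2)
  rw [card_GL_two hF, card_units hF] at h
  have hq : 2 ≤ q := hF ▸ two_le_card
  have h2 : q ^ 2 - q = q * (q - 1) := by
    rw [Nat.mul_sub, mul_one, sq]
  rw [h2] at h
  have h3 : (q ^ 2 - 1) * (q * (q - 1)) = q * (q ^ 2 - 1) * (q - 1) := by ring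
  rw [h3] at h
  exact Nat.eq_of_mul_eq_mul_right (by omega) h

theorem card_center_SL_two {q : ℕ} (hF : Fintype.card F = q) :
    Nat.card (Subgroup.center (SpecialLinearGroup (Fin 2) F)) = Nat.gcd 2 (q - 1) := by
  rw [Nat.card_congr (SpecialLinearGroup.center_equiv_rootsOfUnity' (R := F) (0 : Fin 2)).toEquiv,
    Fintype.card_fin, rootsOfUnity_eq_ker, IsCyclic.card_powMonoidHom_ker, card_units hF,
    Nat.gcd_comm]

theorem card_PSL_two {q : ℕ} (hF : Fintype.card F = q) :
    Nat.card (ProjectiveSpecialLinearGroup (Fin 2) F) * Nat.gcd 2 (q - 1) = q * (q ^ 2 - 1) := by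
  have h := Subgroup.card_eq_card_quotient_mul_card_subgroup
    (Subgroup.center (SpecialLinearGroup (Fin 2) F))
  rw [card_center_SL_two hF, card_SL_two hF] at h
  exact h.symm

theorem card_proj_line {q : ℕ} (hF : Fintype.card F = q) :
    Nat.card (Projectivization F (Fin 2 → F)) = q + 1 := by
  rw [Projectivization.card_of_finrank_two F (Fin 2 → F) (by simp), Nat.card_eq_fintype_card, hF]

end Cfsg.Agent.Lib.Helper5.SL2Card
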