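import Mathlib
import Cfsg.Agent.Lib.Helper5.SLGen
import Cfsg.Agent.S0260

set_option autoImplicit false

namespace Cfsg.Agent.Lib.Helper5.DicksonLite

open Matrix
open Cfsg.Agent.S0260 (up lo up_coe lo_coe up_mul up_zero conj_upper conj_lower h01 h10)

variable {F : Type*} [Field F]

/-- the special linear group of degree two -/
abbrev SL2 (F : Type*) [Field F] := Matrix.SpecialLinearGroup (Fin 2) F

/-- packaged constructor -/
def mk2 (M : Matrix (Fin 2) (Fin 2) F) (h : M.det = 1) : SL2 F := ⟨M, h⟩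

@[simp] theorem coe_mk2 (M : Matrix (Fin 2) (Fin 2) F) (h : M.det = 1) :
    ((mk2 M h : SL2 F) : Matrix (Fin 2) (Fin 2) F) = M := rfl

theorem lo_mul (s t : F) : (lo s : SL2 F) * lo t = lo (s + t) := by
  ext i j
  rw [Matrix.SpecialLinearGroup.coe_mul, lo_coe, lo_coe, lo_coe]
  fin_cases i <;> fin_cases j <;> simp [Matrix.mul_apply, Fin.sum_univ_two, add_comm]

theorem lo_zero : (lo (0 : F) : SL2 F) = 1 := by
  ext i j
  rw [lo_coe]
  fin_cases i <;> fin_cases j <;> simp

theorem up_inv (t : F) : (up t : SL2 F)⁻¹ = up (-t) := by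
  rw [inv_eq_iff_mul_eq_one, up_mul, add_neg_cancel, up_zero]

theorem lo_inv (t : F) : (lo t : SL2 F)⁻¹ = lo (-t) := by
  rw [inv_eq_iff_mul_eq_one, lo_mul, add_neg_cancel, lo_zero]

theorem up_pow (t : F) (n : ℕ) : (up t : SL2 F) ^ n = up ((n : F) * t) := by
  induction n with
  | zero => simp [up_zero]
  | succ k ih => rw [pow_succ, ih, up_mul]; congr 1; push_cast; ring

theorem lo_pow (t : F) (n : ℕ) : (lo t : SL2 F) ^ n = lo ((n : F) * t) := by
  induction n with
  | zero => simp [lo_zero]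
  | succ k ih => rw [pow_succ, ih, lo_mul]; congr 1; push_cast; ring

/-- conjugation by `diag(ν, 1)` as an endomorphism of `SL₂` -/
def dconj (ν : F) (hν : ν ≠ 0) : SL2 F →* SL2 F where
  toFun g := mk2 !![(g : Matrix (Fin 2) (Fin 2) F) 0 0, ν * (g : Matrix (Fin 2) (Fin 2) F) 0 1;
      ν⁻¹ * (g : Matrix (Fin 2) (Fin 2) F) 1 0, (g : Matrix (Fin 2) (Fin 2) F) 1 1] (by
    have h := g.det_coe
    rw [Matrix.det_fin_two] at h
    rw [Matrix.det_fin_two_of]
    field_simp
    linear_combination h)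
  map_one' := by
    ext i j
    fin_cases i <;> fin_cases j <;> simp
  map_mul' g h := by
    ext i j
    fin_cases i <;> fin_cases j <;>
      simp [Matrix.mul_apply, Fin.sum_univ_two] <;> field_simp

theorem dconj_injective (ν : F) (hν : ν ≠ 0) : Function.Injective (dconj ν hν) := by
  intro g h hgh
  have key : ∀ i j, ((dconj ν hν g : SL2 F) : Matrix (Fin 2) (Fin 2) F) i j =
      ((dconj ν hν h : SL2 F) : Matrix (Fin 2) (Fin 2) F) i j := by
    intro i j; rw [hgh]
  ext i j
  have := key i j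
  fin_cases i <;> fin_cases j <;> simp [dconj] at this <;> tauto

theorem dconj_up (ν : F) (hν : ν ≠ 0) (t : F) : dconj ν hν (up t) = up (ν * t) := by
  ext i j
  rw [up_coe]
  fin_cases i <;> fin_cases j <;> simp [dconj, up_coe]

theorem dconj_lo (ν : F) (hν : ν ≠ 0) (t : F) : dconj ν hν (lo t) = lo (ν⁻¹ * t) := by
  ext i j
  rw [lo_coe]
  fin_cases i <;> fin_cases j <;> simp [dconj, lo_coe]

section Emb

variable (p : ℕ) [Fact p.Prime] [CharP F p]

/-- the standard copy of `SL₂(𝔽_p)` twisted by `diag(ν,1)` -/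
noncomputable def emb (ν : F) (hν : ν ≠ 0) : SL2 (ZMod p) →* SL2 F :=
  (dconj ν hν).comp (Matrix.SpecialLinearGroup.map (ZMod.castHom (dvd_refl p) F))

theorem emb_injective (ν : F) (hν : ν ≠ 0) : Function.Injective (emb p ν hν) := by
  refine (dconj_injective ν hν).comp ?_
  intro g h hgh
  ext i j
  have h1 := congrArg (fun M : SL2 F => (M : Matrix (Fin 2) (Fin 2) F) i j) hgh
  simp only [Matrix.SpecialLinearGroup.map_apply_coe, RingHom.mapMatrix_apply, Matrix.map_apply] at h1
  exact (ZMod.castHom (dvd_refl p) F).injective h1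

theorem emb_range_le (ν : F) (hν : ν ≠ 0) :
    (emb p ν hν).range ≤ Subgroup.closure {(up ν : SL2 F), lo ν⁻¹} := by
  rintro _ ⟨A, rfl⟩
  induction A using Cfsg.Agent.Lib.Helper5.SLGen.transvection_induction with
  | htransvec i j h c =>
    have hc : (ZMod.castHom (dvd_refl p) F) c = ((c.val : ℕ) : F) := by
      conv_lhs => rw [← ZMod.natCast_zmod_val c]
      rw [map_natCast]
    have hmap : ∀ (a b : Fin 2) (hab : a ≠ b),
        ((Matrix.SpecialLinearGroup.map (ZMod.castHom (dvd_refl p) F))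
          (Matrix.SpecialLinearGroup.transvection hab c) : SL2 F) =
        Matrix.SpecialLinearGroup.transvection hab ((c.val : ℕ) : F) := by
      intro a b hab
      ext k l
      simp only [Matrix.SpecialLinearGroup.map_apply_coe, RingHom.mapMatrix_apply, Matrix.map_apply,
        Matrix.SpecialLinearGroup.transvection_coe, Matrix.add_apply,
        Matrix.one_apply, Matrix.single_apply]
      split_ifs <;> simp [hc]
    show dconj ν hν ((Matrix.SpecialLinearGroup.map (ZMod.castHom (dvd_refl p) F))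
      (Matrix.SpecialLinearGroup.transvection h c)) ∈ _
    rw [hmap]
    fin_cases i <;> fin_cases j
    · exact absurd rfl h
    · show dconj ν hν (up ((c.val : ℕ) : F)) ∈ _
      rw [dconj_up, mul_comm, ← up_pow]
      exact Subgroup.pow_mem _ (Subgroup.subset_closure (by simp)) _
    · show dconj ν hν (lo ((c.val : ℕ) : F)) ∈ _
      rw [dconj_lo, mul_comm, ← lo_pow]
      exact Subgroup.pow_mem _ (Subgroup.subset_closure (by simp)) _
    · exact absurd rfl h
  | hmul A B hA hB =>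
    rw [map_mul]
    exact Subgroup.mul_mem _ hA hB

end Emb

section Core

/-- the group generated by `up x` and `lo y` -/
def L (x y : F) : Subgroup (SL2 F) := Subgroup.closure {up x, lo y}

theorem up_mem_L (x y : F) : (up x : SL2 F) ∈ L x y := Subgroup.subset_closure (by simp)

theorem lo_mem_L (x y : F) : (lo y : SL2 F) ∈ L x y := Subgroup.subset_closure (by simp)

theorem conj_gen (x w : F) (hw : w ≠ 0) :
    (up (-w⁻¹) : SL2 F) * (lo w * up x * (lo w)⁻¹) * (up (-w⁻¹))⁻¹ = lo (-(x * w ^ 2)) := by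
  have h00 : ((up (-w⁻¹) * lo w : SL2 F) : Matrix (Fin 2) (Fin 2) F) 0 0 = 0 := by
    rw [Matrix.SpecialLinearGroup.coe_mul, up_coe, lo_coe]
    simp [Matrix.mul_apply, Fin.sum_univ_two, hw]
  have h10 : ((up (-w⁻¹) * lo w : SL2 F) : Matrix (Fin 2) (Fin 2) F) 1 0 = w := by
    rw [Matrix.SpecialLinearGroup.coe_mul, up_coe, lo_coe]
    simp [Matrix.mul_apply, Fin.sum_univ_two]
  have h := conj_lower (up (-w⁻¹) * lo w) h00 x
  rw [h10] at h
  rw [← h]
  group

theorem conj_up_up (x t : F) : (up t : SL2 F) * up x * (up t)⁻¹ = up x := by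
  rw [up_inv, up_mul, up_mul]
  congr 1
  ring

theorem map_conj_closure (x w : F) (hw : w ≠ 0) :
    (Subgroup.closure {(up x : SL2 F), lo w * up x * (lo w)⁻¹}).map
      (MulAut.conj (up (-w⁻¹) : SL2 F)).toMonoidHom = L x (-(x * w ^ 2)) := by
  rw [MonoidHom.map_closure, Set.image_pair]
  show Subgroup.closure {(up (-w⁻¹) : SL2 F) * up x * (up (-w⁻¹))⁻¹,
    (up (-w⁻¹) : SL2 F) * (lo w * up x * (lo w)⁻¹) * (up (-w⁻¹))⁻¹} = _
  rw [conj_up_up, conj_gen x w hw]
  rfl

theorem braid (y : F) (hy : y ≠ 0) :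
    (up y⁻¹ : SL2 F) = (lo y)⁻¹ * (up y⁻¹ * (lo y)⁻¹ * (up y⁻¹)⁻¹) * lo y := by
  rw [lo_inv, up_inv]
  ext i j
  simp only [Matrix.SpecialLinearGroup.coe_mul, up_coe, lo_coe]
  fin_cases i <;> fin_cases j <;> simp [Matrix.mul_apply, Fin.sum_univ_two, hy]

variable (p : ℕ) [Fact p.Prime] [CharP F p]

theorem two_ne_zero_of_char (hp : p ≠ 2) : (2 : F) ≠ 0 := by
  intro h
  have h1 : ((2 : ℕ) : F) = 0 := by exact_mod_cast h
  have h2 := (CharP.cast_eq_zero_iff F p 2).mp h1
  exact hp ((Nat.prime_dvd_prime_iff_eq Fact.out Nat.prime_two).mp h2)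

variable [Fintype F]

/-- **Dickson-lite**: for odd `p`, the group generated by `up x` and `lo y` (`x, y ≠ 0`) contains
a copy of `SL₂(𝔽_p)`. -/
theorem core (hp : p ≠ 2) : ∀ n : ℕ, ∀ x y : F, x ≠ 0 → y ≠ 0 → Nat.card (L x y) ≤ n →
    ∃ f : SL2 (ZMod p) →* SL2 F, Function.Injective f ∧ f.range ≤ L x y := by
  intro n
  induction n with
  | zero =>
    intro x y _ _ h
    have : 0 < Nat.card (L x y) := Nat.card_pos
    omega
  | succ n ih =>
    intro x y hx hy hcard
    have step : ∀ w : F, w ≠ 0 → (lo w : SL2 F) ∈ L x y →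
        (Subgroup.closure {(up x : SL2 F), lo w * up x * (lo w)⁻¹} = L x y) ∨
        ∃ f : SL2 (ZMod p) →* SL2 F, Function.Injective f ∧ f.range ≤ L x y := by
      intro w hw hwL
      set Y := Subgroup.closure {(up x : SL2 F), lo w * up x * (lo w)⁻¹} with hY
      have hYL : Y ≤ L x y := by
        rw [hY, Subgroup.closure_le]
        rintro g (rfl | rfl)
        · exact up_mem_L x y
        · exact Subgroup.mul_mem _ (Subgroup.mul_mem _ hwL (up_mem_L x y)) (Subgroup.inv_mem _ hwL)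
      by_cases hYe : Y = L x y
      · left; exact hYe
      right
      have hlt : Nat.card Y < Nat.card (L x y) := by
        by_contra hge
        push Not at hge
        exact hYe (Subgroup.eq_of_le_of_card_ge hYL hge)
      have hmap := map_conj_closure x w hw
      rw [← hY] at hmap
      have hcard' : Nat.card (L x (-(x * w ^ 2))) ≤ n := by
        rw [← hmap, Subgroup.card_map_of_injective (MulAut.conj (up (-w⁻¹) : SL2 F)).injective]
        omega
      obtain ⟨f, hf, hfr⟩ := ih x (-(x * w ^ 2)) hx (by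
        simp only [ne_eq, neg_eq_zero, mul_eq_zero, not_or]
        exact ⟨hx, pow_ne_zero 2 hw⟩) hcard'
      refine ⟨(MulAut.conj (up (-w⁻¹) : SL2 F)⁻¹).toMonoidHom.comp f,
        (MulAut.conj (up (-w⁻¹) : SL2 F)⁻¹).injective.comp hf, ?_⟩
      rintro _ ⟨a, rfl⟩
      have h1 : f a ∈ L x (-(x * w ^ 2)) := hfr ⟨a, rfl⟩
      rw [← hmap] at h1
      obtain ⟨u, hu, hua⟩ := h1
      apply hYL
      have : (MulAut.conj (up (-w⁻¹) : SL2 F)⁻¹).toMonoidHom.comp f a = u := by
        show (MulAut.conj (up (-w⁻¹) : SL2 F)⁻¹) (f a) = u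
        rw [← hua]
        show (MulAut.conj (up (-w⁻¹) : SL2 F)⁻¹) ((MulAut.conj (up (-w⁻¹) : SL2 F)) u) = u
        simp [MulAut.conj_apply]
        group
      rw [this]
      exact hu
    have h2 : (2 : F) ≠ 0 := two_ne_zero_of_char p hp
    rcases step y hy (lo_mem_L x y) with h1 | h1
    swap
    · exact h1
    have h2y : (2 * y : F) ≠ 0 := mul_ne_zero h2 hy
    have h2yL : (lo (2 * y) : SL2 F) ∈ L x y := by
      have : (lo (2 * y) : SL2 F) = lo y ^ 2 := by rw [lo_pow]; norm_num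
      rw [this]
      exact Subgroup.pow_mem _ (lo_mem_L x y) _
    rcases step (2 * y) h2y h2yL with h3 | h3
    swap
    · exact h3
    -- now both closures are everything
    have hm1 := map_conj_closure x y hy
    have hm2 := map_conj_closure x (2 * y) h2y
    rw [h1] at hm1
    rw [h3] at hm2
    have hle : L x (-(x * (2 * y) ^ 2)) ≤ L x (-(x * y ^ 2)) := by
      rw [L, Subgroup.closure_le]
      rintro g (rfl | rfl)
      · exact up_mem_L _ _
      · have : (lo (-(x * (2 * y) ^ 2)) : SL2 F) = lo (-(x * y ^ 2)) ^ 4 := by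
          rw [lo_pow]; congr 1; push_cast; ring
        rw [this]
        exact Subgroup.pow_mem _ (lo_mem_L _ _) _
    have hc1 : Nat.card (L x (-(x * y ^ 2))) = Nat.card (L x y) := by
      rw [← hm1, Subgroup.card_map_of_injective (MulAut.conj (up (-y⁻¹) : SL2 F)).injective]
    have hc2 : Nat.card (L x (-(x * (2 * y) ^ 2))) = Nat.card (L x y) := by
      rw [← hm2, Subgroup.card_map_of_injective (MulAut.conj (up (-(2 * y)⁻¹) : SL2 F)).injective]
    have heq : L x (-(x * (2 * y) ^ 2)) = L x (-(x * y ^ 2)) :=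
      Subgroup.eq_of_le_of_card_ge hle (by rw [hc1, hc2])
    -- `up (1/(2y))` normalizes `L`
    have hd : ∀ g ∈ L x y, (up (2 * y)⁻¹ : SL2 F) * g * (up (2 * y)⁻¹)⁻¹ ∈ L x y := by
      intro g hg
      have h4 : (MulAut.conj (up (-(2 * y)⁻¹) : SL2 F)).toMonoidHom g ∈ L x (-(x * (2 * y) ^ 2)) := by
        rw [← hm2]
        exact Subgroup.mem_map_of_mem _ hg
      rw [heq, ← hm1] at h4
      obtain ⟨u, hu, hug⟩ := h4
      have h5 : (up (-y⁻¹) : SL2 F) * u * (up (-y⁻¹))⁻¹ =
          (up (-(2 * y)⁻¹) : SL2 F) * g * (up (-(2 * y)⁻¹))⁻¹ := hug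
      have h6 : (up (2 * y)⁻¹ : SL2 F) = (up (-y⁻¹))⁻¹ * up (-(2 * y)⁻¹) := by
        rw [up_inv, up_mul]
        congr 1
        field_simp
        ring
      have h7 : (up (2 * y)⁻¹ : SL2 F) * g * (up (2 * y)⁻¹)⁻¹ = u := by
        rw [h6]
        have : ((up (-y⁻¹) : SL2 F))⁻¹ * up (-(2 * y)⁻¹) * g * ((up (-y⁻¹))⁻¹ * up (-(2 * y)⁻¹))⁻¹
            = (up (-y⁻¹))⁻¹ * (up (-(2 * y)⁻¹) * g * (up (-(2 * y)⁻¹))⁻¹) * up (-y⁻¹) := by group
        rw [this, ← h5]
        group
      rw [h7]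
      exact hu
    have ht : ∀ g ∈ L x y, (up y⁻¹ : SL2 F) * g * (up y⁻¹)⁻¹ ∈ L x y := by
      intro g hg
      have h6 : (up y⁻¹ : SL2 F) = up (2 * y)⁻¹ * up (2 * y)⁻¹ := by
        rw [up_mul]
        congr 1
        field_simp
        ring
      have := hd _ (hd g hg)
      have h7 : (up y⁻¹ : SL2 F) * g * (up y⁻¹)⁻¹ =
          up (2 * y)⁻¹ * (up (2 * y)⁻¹ * g * (up (2 * y)⁻¹)⁻¹) * (up (2 * y)⁻¹)⁻¹ := by
        rw [h6]; group
      rw [h7]
      exact this
    have hup : (up y⁻¹ : SL2 F) ∈ L x y := by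
      rw [braid y hy]
      exact Subgroup.mul_mem _ (Subgroup.mul_mem _ (Subgroup.inv_mem _ (lo_mem_L x y))
        (ht _ (Subgroup.inv_mem _ (lo_mem_L x y)))) (lo_mem_L x y)
    refine ⟨emb p y⁻¹ (inv_ne_zero hy), emb_injective p _ _, ?_⟩
    refine (emb_range_le p y⁻¹ (inv_ne_zero hy)).trans ?_
    rw [Subgroup.closure_le]
    rintro g (rfl | rfl)
    · exact hup
    · rw [inv_inv]
      exact lo_mem_L x y

/-- **Dickson-lite**, final form. -/
theorem exists_sl2p (hp : p ≠ 2) (x y : F) (hx : x ≠ 0) (hy : y ≠ 0) :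
    ∃ f : SL2 (ZMod p) →* SL2 F, Function.Injective f ∧
      f.range ≤ Subgroup.closure {(up x : SL2 F), lo y} :=
  core p hp _ x y hx hy le_rfl

end Core

end Cfsg.Agent.Lib.Helper5.DicksonLite
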