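import Mathlib
import Cfsg.Agent.Lib.Helper5.SL2Card

set_option autoImplicit false

namespace Cfsg.Agent.Lib.Helper5.PSL2Perm

open Matrix
open scoped MatrixGroups LinearAlgebra.Projectivization

variable {F : Type*} [Field F] [Fintype F]

instance finiteLine : Finite (ℙ F (Fin 2 → F)) :=
  (Projectivization.finite_iff_of_finite F (Fin 2 → F)).mpr inferInstance

/-- An enumeration of the projective line. -/
noncomputable def lineEquiv {q : ℕ} (hF : Fintype.card F = q) : ℙ F (Fin 2 → F) ≃ Fin (q + 1) :=
  Finite.equivFinOfCardEq (Cfsg.Agent.Lib.Helper5.SL2Card.card_proj_line hF)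

/-- The permutation representation of `PSL(2, F)` on the `q + 1` points of the projective line. -/
noncomputable def toPerm {q : ℕ} (hF : Fintype.card F = q) :
    ProjectiveSpecialLinearGroup (Fin 2) F →* Equiv.Perm (Fin (q + 1)) :=
  (lineEquiv hF).permCongrHom.toMonoidHom.comp Projectivization.PSLAction.toPermHom

theorem toPerm_injective {q : ℕ} (hF : Fintype.card F = q) :
    Function.Injective (toPerm hF) := by
  unfold toPerm
  rw [MonoidHom.coe_comp]
  exact (lineEquiv hF).permCongrHom.injective.comp
    Matrix.ProjectiveSpecialLinearGroup.toPermHom_injective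

theorem card_range_mul {q : ℕ} (hF : Fintype.card F = q) :
    Nat.card (toPerm hF).range * Nat.gcd 2 (q - 1) = q * (q ^ 2 - 1) := by
  rw [← Cfsg.Agent.Lib.Helper5.SL2Card.card_PSL_two hF]
  congr 1
  exact (Nat.card_congr (MonoidHom.ofInjective (toPerm_injective hF)).toEquiv).symm

/-- If the image has index two, `PSL(2, F)` is the alternating group. -/
theorem equiv_alternating {q : ℕ} (hF : Fintype.card F = q)
    (h : 2 * (Nat.card (toPerm hF).range) = (q + 1).factorial) :
    Nonempty (ProjectiveSpecialLinearGroup (Fin 2) F ≃* alternatingGroup (Fin (q + 1))) := by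
  have hidx : (toPerm hF).range.index = 2 := by
    have h1 := Subgroup.card_mul_index (toPerm hF).range
    rw [Nat.card_eq_fintype_card (α := Equiv.Perm (Fin (q + 1))), Fintype.card_perm,
      Fintype.card_fin, ← h] at h1
    have hpos : 0 < Nat.card (toPerm hF).range := Nat.card_pos
    have h2 : Nat.card (toPerm hF).range * (toPerm hF).range.index =
        Nat.card (toPerm hF).range * 2 := by rw [h1]; ring
    exact Nat.eq_of_mul_eq_mul_left hpos h2
  have heq := Equiv.Perm.eq_alternatingGroup_of_index_eq_two hidx
  exact ⟨(MonoidHom.ofInjective (toPerm_injective hF)).trans (MulEquiv.subgroupCongr heq)⟩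

end Cfsg.Agent.Lib.Helper5.PSL2Perm
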