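import Mathlib

set_option autoImplicit false

namespace Cfsg.Agent.Lib.Helper5.QuadCount

variable {F : Type*} [Field F] [Fintype F]

/-- Splitting off one hyperbolic pair: the zero set of `x * y + f v`. -/
noncomputable def hypEquiv {V : Type*} (f : V → F) :
    {p : F × F × V // p.1 * p.2.1 + f p.2.2 = 0} ≃
      ({x : F // x ≠ 0} × V) ⊕ (F × {v : V // f v = 0}) := by
  classical
  exact
  { toFun := fun p =>
      if hx : p.1.1 = 0 then Sum.inr (p.1.2.1, ⟨p.1.2.2, by
        have h := p.2
        rw [hx, zero_mul, zero_add] at h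
        exact h⟩)
      else Sum.inl (⟨p.1.1, hx⟩, p.1.2.2)
    invFun := fun s =>
      match s with
      | Sum.inl (x, v) => ⟨(x.1, -f v / x.1, v), by
          have hx := x.2
          show x.1 * (-f v / x.1) + f v = 0
          field_simp
          ring⟩
      | Sum.inr (y, v) => ⟨(0, y, v.1), by
          show (0 : F) * y + f v.1 = 0
          rw [zero_mul, zero_add]
          exact v.2⟩
    left_inv := by
      rintro ⟨⟨x, y, v⟩, h⟩
      by_cases hx : x = 0
      · subst hx
        simp
      · simp only [hx, dite_false]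
        apply Subtype.ext
        simp only [Prod.mk.injEq, true_and, and_true]
        have h' : x * y + f v = 0 := h
        field_simp
        linear_combination (-1 : F) * h'
    right_inv := by
      rintro (⟨x, v⟩ | ⟨y, v⟩)
      · simp [x.2]
      · simp }

/-- The number of zeros of `x * y + f v`. -/
theorem card_hyp {V : Type*} [Finite V] (f : V → F) :
    Nat.card {p : F × F × V // p.1 * p.2.1 + f p.2.2 = 0} =
      (Fintype.card F - 1) * Nat.card V + Fintype.card F * Nat.card {v : V // f v = 0} := by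
  classical
  rw [Nat.card_congr (hypEquiv f), Nat.card_sum, Nat.card_prod, Nat.card_prod]
  congr 2
  · rw [Nat.card_eq_fintype_card, Fintype.card_subtype_compl, Fintype.card_subtype_eq]
  · exact Nat.card_eq_fintype_card

/-- The equivalence peeling off the first coordinates. -/
def consEquiv (m : ℕ) (V : Type*) :
    (Fin (m + 1) → F) × (Fin (m + 1) → F) × V ≃ F × F × ((Fin m → F) × (Fin m → F) × V) where
  toFun p := (p.1 0, p.2.1 0, (Fin.tail p.1, Fin.tail p.2.1, p.2.2))
  invFun r := (Fin.cons r.1 r.2.2.1, Fin.cons r.2.1 r.2.2.2.1, r.2.2.2.2)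
  left_inv := by
    rintro ⟨x, y, v⟩
    simp
  right_inv := by
    rintro ⟨x, y, x', y', v⟩
    simp

/-- Recurrence for the number of zeros of `∑ x i * y i + f v`. -/
theorem card_zeros_succ (m : ℕ) {V : Type*} [Finite V] (f : V → F) :
    Nat.card {p : (Fin (m + 1) → F) × (Fin (m + 1) → F) × V //
        ∑ i, p.1 i * p.2.1 i + f p.2.2 = 0} =
      (Fintype.card F - 1) * (Fintype.card F ^ (2 * m) * Nat.card V) +
        Fintype.card F * Nat.card {p : (Fin m → F) × (Fin m → F) × V //
          ∑ i, p.1 i * p.2.1 i + f p.2.2 = 0} := by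
  have e : {p : (Fin (m + 1) → F) × (Fin (m + 1) → F) × V //
        ∑ i, p.1 i * p.2.1 i + f p.2.2 = 0} ≃
      {r : F × F × ((Fin m → F) × (Fin m → F) × V) //
        r.1 * r.2.1 + (∑ i, r.2.2.1 i * r.2.2.2.1 i + f r.2.2.2.2) = 0} := by
    refine (consEquiv m V).subtypeEquiv ?_
    rintro ⟨x, y, v⟩
    simp only [consEquiv, Equiv.coe_fn_mk, Fin.sum_univ_succ, Fin.tail, add_assoc]
  rw [Nat.card_congr e, card_hyp (V := (Fin m → F) × (Fin m → F) × V)
    (fun r => ∑ i, r.1 i * r.2.1 i + f r.2.2)]
  congr 2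
  rw [Nat.card_prod, Nat.card_prod, Nat.card_eq_fintype_card (α := Fin m → F)]
  simp only [Fintype.card_fun, Fintype.card_fin]
  ring

/-- Closed form (multiplied by `q` to avoid subtraction). -/
theorem card_zeros (m : ℕ) {V : Type*} [Finite V] (f : V → F) :
    Fintype.card F * Nat.card {p : (Fin m → F) × (Fin m → F) × V //
        ∑ i, p.1 i * p.2.1 i + f p.2.2 = 0} + Fintype.card F ^ m * Nat.card V =
      Fintype.card F ^ (m + 1) * Nat.card {v : V // f v = 0} +
        Fintype.card F ^ (2 * m) * Nat.card V := by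
  have hq : 1 ≤ Fintype.card F := Fintype.card_pos
  induction m with
  | zero =>
    have e : {p : (Fin 0 → F) × (Fin 0 → F) × V // ∑ i, p.1 i * p.2.1 i + f p.2.2 = 0} ≃
        {v : V // f v = 0} :=
      { toFun := fun p => ⟨p.1.2.2, by simpa using p.2⟩
        invFun := fun v => ⟨(Fin.elim0, Fin.elim0, v.1), by simpa using v.2⟩
        left_inv := by
          rintro ⟨⟨x, y, v⟩, h⟩
          apply Subtype.ext
          simp only [Prod.mk.injEq, and_true]
          exact ⟨Subsingleton.elim _ _, Subsingleton.elim _ _⟩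
        right_inv := by
          rintro ⟨v, h⟩
          rfl }
    rw [Nat.card_congr e]
    simp
  | succ m ih =>
    rw [card_zeros_succ]
    obtain ⟨q', hq'⟩ : ∃ q', Fintype.card F = q' + 1 := ⟨Fintype.card F - 1, by omega⟩
    rw [hq'] at ih ⊢
    simp only [Nat.add_sub_cancel]
    generalize Nat.card {p : (Fin m → F) × (Fin m → F) × V //
        ∑ i, p.1 i * p.2.1 i + f p.2.2 = 0} = N at ih ⊢
    generalize Nat.card {v : V // f v = 0} = Z at ih ⊢
    generalize Nat.card V = W at ih ⊢
    have : (q' + 1) * ((q' + 1) * N + (q' + 1) ^ m * W) =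
        (q' + 1) * ((q' + 1) ^ (m + 1) * Z + (q' + 1) ^ (2 * m) * W) := by rw [ih]
    have e2 : 2 * (m + 1) = 2 * m + 2 := by ring
    rw [e2]
    ring_nf at this ⊢
    linarith

end Cfsg.Agent.Lib.Helper5.QuadCount
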