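import Mathlib
import Cfsg.Agent.Lib.Helper25.ACStmt

/-!
# S3912 / ABODD (second seat, helper5)

`r` odd, `N` of order `r` containing all elements of order `r` and all commutators,
`r² ∣ #X`: `X` is abelian (`X = P H`, `P` abelian by `PAb`, `H` abelian centralizing `P`).
-/

set_option autoImplicit false

universe u

namespace Cfsg.Agent.Lib.Helper5.ACABODD

open Cfsg.Agent.Lib.Helper25.ACStmt

theorem main (hA : SplitA.{u}) (hB : SplitB.{u}) (hP : PAb.{u}) : AbOdd.{u} := by
  intro X _ _ r _ hr2 N hNr hord hcomm hrr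
  classical
  obtain ⟨P⟩ : Nonempty (Sylow r X) := inferInstance
  obtain ⟨H, hHc, hHab, hcard, hprod⟩ := hA X r N hNr hcomm P
  have hHP : ∀ h ∈ H, ∀ x ∈ (P : Subgroup X), h * x = x * h := by
    intro h hh x hx
    refine hB X r N hNr hord hcomm hrr P h ?_ x hx
    exact Nat.Coprime.coprime_dvd_left (Subgroup.orderOf_dvd_natCard H hh) hHc
  -- `N ≤ P`
  have hrX : r ∣ Nat.card X := dvd_trans (dvd_mul_right r r) hrr
  obtain ⟨y, hy⟩ := exists_prime_orderOf_dvd_card' (G := ↥(P : Subgroup X)) r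
    (P.dvd_card_of_dvd_card hrX)
  have hyX : orderOf (y : X) = r := by rw [Subgroup.orderOf_coe, hy]
  have hyN : (y : X) ∈ N := hord _ hyX
  have hy1 : (⟨(y : X), hyN⟩ : ↥N) ≠ 1 := by
    intro h
    have h1 : (y : X) = 1 := congrArg Subtype.val h
    rw [h1, orderOf_one] at hyX
    exact (Fact.out : r.Prime).one_lt.ne hyX
  have htop := zpowers_eq_top_of_prime_card (G := ↥N) hNr hy1
  have hNP : N ≤ (P : Subgroup X) := by
    intro n hn
    have hmem : (⟨n, hn⟩ : ↥N) ∈ Subgroup.zpowers (⟨(y : X), hyN⟩ : ↥N) := by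
      rw [htop]
      exact Subgroup.mem_top _
    obtain ⟨k, hk⟩ := Subgroup.mem_zpowers_iff.mp hmem
    have hk' : (y : X) ^ k = n := by
      have := congrArg Subtype.val hk
      simpa using this
    rw [← hk']
    exact (P : Subgroup X).zpow_mem y.2 k
  have hPab : ∀ a b : ↥(P : Subgroup X), a * b = b * a := by
    refine hP ↥(P : Subgroup X) r hr2 P.isPGroup' (N.subgroupOf (P : Subgroup X)) ?_ ?_ ?_
    · rw [Nat.card_congr (Subgroup.subgroupOfEquivOfLe hNP).toEquiv, hNr]
    · intro x hx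
      rw [Subgroup.mem_subgroupOf]
      apply hord
      rw [Subgroup.orderOf_coe, hx]
    · intro a b
      rw [Subgroup.mem_subgroupOf]
      exact hcomm (a : X) (b : X)
  intro x y'
  obtain ⟨p, hp, h, hh, rfl⟩ := hprod x
  obtain ⟨p', hp', h', hh', rfl⟩ := hprod y'
  have e1 : p * p' = p' * p := congrArg Subtype.val (hPab ⟨p, hp⟩ ⟨p', hp'⟩)
  have e2 := hHab h hh h' hh'
  have e3 := hHP h hh p' hp'
  have e4 := hHP h' hh' p hp
  calc p * h * (p' * h') = p * (h * p') * h' := by group
    _ = p * (p' * h) * h' := by rw [e3]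
    _ = (p * p') * (h * h') := by group
    _ = (p' * p) * (h' * h) := by rw [e1, e2]
    _ = p' * (p * h') * h := by group
    _ = p' * (h' * p) * h := by rw [e4]
    _ = p' * h' * (p * h) := by group

end Cfsg.Agent.Lib.Helper5.ACABODD
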