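import Mathlib
import Cfsg.Agent.Lib.Helper25.ACStmt
import Cfsg.Agent.Lib.Helper25.ACOddStmt

/-!
# S3911 piece PCOMPL (call by helper25): from `Burn` inside the group `↥(M ⊔ P)` a normal
`p`-complement `K` of `M`, normal in `G` (`K` = the elements of `M` of order prime to `p`).
-/

set_option autoImplicit false

namespace Cfsg.Agent.Lib.Helper5.AOPCOMPL

open Cfsg.Agent.Lib.Helper25.ACStmt Cfsg.Agent.Lib.Helper25.ACOddStmt

universe u

theorem main (hB : Burn.{u}) : PCompl.{u} := by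
  intro G _ _ p _ P hPc M hM hPM
  classical
  have := hM
  have hp : p.Prime := Fact.out
  have hPH : (P : Subgroup G) ≤ M ⊔ (P : Subgroup G) := le_sup_right
  have hMH : M ≤ M ⊔ (P : Subgroup G) := le_sup_left
  have hP'coe : ((P.subtype hPH : Sylow p ↥(M ⊔ (P : Subgroup G))) :
      Subgroup ↥(M ⊔ (P : Subgroup G))) =
      (P : Subgroup G).subgroupOf (M ⊔ (P : Subgroup G)) := Sylow.coe_subtype P hPH
  have hP'card : Nat.card ↥((P.subtype hPH : Sylow p ↥(M ⊔ (P : Subgroup G))) :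
      Subgroup ↥(M ⊔ (P : Subgroup G))) = Nat.card ↥(P : Subgroup G) := by
    rw [hP'coe]
    exact Nat.card_congr (Subgroup.subgroupOfEquivOfLe hPH).toEquiv
  have hcyc' : IsCyclic ↥((P.subtype hPH : Sylow p ↥(M ⊔ (P : Subgroup G))) :
      Subgroup ↥(M ⊔ (P : Subgroup G))) := by
    rw [hP'coe]
    exact isCyclic_of_surjective (Subgroup.subgroupOfEquivOfLe hPH).symm
      (MulEquiv.surjective _)
  have hM' : (M.subgroupOf (M ⊔ (P : Subgroup G))).Normal := inferInstance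
  have hnot : ¬ ((P.subtype hPH : Sylow p ↥(M ⊔ (P : Subgroup G))) :
      Subgroup ↥(M ⊔ (P : Subgroup G))) ≤ M.subgroupOf (M ⊔ (P : Subgroup G)) := by
    rw [hP'coe]
    intro h
    apply hPM
    intro x hx
    have h1 : (⟨x, hPH hx⟩ : ↥(M ⊔ (P : Subgroup G))) ∈
        (P : Subgroup G).subgroupOf (M ⊔ (P : Subgroup G)) := by
      rw [Subgroup.mem_subgroupOf]
      exact hx
    have h2 := h h1
    rw [Subgroup.mem_subgroupOf] at h2
    exact h2
  have hsup : M.subgroupOf (M ⊔ (P : Subgroup G)) ⊔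
      ((P.subtype hPH : Sylow p ↥(M ⊔ (P : Subgroup G))) :
        Subgroup ↥(M ⊔ (P : Subgroup G))) = ⊤ := by
    rw [hP'coe, ← Subgroup.subgroupOf_sup hMH hPH]
    exact Subgroup.subgroupOf_self _
  obtain ⟨K₁, hK₁n, hK₁M, hK₁card⟩ :=
    hB ↥(M ⊔ (P : Subgroup G)) p (P.subtype hPH) hcyc'
      (M.subgroupOf (M ⊔ (P : Subgroup G))) hM' hnot hsup
  have := hK₁n
  rw [hP'card] at hK₁card
  -- the order of `P`
  have hPcard : Nat.card ↥(P : Subgroup G) = p ^ (Nat.card G).factorization p :=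
    Sylow.card_eq_multiplicity P
  -- `K`
  have hKcard : Nat.card ↥(K₁.map (M ⊔ (P : Subgroup G)).subtype) = Nat.card ↥K₁ :=
    Subgroup.card_subtype _ K₁
  have hKM : K₁.map (M ⊔ (P : Subgroup G)).subtype ≤ M := by
    rintro x ⟨y, hy, rfl⟩
    have h1 := hK₁M hy
    rw [Subgroup.mem_subgroupOf] at h1
    exact h1
  have hHdvd : Nat.card ↥(M ⊔ (P : Subgroup G)) ∣ Nat.card G :=
    Subgroup.card_subgroup_dvd_card _
  have hcop : Nat.Coprime (Nat.card ↥K₁) p := by
    rw [Nat.coprime_comm, Nat.Prime.coprime_iff_not_dvd hp]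
    intro hdvd
    have h1 : p * p ^ (Nat.card G).factorization p ∣ Nat.card G := by
      refine dvd_trans ?_ hHdvd
      rw [← hK₁card, hPcard]
      exact Nat.mul_dvd_mul_right hdvd _
    rw [← pow_succ'] at h1
    exact Nat.pow_succ_factorization_not_dvd Nat.card_pos.ne' hp h1
  -- the index of `K₁`
  have hidx : K₁.index = p ^ (Nat.card G).factorization p := by
    have h1 := K₁.card_mul_index
    have hpos : 0 < Nat.card ↥K₁ := Nat.card_pos
    apply Nat.eq_of_mul_eq_mul_left hpos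
    rw [h1, ← hPcard, hK₁card]
  -- elements of order prime to `p` lie in `K₁`
  have key : ∀ m' : ↥(M ⊔ (P : Subgroup G)), Nat.Coprime (orderOf m') p → m' ∈ K₁ := by
    intro m' hc
    rw [← QuotientGroup.eq_one_iff (N := K₁), ← orderOf_eq_one_iff]
    have d1 : orderOf ((m' : ↥(M ⊔ (P : Subgroup G)) ⧸ K₁)) ∣ orderOf m' :=
      orderOf_map_dvd (QuotientGroup.mk' K₁) m'
    have d2 : orderOf ((m' : ↥(M ⊔ (P : Subgroup G)) ⧸ K₁)) ∣
        p ^ (Nat.card G).factorization p := by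
      have h2 := orderOf_dvd_natCard ((m' : ↥(M ⊔ (P : Subgroup G)) ⧸ K₁))
      rwa [← Subgroup.index_eq_card, hidx] at h2
    have h3 := Nat.dvd_gcd d1 d2
    rw [Nat.Coprime.gcd_eq_one (Nat.Coprime.pow_right _ hc)] at h3
    exact Nat.dvd_one.mp h3
  refine ⟨K₁.map (M ⊔ (P : Subgroup G)).subtype, ?_, hKM, ?_, ?_⟩
  · -- normal in `G`
    constructor
    intro k hk g
    obtain ⟨y, hy, rfl⟩ := hk
    have hyM : ((M ⊔ (P : Subgroup G)).subtype y) ∈ M := hKM ⟨y, hy, rfl⟩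
    have hconjM : g * ((M ⊔ (P : Subgroup G)).subtype y) * g⁻¹ ∈ M := hM.conj_mem _ hyM g
    have hyord : Nat.Coprime (orderOf y) p :=
      Nat.Coprime.coprime_dvd_left (Subgroup.orderOf_dvd_natCard K₁ hy) hcop
    have hord : orderOf (⟨g * ((M ⊔ (P : Subgroup G)).subtype y) * g⁻¹, hMH hconjM⟩ :
        ↥(M ⊔ (P : Subgroup G))) = orderOf y := by
      rw [← Subgroup.orderOf_coe, ← Subgroup.orderOf_coe y]
      show orderOf (g * (y : G) * g⁻¹) = orderOf (y : G)
      exact orderOf_injective (MulAut.conj g).toMonoidHom (MulAut.conj g).injective (y : G)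
    have hmem := key ⟨g * ((M ⊔ (P : Subgroup G)).subtype y) * g⁻¹, hMH hconjM⟩
      (by rw [hord]; exact hyord)
    exact ⟨⟨g * ((M ⊔ (P : Subgroup G)).subtype y) * g⁻¹, hMH hconjM⟩, hmem, rfl⟩
  · rw [hKcard]
    exact hcop
  · -- the index of `K` in `M` is a power of `p`
    have hKdvd : Nat.card ↥(K₁.map (M ⊔ (P : Subgroup G)).subtype) ∣ Nat.card ↥M :=
      Subgroup.card_dvd_of_le hKM
    obtain ⟨t, ht⟩ := hKdvd
    have hMdvd : Nat.card ↥M ∣ Nat.card ↥(M ⊔ (P : Subgroup G)) :=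
      Subgroup.card_dvd_of_le hMH
    rw [ht, hKcard, ← hK₁card] at hMdvd
    have hpos : 0 < Nat.card ↥K₁ := Nat.card_pos
    have htdvd : t ∣ Nat.card ↥(P : Subgroup G) := Nat.dvd_of_mul_dvd_mul_left hpos hMdvd
    rw [hPcard] at htdvd
    obtain ⟨j, -, hj⟩ := (Nat.dvd_prime_pow hp).mp htdvd
    exact ⟨j, by rw [ht, hj]⟩

end Cfsg.Agent.Lib.Helper5.AOPCOMPL
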