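import Mathlib

/-!
helper5: block-diagonal matrices `diag(A, c)` of size `m + 1`, with the `1 × 1` block at the
last index, and the block embedding `SL_m → SL_{m+1}`.
-/

set_option autoImplicit false

namespace Cfsg.Agent.Lib.Helper5.BlockLast

open Matrix

variable {F : Type*} [Field F] {m : ℕ}

/-- block diagonal matrix `diag(A, c)` with the `1 × 1` block at the last index. -/
def blk (A : Matrix (Fin m) (Fin m) F) (c : F) : Matrix (Fin (m + 1)) (Fin (m + 1)) F :=
  Matrix.of fun i j => Fin.lastCases (Fin.lastCases c (fun _ => 0) j)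
    (fun i' => Fin.lastCases 0 (fun j' => A i' j') j) i

@[simp] lemma blk_cc (A : Matrix (Fin m) (Fin m) F) (c : F) (i j : Fin m) :
    blk A c (Fin.castSucc i) (Fin.castSucc j) = A i j := by simp [blk]

@[simp] lemma blk_cl (A : Matrix (Fin m) (Fin m) F) (c : F) (i : Fin m) :
    blk A c (Fin.castSucc i) (Fin.last m) = 0 := by simp [blk]

@[simp] lemma blk_lc (A : Matrix (Fin m) (Fin m) F) (c : F) (j : Fin m) :
    blk A c (Fin.last m) (Fin.castSucc j) = 0 := by simp [blk]

@[simp] lemma blk_ll (A : Matrix (Fin m) (Fin m) F) (c : F) :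
    blk A c (Fin.last m) (Fin.last m) = c := by simp [blk]

/-- block diagonal shape. -/
def IsBlk (g : Matrix (Fin (m + 1)) (Fin (m + 1)) F) : Prop :=
  (∀ i : Fin m, g (Fin.castSucc i) (Fin.last m) = 0) ∧
    (∀ i : Fin m, g (Fin.last m) (Fin.castSucc i) = 0)

lemma isBlk_blk (A : Matrix (Fin m) (Fin m) F) (c : F) : IsBlk (blk A c) :=
  ⟨fun i => by simp, fun i => by simp⟩

lemma IsBlk.eq_blk {g : Matrix (Fin (m + 1)) (Fin (m + 1)) F} (hg : IsBlk g) :
    g = blk (g.submatrix Fin.castSucc Fin.castSucc) (g (Fin.last m) (Fin.last m)) := by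
  ext i j
  induction i using Fin.lastCases with
  | last =>
    induction j using Fin.lastCases with
    | last => simp
    | cast j => simp [hg.2 j]
  | cast i =>
    induction j using Fin.lastCases with
    | last => simp [hg.1 i]
    | cast j => simp

lemma blk_submatrix (A : Matrix (Fin m) (Fin m) F) (c : F) :
    (blk A c).submatrix Fin.castSucc Fin.castSucc = A := by
  ext i j; simp

lemma blk_mul (A B : Matrix (Fin m) (Fin m) F) (c d : F) :
    blk A c * blk B d = blk (A * B) (c * d) := by
  ext i j
  induction i using Fin.lastCases with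
  | last =>
    induction j using Fin.lastCases with
    | last => simp [Matrix.mul_apply, Fin.sum_univ_castSucc]
    | cast j => simp [Matrix.mul_apply, Fin.sum_univ_castSucc]
  | cast i =>
    induction j using Fin.lastCases with
    | last => simp [Matrix.mul_apply, Fin.sum_univ_castSucc]
    | cast j => simp [Matrix.mul_apply, Fin.sum_univ_castSucc]

lemma blk_one : blk (1 : Matrix (Fin m) (Fin m) F) 1 = 1 := by
  ext i j
  induction i using Fin.lastCases with
  | last =>
    induction j using Fin.lastCases with
    | last => simp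
    | cast j => simp [Matrix.one_apply, Fin.ext_iff, (Fin.is_lt j).ne']
  | cast i =>
    induction j using Fin.lastCases with
    | last => simp [Matrix.one_apply, Fin.ext_iff, (Fin.is_lt i).ne]
    | cast j => simp [Matrix.one_apply]

lemma blk_inj {A B : Matrix (Fin m) (Fin m) F} {c d : F} (h : blk A c = blk B d) :
    A = B ∧ c = d := by
  refine ⟨?_, ?_⟩
  · ext i j
    have := congrFun (congrFun h (Fin.castSucc i)) (Fin.castSucc j)
    simpa using this
  · have := congrFun (congrFun h (Fin.last m)) (Fin.last m)
    simpa using this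

lemma det_blk (A : Matrix (Fin m) (Fin m) F) (c : F) : (blk A c).det = A.det * c := by
  rw [Matrix.det_succ_row _ (Fin.last m), Fin.sum_univ_castSucc]
  simp only [blk_lc, mul_zero, zero_mul, Finset.sum_const_zero, zero_add, blk_ll,
    Fin.succAbove_last, blk_submatrix, Fin.val_last]
  rw [← two_mul, pow_mul]
  simp [mul_comm]

/-- a matrix commuting with a diagonal matrix whose last entry differs from all others is
block diagonal. -/
lemma isBlk_of_commute {g : Matrix (Fin (m + 1)) (Fin (m + 1)) F} {d : Fin (m + 1) → F}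
    (h : g * Matrix.diagonal d = Matrix.diagonal d * g)
    (hd : ∀ i : Fin m, d (Fin.castSucc i) ≠ d (Fin.last m)) : IsBlk g := by
  have key : ∀ i j, g i j * d j = d i * g i j := fun i j => by
    have := congrFun (congrFun h i) j
    simpa [Matrix.mul_diagonal, Matrix.diagonal_mul] using this
  refine ⟨fun i => ?_, fun i => ?_⟩
  · have h1 := key (Fin.castSucc i) (Fin.last m)
    have h2 : g (Fin.castSucc i) (Fin.last m) * (d (Fin.last m) - d (Fin.castSucc i)) = 0 := by
      linear_combination h1
    rcases mul_eq_zero.1 h2 with h3 | h3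
    · exact h3
    · exact absurd (sub_eq_zero.1 h3).symm (hd i)
  · have h1 := key (Fin.last m) (Fin.castSucc i)
    have h2 : g (Fin.last m) (Fin.castSucc i) * (d (Fin.castSucc i) - d (Fin.last m)) = 0 := by
      linear_combination h1
    rcases mul_eq_zero.1 h2 with h3 | h3
    · exact h3
    · exact absurd (sub_eq_zero.1 h3) (hd i)

/-- `diag(b, …, b, a)` as a diagonal matrix. -/
lemma blk_smul_one (b a : F) :
    blk (b • (1 : Matrix (Fin m) (Fin m) F)) a = Matrix.diagonal (Fin.lastCases a (fun _ => b)) := by
  ext i j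
  induction i using Fin.lastCases with
  | last =>
    induction j using Fin.lastCases with
    | last => simp
    | cast j => simp [Matrix.diagonal_apply, Fin.ext_iff, (Fin.is_lt j).ne']
  | cast i =>
    induction j using Fin.lastCases with
    | last => simp [Matrix.diagonal_apply, Fin.ext_iff, (Fin.is_lt i).ne]
    | cast j => simp [Matrix.diagonal_apply, Matrix.one_apply]

/-- the block embedding `SL_m → SL_{m+1}`. -/
def emb : Matrix.SpecialLinearGroup (Fin m) F →* Matrix.SpecialLinearGroup (Fin (m + 1)) F where
  toFun S := ⟨blk S.1 1, by rw [det_blk, S.2, mul_one]⟩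
  map_one' := by
    apply Subtype.ext
    simp [blk_one]
  map_mul' S T := by
    apply Subtype.ext
    change blk ((S * T : Matrix.SpecialLinearGroup (Fin m) F) : Matrix _ _ F) 1
      = blk S.1 1 * blk T.1 1
    rw [blk_mul, mul_one, Matrix.SpecialLinearGroup.coe_mul]

lemma emb_coe (S : Matrix.SpecialLinearGroup (Fin m) F) :
    ((emb S : Matrix.SpecialLinearGroup (Fin (m + 1)) F) : Matrix (Fin (m + 1)) (Fin (m + 1)) F)
      = blk S.1 1 := rfl

lemma emb_injective : Function.Injective (emb : Matrix.SpecialLinearGroup (Fin m) F →* _) := by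
  intro S T h
  apply Subtype.ext
  have := congrArg Subtype.val h
  exact (blk_inj this).1

/-- a block diagonal matrix of determinant one with last entry one comes from `SL_m`. -/
lemma exists_of_isBlk {g : Matrix (Fin (m + 1)) (Fin (m + 1)) F} (hg : IsBlk g)
    (hl : g (Fin.last m) (Fin.last m) = 1) (hd : g.det = 1) :
    ∃ S : Matrix.SpecialLinearGroup (Fin m) F, blk S.1 1 = g := by
  have h1 := hg.eq_blk
  rw [hl] at h1
  have h2 : (g.submatrix Fin.castSucc Fin.castSucc).det = 1 := by
    rw [h1, det_blk, mul_one] at hd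
    exact hd
  exact ⟨⟨_, h2⟩, h1.symm⟩

/-- conjugating a block matrix with last entry one by a block matrix. -/
lemma conj_blk {g g' h : Matrix (Fin (m + 1)) (Fin (m + 1)) F} (hg : IsBlk g) (hg' : IsBlk g')
    (hh : IsBlk h) (hl : h (Fin.last m) (Fin.last m) = 1) (hgg : g * g' = 1) :
    IsBlk (g * h * g') ∧ (g * h * g') (Fin.last m) (Fin.last m) = 1 := by
  rw [hg.eq_blk, hg'.eq_blk, hh.eq_blk, hl, blk_mul, blk_mul]
  refine ⟨isBlk_blk _ _, ?_⟩
  rw [blk_ll, mul_one]
  have := hgg
  rw [hg.eq_blk, hg'.eq_blk, blk_mul, ← blk_one] at this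
  simpa using (blk_inj this).2

/-- a matrix commuting with all `diag(S, 1)`, `S ∈ SL_m`, `m ≥ 2`, is `diag(b, …, b, a)`. -/
lemma cent_emb (hm : 2 ≤ m) {g : Matrix (Fin (m + 1)) (Fin (m + 1)) F}
    (h : ∀ S : Matrix.SpecialLinearGroup (Fin m) F, g * blk S.1 1 = blk S.1 1 * g) :
    ∃ b a : F, g = blk (b • (1 : Matrix (Fin m) (Fin m) F)) a := by
  -- commutation with elementary matrices
  have key : ∀ i j : Fin m, i ≠ j → ∀ k l : Fin (m + 1),
      (if l = Fin.castSucc j then g k (Fin.castSucc i) else 0)
        = (if k = Fin.castSucc i then g (Fin.castSucc j) l else 0) := by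
    intro i j hij k l
    have h1 := h (Matrix.SpecialLinearGroup.transvection hij 1)
    have h2 : blk (Matrix.SpecialLinearGroup.transvection hij (1 : F)).1 1
        = 1 + Matrix.single (Fin.castSucc i) (Fin.castSucc j) (1 : F) := by
      rw [Matrix.SpecialLinearGroup.transvection_coe]
      ext a b
      induction a using Fin.lastCases with
      | last =>
        induction b using Fin.lastCases with
        | last => simp [Matrix.single_apply, Matrix.one_apply, Fin.ext_iff, (Fin.is_lt i).ne]
        | cast b => simp [Matrix.single_apply, Matrix.one_apply, Fin.ext_iff, (Fin.is_lt b).ne',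
            (Fin.is_lt i).ne]
      | cast a =>
        induction b using Fin.lastCases with
        | last => simp [Matrix.single_apply, Matrix.one_apply, Fin.ext_iff, (Fin.is_lt a).ne,
            (Fin.is_lt j).ne]
        | cast b => simp [Matrix.single_apply, Matrix.one_apply, Fin.ext_iff]
    rw [h2, mul_add, add_mul, mul_one, one_mul] at h1
    have h3 := add_left_cancel h1
    have h4 := congrFun (congrFun h3 k) l
    have h5 : (g * Matrix.single (Fin.castSucc i) (Fin.castSucc j) (1 : F)) k l
        = if l = Fin.castSucc j then g k (Fin.castSucc i) else 0 := by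
      by_cases hl : l = Fin.castSucc j
      · subst hl
        rw [Matrix.mul_single_apply_same, mul_one, if_pos rfl]
      · rw [Matrix.mul_single_apply_of_ne (hbj := hl), if_neg hl]
    have h6 : (Matrix.single (Fin.castSucc i) (Fin.castSucc j) (1 : F) * g) k l
        = if k = Fin.castSucc i then g (Fin.castSucc j) l else 0 := by
      by_cases hk : k = Fin.castSucc i
      · subst hk
        rw [Matrix.single_mul_apply_same, one_mul, if_pos rfl]
      · rw [Matrix.single_mul_apply_of_ne (h := hk), if_neg hk]
    rw [← h5, ← h6]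
    exact h4
  have hcol : ∀ (i : Fin m) (k : Fin (m + 1)), k ≠ Fin.castSucc i → g k (Fin.castSucc i) = 0 := by
    intro i k hk
    obtain ⟨j, hj⟩ : ∃ j : Fin m, i ≠ j := by
      by_cases h0 : i = ⟨0, by omega⟩
      · exact ⟨⟨1, by omega⟩, by rw [h0]; simp [Fin.ext_iff]⟩
      · exact ⟨⟨0, by omega⟩, h0⟩
    have := key i j hj k (Fin.castSucc j)
    simpa [hk] using this
  have hrow : ∀ (j : Fin m) (l : Fin (m + 1)), l ≠ Fin.castSucc j → g (Fin.castSucc j) l = 0 := by
    intro j l hl
    obtain ⟨i, hi⟩ : ∃ i : Fin m, i ≠ j := by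
      by_cases h0 : j = ⟨0, by omega⟩
      · exact ⟨⟨1, by omega⟩, by rw [h0]; simp [Fin.ext_iff]⟩
      · exact ⟨⟨0, by omega⟩, fun h => h0 h.symm⟩
    have := key i j hi (Fin.castSucc i) l
    simpa [hl] using this.symm
  have hdiag : ∀ i j : Fin m, g (Fin.castSucc i) (Fin.castSucc i) = g (Fin.castSucc j) (Fin.castSucc j) := by
    intro i j
    by_cases hij : i = j
    · rw [hij]
    · have := key i j hij (Fin.castSucc i) (Fin.castSucc j)
      simpa using this
  refine ⟨g (Fin.castSucc ⟨0, by omega⟩) (Fin.castSucc ⟨0, by omega⟩), g (Fin.last m) (Fin.last m), ?_⟩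
  ext i j
  induction i using Fin.lastCases with
  | last =>
    induction j using Fin.lastCases with
    | last => simp
    | cast j =>
      rw [blk_lc]
      exact hcol j _ (by simp [Fin.ext_iff, (Fin.is_lt j).ne'])
  | cast i =>
    induction j using Fin.lastCases with
    | last =>
      rw [blk_cl]
      exact hrow i _ (by simp [Fin.ext_iff, (Fin.is_lt i).ne'])
    | cast j =>
      rw [blk_cc, Matrix.smul_apply, Matrix.one_apply]
      by_cases hij : i = j
      · subst hij
        simp [hdiag i ⟨0, by omega⟩]
      · simp only [hij, if_false, smul_zero]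
        exact hrow i _ (by simpa [Fin.ext_iff] using hij ∘ Fin.ext ∘ Eq.symm)

end Cfsg.Agent.Lib.Helper5.BlockLast
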