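import Mathlib
import Cfsg.Agent.Lib.Helper76.BrRBStmt

set_option autoImplicit false

/-! S4504 piece [INJ]: the members of `S` have distinct restrictions to `P`. -/

namespace Cfsg.Agent.Lib.Helper5.BrRBINJ

open Cfsg Cfsg.Agent.Lib.Helper76.BrRB
open scoped ComplexConjugate Classical

universe u

/-- multiplication by `k`, prime to `p`, permutes the residues mod `p` -/
theorem sum_range_mul_perm (p k : ℕ) [Fact p.Prime] (hk : (k : ZMod p) ≠ 0) (H : ℕ → ℂ)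
    (hH : ∀ a, H (a % p) = H a) :
    ∑ a ∈ Finset.range p, H (k * a) = ∑ b ∈ Finset.range p, H b := by
  have hp : p.Prime := Fact.out
  have hinj : ∀ a ∈ Finset.range p, ∀ b ∈ Finset.range p,
      (k * a) % p = (k * b) % p → a = b := by
    intro a ha b hb hab
    have ha' : a < p := Finset.mem_range.mp ha
    have hb' : b < p := Finset.mem_range.mp hb
    have h1 : ((k * a : ℕ) : ZMod p) = ((k * b : ℕ) : ZMod p) :=
      (ZMod.natCast_eq_natCast_iff _ _ _).mpr hab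
    push_cast at h1
    have h2 := mul_left_cancel₀ hk h1
    have h3 : a % p = b % p := (ZMod.natCast_eq_natCast_iff _ _ _).mp h2
    rwa [Nat.mod_eq_of_lt ha', Nat.mod_eq_of_lt hb'] at h3
  have himg : (Finset.range p).image (fun a => (k * a) % p) = Finset.range p := by
    apply Finset.eq_of_subset_of_card_le
    · intro b hb
      obtain ⟨a, -, rfl⟩ := Finset.mem_image.mp hb
      exact Finset.mem_range.mpr (Nat.mod_lt _ hp.pos)
    · rw [Finset.card_image_of_injOn (fun a ha b hb h => hinj a ha b hb h)]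
  calc ∑ a ∈ Finset.range p, H (k * a) = ∑ a ∈ Finset.range p, H ((k * a) % p) :=
        Finset.sum_congr rfl (fun a _ => (hH _).symm)
    _ = ∑ b ∈ (Finset.range p).image (fun a => (k * a) % p), H b :=
        (Finset.sum_image hinj).symm
    _ = ∑ b ∈ Finset.range p, H b := by rw [himg]

theorem main : INJ.{u} := by
  intro L _ _ p _ c S ψ₀ hO hidx μ₁ hμ₁ μ₂ hμ₂ hagree
  obtain ⟨hψ₀, hScard, hξ, hconj⟩ := hO
  have hpp : p.Prime := Fact.out
  have hne : NeZero p := ⟨hpp.ne_zero⟩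
  have hcardP := c.hP
  have hcls : ∀ g h : L, c.ξ (h * g * h⁻¹) = c.ξ g := by
    obtain ⟨n, ρ, -, hρ⟩ := c.hξ
    intro g h
    rw [← hρ]
    exact Representation.char_conj ρ g h
  obtain ⟨x, hx, hx1⟩ : ∃ x : L, x ∈ (c.P : Subgroup L) ∧ x ≠ 1 := by
    have hnt : Nontrivial ↥(c.P : Subgroup L) := by
      apply (Finite.one_lt_card_iff_nontrivial).mp
      rw [hcardP]
      exact hpp.one_lt
    obtain ⟨y, hy⟩ := exists_ne (1 : ↥(c.P : Subgroup L))
    exact ⟨y.1, y.2, fun h => hy (Subtype.ext h)⟩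
  have hxp : x ^ p = 1 := by
    have h1 := pow_card_eq_one' (G := ↥(c.P : Subgroup L)) (x := ⟨x, hx⟩)
    rw [hcardP] at h1
    exact congrArg Subtype.val h1
  have hord : orderOf x = p := orderOf_eq_prime hxp hx1
  have hpow : ∀ u : L, u ∈ (c.P : Subgroup L) → ∃ k : ℕ, x ^ k = u := by
    intro u hu
    have hx1' : (⟨x, hx⟩ : ↥(c.P : Subgroup L)) ≠ 1 := fun h => hx1 (congrArg Subtype.val h)
    have h2 : (⟨u, hu⟩ : ↥(c.P : Subgroup L)) ∈ Submonoid.powers (⟨x, hx⟩ : ↥(c.P : Subgroup L)) :=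
      mem_powers_of_prime_card hcardP hx1'
    obtain ⟨k, hk⟩ := h2
    exact ⟨k, congrArg Subtype.val hk⟩
  have hxa : ∀ a : ℕ, x ^ a ∈ (c.P : Subgroup L) := fun a => Subgroup.pow_mem _ hx a
  have hcomm : ∀ a : ℕ, x ^ a ∈ Subgroup.centralizer ((c.P : Subgroup L) : Set L) := by
    intro a
    rw [Subgroup.mem_centralizer_iff]
    intro h hh
    obtain ⟨k, rfl⟩ := hpow h hh
    rw [← pow_add, ← pow_add, add_comm]
  obtain ⟨ζ, hζ⟩ : ∃ ζ : ℂ, ζ = ((ψ₀ ⟨x, hx⟩ : ℂˣ) : ℂ) := ⟨_, rfl⟩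
  have hζ0 : ζ ≠ 0 := hζ ▸ Units.ne_zero _
  have hζpow : ∀ k : ℕ, ((ψ₀ ⟨x ^ k, hxa k⟩ : ℂˣ) : ℂ) = ζ ^ k := by
    intro k
    have h1 : (⟨x ^ k, hxa k⟩ : ↥(c.P : Subgroup L)) = ⟨x, hx⟩ ^ k := rfl
    rw [h1, map_pow, Units.val_pow_eq_pow_val, hζ]
  have hζp : ζ ^ p = 1 := by
    rw [← hζpow]
    have h1 : (⟨x ^ p, hxa p⟩ : ↥(c.P : Subgroup L)) = 1 := Subtype.ext hxp
    rw [h1, map_one]
    rfl
  have hζ1 : ζ ≠ 1 := by
    intro h1
    apply hψ₀
    apply MonoidHom.ext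
    intro u
    obtain ⟨k, hk⟩ := hpow u.1 u.2
    have h2 : u = ⟨x ^ k, hxa k⟩ := Subtype.ext hk.symm
    rw [h2]
    apply Units.ext
    rw [hζpow, h1, one_pow]
    rfl
  have hζord : orderOf ζ = p := orderOf_eq_prime hζp hζ1
  have hprim : IsPrimitiveRoot ζ p := hζord ▸ IsPrimitiveRoot.orderOf ζ
  have hmod : ∀ m n : ℕ, (m : ZMod p) = (n : ZMod p) → ζ ^ m = ζ ^ n := by
    intro m n h
    have h' : m % p = n % p := (ZMod.natCast_eq_natCast_iff m n p).mp h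
    rw [← pow_mod_orderOf ζ m, ← pow_mod_orderOf ζ n, hζord, h']
  have hζmod : ∀ m n : ℕ, ζ ^ m = ζ ^ n → (m : ZMod p) = (n : ZMod p) := by
    intro m n h
    rw [← pow_mod_orderOf ζ m, ← pow_mod_orderOf ζ n, hζord] at h
    have h3 := hprim.pow_inj (Nat.mod_lt _ hpp.pos) (Nat.mod_lt _ hpp.pos) h
    exact (ZMod.natCast_eq_natCast_iff m n p).mpr h3
  have hxmod : ∀ m n : ℕ, (m : ZMod p) = (n : ZMod p) → x ^ m = x ^ n := by
    intro m n h
    have h' : m % p = n % p := (ZMod.natCast_eq_natCast_iff m n p).mp h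
    rw [← pow_mod_orderOf x m, ← pow_mod_orderOf x n, hord, h']
  -- inverse root
  have hζip : (ζ⁻¹) ^ p = 1 := by rw [inv_pow, hζp, inv_one]
  have hmodi : ∀ m n : ℕ, (m : ZMod p) = (n : ZMod p) → (ζ⁻¹) ^ m = (ζ⁻¹) ^ n := by
    intro m n h
    rw [inv_pow, inv_pow, hmod m n h]
  -- exponents of the members of S
  have hk0 : ∀ (n : L) (k : ℕ), n * x * n⁻¹ = x ^ k → (k : ZMod p) ≠ 0 := by
    intro n k hk h0
    have hpk : p ∣ k := (ZMod.natCast_eq_zero_iff k p).mp h0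
    have h3 : x ^ k = 1 := by
      rw [← hord] at hpk
      exact orderOf_dvd_iff_pow_eq_one.mp hpk
    rw [h3] at hk
    apply hx1
    have h4 : x = n⁻¹ * (n * x * n⁻¹) * n := by group
    rw [h4, hk]
    group
  have hκ : ∀ μ : ↥(Subgroup.centralizer ((c.P : Subgroup L) : Set L)) →* ℂˣ, ∃ k : ℕ, μ ∈ S →
      ((∃ n : L, n ∈ Subgroup.normalizer ((c.P : Subgroup L) : Set L) ∧ n * x * n⁻¹ = x ^ k) ∧
        ∀ a : ℕ, ((μ ⟨x ^ a, hcomm a⟩ : ℂˣ) : ℂ) = ζ ^ (k * a)) := by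
    intro μ
    by_cases hμ : μ ∈ S
    · obtain ⟨n, hn, hnμ⟩ := hconj μ hμ
      have hnx : n * x * n⁻¹ ∈ (c.P : Subgroup L) := (Subgroup.mem_normalizer_iff.mp hn x).mp hx
      obtain ⟨k, hk⟩ := hpow _ hnx
      refine ⟨k, fun _ => ⟨⟨n, hn, hk.symm⟩, ?_⟩⟩
      intro a
      have hconja : x ^ (k * a) = n * x ^ a * n⁻¹ := by
        rw [pow_mul, hk, conj_pow]
      have h5 := hnμ ⟨x ^ a, hxa a⟩ ⟨x ^ (k * a), hxa (k * a)⟩ ⟨x ^ a, hcomm a⟩ rfl hconja
      rw [h5, hζpow]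
    · exact ⟨0, fun h => absurd h hμ⟩
  choose κ hκ using hκ
  -- the set of exponents of the normaliser
  obtain ⟨K, hK⟩ : ∃ K : Finset (ZMod p), ∀ t : ZMod p, t ∈ K ↔
      ∃ n : L, n ∈ Subgroup.normalizer ((c.P : Subgroup L) : Set L) ∧
        n * x * n⁻¹ = x ^ t.val :=
    ⟨Finset.univ.filter (fun t => ∃ n : L,
      n ∈ Subgroup.normalizer ((c.P : Subgroup L) : Set L) ∧ n * x * n⁻¹ = x ^ t.val),
      fun t => by rw [Finset.mem_filter]; simp⟩
  have hKmem : ∀ (n : L) (k : ℕ), n ∈ Subgroup.normalizer ((c.P : Subgroup L) : Set L) →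
      n * x * n⁻¹ = x ^ k → (k : ZMod p) ∈ K := by
    intro n k hn hk
    rw [hK]
    refine ⟨n, hn, ?_⟩
    rw [hk]
    apply hxmod
    rw [ZMod.natCast_zmod_val]
  -- multiplicities
  obtain ⟨cnt, hcnt⟩ : ∃ cnt : ZMod p → ℕ, ∀ t, cnt t =
      (S.filter (fun μ => (κ μ : ZMod p) = t)).card := ⟨_, fun t => rfl⟩
  have hA : ∀ j : ℕ, ∑ a ∈ Finset.range p, c.ξ (x ^ a) * (ζ⁻¹) ^ (j * a) =
      (p : ℂ) * (cnt (j : ZMod p) : ℂ) := by
    intro j
    have h1 : ∀ a : ℕ, c.ξ (x ^ a) = ∑ μ ∈ S, ζ ^ (κ μ * a) := by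
      intro a
      have h6 := hξ ⟨x ^ a, hcomm a⟩
      rw [show c.ξ (x ^ a) = c.ξ ((⟨x ^ a, hcomm a⟩ :
        ↥(Subgroup.centralizer ((c.P : Subgroup L) : Set L))) : L) from rfl, h6]
      exact Finset.sum_congr rfl (fun μ hμ => (hκ μ hμ).2 a)
    have h2 : ∀ μ ∈ S, ∑ a ∈ Finset.range p, ζ ^ (κ μ * a) * (ζ⁻¹) ^ (j * a) =
        if (κ μ : ZMod p) = (j : ZMod p) then (p : ℂ) else 0 := by
      intro μ hμ
      have h3 : ∀ a : ℕ, ζ ^ (κ μ * a) * (ζ⁻¹) ^ (j * a) = (ζ ^ κ μ * (ζ⁻¹) ^ j) ^ a := by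
        intro a
        rw [mul_pow, ← pow_mul, ← pow_mul]
      rw [Finset.sum_congr rfl (fun a _ => h3 a)]
      split_ifs with h
      · have h4 : ζ ^ κ μ * (ζ⁻¹) ^ j = 1 := by
          rw [hmod _ _ h, inv_pow]
          exact mul_inv_cancel₀ (pow_ne_zero _ hζ0)
        rw [h4]
        simp
      · have hw1 : ζ ^ κ μ * (ζ⁻¹) ^ j ≠ 1 := by
          intro h1'
          apply h
          apply hζmod
          rw [inv_pow] at h1'
          exact (mul_inv_eq_one₀ (pow_ne_zero _ hζ0)).mp h1'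
        have hwp : (ζ ^ κ μ * (ζ⁻¹) ^ j) ^ p = 1 := by
          rw [mul_pow, ← pow_mul, ← pow_mul, mul_comm (κ μ) p, mul_comm j p, pow_mul, pow_mul,
            hζp, hζip, one_pow, one_pow, one_mul]
        have hword := orderOf_eq_prime hwp hw1
        exact (hword ▸ IsPrimitiveRoot.orderOf _).geom_sum_eq_zero hpp.one_lt
    calc ∑ a ∈ Finset.range p, c.ξ (x ^ a) * (ζ⁻¹) ^ (j * a)
        = ∑ a ∈ Finset.range p, ∑ μ ∈ S, ζ ^ (κ μ * a) * (ζ⁻¹) ^ (j * a) := by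
          apply Finset.sum_congr rfl
          intro a _
          rw [h1 a, Finset.sum_mul]
      _ = ∑ μ ∈ S, ∑ a ∈ Finset.range p, ζ ^ (κ μ * a) * (ζ⁻¹) ^ (j * a) := Finset.sum_comm
      _ = ∑ μ ∈ S, (if (κ μ : ZMod p) = (j : ZMod p) then (p : ℂ) else 0) :=
          Finset.sum_congr rfl h2
      _ = (p : ℂ) * (cnt (j : ZMod p) : ℂ) := by
          rw [Finset.sum_ite, Finset.sum_const, Finset.sum_const_zero, add_zero, hcnt,
            nsmul_eq_mul, mul_comm]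
  have hB : ∀ (n : L) (k : ℕ), n ∈ Subgroup.normalizer ((c.P : Subgroup L) : Set L) →
      n * x * n⁻¹ = x ^ k → ∀ j : ℕ, cnt ((j * k : ℕ) : ZMod p) = cnt (j : ZMod p) := by
    intro n k hn hk j
    have hcl : ∀ a : ℕ, c.ξ (x ^ (k * a)) = c.ξ (x ^ a) := by
      intro a
      rw [pow_mul, ← hk, conj_pow, hcls]
    have hper : ∀ a : ℕ, c.ξ (x ^ (a % p)) * (ζ⁻¹) ^ (j * (a % p)) =
        c.ξ (x ^ a) * (ζ⁻¹) ^ (j * a) := by
      intro a
      have h1 : x ^ (a % p) = x ^ a := by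
        rw [← hord]
        exact pow_mod_orderOf x a
      have h2 : (ζ⁻¹) ^ (j * (a % p)) = (ζ⁻¹) ^ (j * a) := by
        apply hmodi
        push_cast
        rw [ZMod.natCast_mod]
      rw [h1, h2]
    have h3 := sum_range_mul_perm p k (hk0 n k hk)
      (fun b => c.ξ (x ^ b) * (ζ⁻¹) ^ (j * b)) hper
    have h4 : ∑ a ∈ Finset.range p, c.ξ (x ^ a) * (ζ⁻¹) ^ (j * k * a) =
        ∑ a ∈ Finset.range p, c.ξ (x ^ (k * a)) * (ζ⁻¹) ^ (j * (k * a)) := by
      apply Finset.sum_congr rfl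
      intro a _
      rw [hcl a, mul_assoc]
    have h5 : (p : ℂ) * (cnt ((j * k : ℕ) : ZMod p) : ℂ) = (p : ℂ) * (cnt (j : ZMod p) : ℂ) := by
      rw [← hA (j * k), ← hA j, h4]
      exact h3
    have hp0 : (p : ℂ) ≠ 0 := Nat.cast_ne_zero.mpr hpp.ne_zero
    exact Nat.cast_injective (mul_left_cancel₀ hp0 h5)
  -- the number of exponents
  have hC : charDegree c.ξ ≤ K.card := by
    rw [← hidx]
    obtain ⟨Nf, hNf⟩ : ∃ Nf : Finset L, ∀ n, n ∈ Nf ↔
        n ∈ Subgroup.normalizer ((c.P : Subgroup L) : Set L) :=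
      ⟨Finset.univ.filter (fun n => n ∈ Subgroup.normalizer ((c.P : Subgroup L) : Set L)),
        fun n => by rw [Finset.mem_filter]; simp⟩
    obtain ⟨Cf, hCf⟩ : ∃ Cf : Finset L, ∀ n, n ∈ Cf ↔
        n ∈ Subgroup.centralizer ((c.P : Subgroup L) : Set L) :=
      ⟨Finset.univ.filter (fun n => n ∈ Subgroup.centralizer ((c.P : Subgroup L) : Set L)),
        fun n => by rw [Finset.mem_filter]; simp⟩
    have hkf : ∀ n : L, ∃ k : ℕ, n ∈ Subgroup.normalizer ((c.P : Subgroup L) : Set L) →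
        n * x * n⁻¹ = x ^ k := by
      intro n
      by_cases hn : n ∈ Subgroup.normalizer ((c.P : Subgroup L) : Set L)
      · have hnx : n * x * n⁻¹ ∈ (c.P : Subgroup L) :=
          (Subgroup.mem_normalizer_iff.mp hn x).mp hx
        obtain ⟨k, hk⟩ := hpow _ hnx
        exact ⟨k, fun _ => hk.symm⟩
      · exact ⟨0, fun h => absurd h hn⟩
    choose kf hkf using hkf
    have hfib : ∀ t ∈ Nf.image (fun n => (kf n : ZMod p)),
        (Nf.filter (fun n => (kf n : ZMod p) = t)).card ≤ Cf.card := by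
      intro t ht
      obtain ⟨n₀, hn₀, rfl⟩ := Finset.mem_image.mp ht
      apply Finset.card_le_card_of_injOn (fun n => n₀⁻¹ * n)
      · intro n hn
        rw [Finset.mem_coe, Finset.mem_filter] at hn
        rw [Finset.mem_coe, hCf]
        have e1 : n * x * n⁻¹ = n₀ * x * n₀⁻¹ := by
          rw [hkf n ((hNf n).mp hn.1), hkf n₀ ((hNf n₀).mp hn₀)]
          exact hxmod _ _ hn.2
        have hc : Commute (n₀⁻¹ * n) x := by
          show n₀⁻¹ * n * x = x * (n₀⁻¹ * n)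
          calc n₀⁻¹ * n * x = n₀⁻¹ * (n * x * n⁻¹) * n := by group
            _ = n₀⁻¹ * (n₀ * x * n₀⁻¹) * n := by rw [e1]
            _ = x * (n₀⁻¹ * n) := by group
        rw [Subgroup.mem_centralizer_iff]
        intro h hh
        obtain ⟨k, rfl⟩ := hpow h hh
        exact ((hc.pow_right k).eq).symm
      · intro a _ b _ hab
        exact mul_left_cancel hab
    have h1 := Finset.card_le_mul_card_image Nf Cf.card hfib
    have h2 : (Nf.image (fun n => (kf n : ZMod p))).card ≤ K.card := by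
      apply Finset.card_le_card
      intro t ht
      obtain ⟨n, hn, rfl⟩ := Finset.mem_image.mp ht
      exact hKmem n _ ((hNf n).mp hn) (hkf n ((hNf n).mp hn))
    have hNcard : Nat.card ↥(Subgroup.normalizer ((c.P : Subgroup L) : Set L)) = Nf.card :=
      Nat.subtype_card Nf hNf
    have hCcard : Nat.card ↥(Subgroup.centralizer ((c.P : Subgroup L) : Set L)) = Cf.card :=
      Nat.subtype_card Cf hCf
    have hCN : Subgroup.centralizer ((c.P : Subgroup L) : Set L) ≤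
        Subgroup.normalizer ((c.P : Subgroup L) : Set L) := Subgroup.centralizer_le_normalizer _
    have hidx' := Subgroup.card_mul_index ((Subgroup.centralizer ((c.P : Subgroup L) : Set L)).subgroupOf
      (Subgroup.normalizer ((c.P : Subgroup L) : Set L)))
    rw [Nat.card_congr (Subgroup.subgroupOfEquivOfLe hCN).toEquiv, hNcard, hCcard] at hidx'
    have hCpos : 0 < Cf.card := Finset.card_pos.mpr ⟨1, (hCf 1).mpr (Subgroup.one_mem _)⟩
    have h3 : Cf.card * (Subgroup.centralizer ((c.P : Subgroup L) : Set L)).relIndex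
        (Subgroup.normalizer ((c.P : Subgroup L) : Set L)) ≤ Cf.card * K.card := by
      calc Cf.card * (Subgroup.centralizer ((c.P : Subgroup L) : Set L)).relIndex
            (Subgroup.normalizer ((c.P : Subgroup L) : Set L)) = Nf.card := hidx'
        _ ≤ Cf.card * (Nf.image (fun n => (kf n : ZMod p))).card := h1
        _ ≤ Cf.card * K.card := Nat.mul_le_mul_left _ h2
    exact Nat.le_of_mul_le_mul_left h3 hCpos
  -- fibers
  have hS1 : S.card = ∑ t ∈ K, cnt t := by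
    have hmaps : Set.MapsTo (fun μ => (κ μ : ZMod p)) (S : Set _) (K : Set (ZMod p)) := by
      intro μ hμ
      obtain ⟨n, hn, hnk⟩ := (hκ μ (Finset.mem_coe.mp hμ)).1
      exact Finset.mem_coe.mpr (hKmem n _ hn hnk)
    rw [Finset.card_eq_sum_card_fiberwise hmaps]
    exact Finset.sum_congr rfl (fun t _ => (hcnt t).symm)
  have hconst : ∀ t ∈ K, cnt t = cnt 1 := by
    intro t ht
    obtain ⟨n, hn, hnt⟩ := (hK t).mp ht
    have h1 := hB n t.val hn hnt 1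
    rw [one_mul, ZMod.natCast_zmod_val, Nat.cast_one] at h1
    exact h1
  rw [Finset.sum_congr rfl hconst, Finset.sum_const, smul_eq_mul, hScard] at hS1
  have ht₁ : (κ μ₁ : ZMod p) ∈ K := by
    obtain ⟨n, hn, hnk⟩ := (hκ μ₁ hμ₁).1
    exact hKmem n _ hn hnk
  have hm1 : cnt (κ μ₁ : ZMod p) = cnt 1 := hconst _ ht₁
  have hmem₁ : μ₁ ∈ S.filter (fun μ => (κ μ : ZMod p) = (κ μ₁ : ZMod p)) :=
    Finset.mem_filter.mpr ⟨hμ₁, rfl⟩
  have hpos : 1 ≤ cnt (κ μ₁ : ZMod p) := by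
    rw [hcnt]
    exact Finset.card_pos.mpr ⟨μ₁, hmem₁⟩
  have he1 : 1 ≤ charDegree c.ξ := by
    rw [← hScard]
    exact Finset.card_pos.mpr ⟨μ₁, hμ₁⟩
  have hle1 : cnt (κ μ₁ : ZMod p) ≤ 1 := by
    by_contra hgt
    have h2 : K.card * 2 ≤ K.card * cnt 1 := Nat.mul_le_mul_left _ (by omega)
    obtain ⟨M, hM⟩ : ∃ M, M = K.card * cnt 1 := ⟨_, rfl⟩
    rw [← hM] at hS1 h2
    omega
  have hκeq : (κ μ₁ : ZMod p) = (κ μ₂ : ZMod p) := by
    apply hζmod
    have h1 := (hκ μ₁ hμ₁).2 1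
    have h2 := (hκ μ₂ hμ₂).2 1
    rw [mul_one] at h1 h2
    rw [← h1, ← h2, hagree ⟨x ^ 1, hcomm 1⟩ (hxa 1)]
  have hmem₂ : μ₂ ∈ S.filter (fun μ => (κ μ : ZMod p) = (κ μ₁ : ZMod p)) :=
    Finset.mem_filter.mpr ⟨hμ₂, hκeq.symm⟩
  rw [hcnt] at hle1
  exact Finset.card_le_one.mp hle1 μ₁ hmem₁ μ₂ hmem₂

end Cfsg.Agent.Lib.Helper5.BrRBINJ
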