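import Mathlib
import Cfsg.Agent.Lib.Helper76.BrRBStmt

set_option autoImplicit false

/-! S4504 piece [RES]: the values of `ξ` on `P` are Gauss periods (from `OrbData`, `INJ`,
`FUS`). -/

namespace Cfsg.Agent.Lib.Helper5.BrRBRES

open Cfsg Cfsg.Agent.Lib.Helper76.BrRB
open scoped ComplexConjugate Classical

universe u

/-- at most `e` nonzero squares in `ZMod p`, `p = 2 e + 1` -/
theorem card_squares_le (p e : ℕ) [Fact p.Prime] (he : 2 * e + 1 = p) (T : Finset (ZMod p))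
    (hT : ∀ s ∈ T, s ≠ 0 ∧ IsSquare s) : T.card ≤ e := by
  have hp2 := (Fact.out : p.Prime).two_le
  have he0 : 0 < e := by omega
  have hsub : T.val ≤ Polynomial.nthRoots e (1 : ZMod p) := by
    rw [Multiset.le_iff_subset T.nodup]
    intro s hs
    obtain ⟨hs0, b, hb⟩ := hT s (Finset.mem_val.mp hs)
    rw [Polynomial.mem_nthRoots he0]
    have hb0 : b ≠ 0 := by
      rintro rfl
      exact hs0 (by rw [hb, mul_zero])
    have h2e : 2 * e = p - 1 := by omega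
    rw [hb, ← pow_two, ← pow_mul, h2e]
    exact ZMod.pow_card_sub_one_eq_one hb0
  calc T.card = Multiset.card T.val := rfl
    _ ≤ Multiset.card (Polynomial.nthRoots e (1 : ZMod p)) := Multiset.card_le_card hsub
    _ ≤ e := Polynomial.card_nthRoots e 1

theorem main (hINJ : INJ.{u}) (hFUS : FUS.{u}) : RES.{u} := by
  intro L _ _ p _ c S ψ₀ hO hidx x hx hx1
  obtain ⟨hψ₀, hScard, hξ, hconj⟩ := hO
  have hpp : p.Prime := Fact.out
  have hcardP := c.hP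
  have hxp : x ^ p = 1 := by
    have h1 := pow_card_eq_one' (G := ↥(c.P : Subgroup L)) (x := ⟨x, hx⟩)
    rw [hcardP] at h1
    exact congrArg Subtype.val h1
  have hord : orderOf x = p := orderOf_eq_prime hxp hx1
  have hpow : ∀ u : L, u ∈ (c.P : Subgroup L) → ∃ k : ℕ, x ^ k = u := by
    intro u hu
    have hx1' : (⟨x, hx⟩ : ↥(c.P : Subgroup L)) ≠ 1 := fun h => hx1 (congrArg Subtype.val h)
    have h2 : (⟨u, hu⟩ : ↥(c.P : Subgroup L)) ∈ Submonoid.powers (⟨x, hx⟩ : ↥(c.P : Subgroup L)) :=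
      mem_powers_of_prime_card hcardP hx1'
    obtain ⟨k, hk⟩ := h2
    exact ⟨k, congrArg Subtype.val hk⟩
  have hxa : ∀ a : ℕ, x ^ a ∈ (c.P : Subgroup L) := fun a => Subgroup.pow_mem _ hx a
  have hcomm : ∀ a : ℕ, x ^ a ∈ Subgroup.centralizer ((c.P : Subgroup L) : Set L) := by
    intro a
    rw [Subgroup.mem_centralizer_iff]
    intro h hh
    obtain ⟨k, rfl⟩ := hpow h hh
    rw [← pow_add, ← pow_add, add_comm]
  obtain ⟨ζ, hζ⟩ : ∃ ζ : ℂ, ζ = ((ψ₀ ⟨x, hx⟩ : ℂˣ) : ℂ) := ⟨_, rfl⟩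
  have hζpow : ∀ k : ℕ, ((ψ₀ ⟨x ^ k, hxa k⟩ : ℂˣ) : ℂ) = ζ ^ k := by
    intro k
    have h1 : (⟨x ^ k, hxa k⟩ : ↥(c.P : Subgroup L)) = ⟨x, hx⟩ ^ k := rfl
    rw [h1, map_pow, Units.val_pow_eq_pow_val, hζ]
  have hζp : ζ ^ p = 1 := by
    rw [← hζpow]
    have h1 : (⟨x ^ p, hxa p⟩ : ↥(c.P : Subgroup L)) = 1 := Subtype.ext hxp
    rw [h1, map_one]
    rfl
  have hζ1 : ζ ≠ 1 := by
    intro h1
    apply hψ₀
    apply MonoidHom.ext
    intro u
    obtain ⟨k, hk⟩ := hpow u.1 u.2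
    have h2 : u = ⟨x ^ k, hxa k⟩ := Subtype.ext hk.symm
    rw [h2]
    apply Units.ext
    rw [hζpow, h1, one_pow]
    rfl
  have hζord : orderOf ζ = p := orderOf_eq_prime hζp hζ1
  have hprim : IsPrimitiveRoot ζ p := hζord ▸ IsPrimitiveRoot.orderOf ζ
  have hmod : ∀ m n : ℕ, (m : ZMod p) = (n : ZMod p) → ζ ^ m = ζ ^ n := by
    intro m n h
    have h' : m % p = n % p := (ZMod.natCast_eq_natCast_iff m n p).mp h
    rw [← pow_mod_orderOf ζ m, ← pow_mod_orderOf ζ n, hζord, h']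
  have h2idx : 2 * (Subgroup.centralizer ((c.P : Subgroup L) : Set L)).relIndex
      (Subgroup.normalizer ((c.P : Subgroup L) : Set L)) + 1 = p := by
    rw [hidx]
    exact c.hdeg
  have hκ : ∀ μ : ↥(Subgroup.centralizer ((c.P : Subgroup L) : Set L)) →* ℂˣ, ∃ k : ℕ, μ ∈ S →
      ((k : ZMod p) ≠ 0 ∧ IsSquare (k : ZMod p) ∧
        ∀ a : ℕ, ((μ ⟨x ^ a, hcomm a⟩ : ℂˣ) : ℂ) = ζ ^ (k * a)) := by
    intro μ
    by_cases hμ : μ ∈ S
    · obtain ⟨n, hn, hnμ⟩ := hconj μ hμ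
      have hnx : n * x * n⁻¹ ∈ (c.P : Subgroup L) := (Subgroup.mem_normalizer_iff.mp hn x).mp hx
      obtain ⟨k, hk⟩ := hpow _ hnx
      refine ⟨k, fun _ => ⟨?_, hFUS p c.P hcardP h2idx x n k hx hx1 hk.symm, ?_⟩⟩
      · intro h0
        have hpk : p ∣ k := (ZMod.natCast_eq_zero_iff k p).mp h0
        have h3 : x ^ k = 1 := by
          rw [← hord] at hpk
          exact orderOf_dvd_iff_pow_eq_one.mp hpk
        rw [h3] at hk
        apply hx1
        have h4 : x = n⁻¹ * (n * x * n⁻¹) * n := by group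
        rw [h4, ← hk]
        group
      · intro a
        have hconja : x ^ (k * a) = n * x ^ a * n⁻¹ := by
          rw [pow_mul, hk, conj_pow]
        have h5 := hnμ ⟨x ^ a, hxa a⟩ ⟨x ^ (k * a), hxa (k * a)⟩ ⟨x ^ a, hcomm a⟩ rfl hconja
        rw [h5, hζpow]
    · exact ⟨0, fun h => absurd h hμ⟩
  choose κ hκ using hκ
  have hinj : ∀ μ ∈ S, ∀ μ' ∈ S, (κ μ : ZMod p) = (κ μ' : ZMod p) → μ = μ' := by
    intro μ hμ μ' hμ' hκκ
    apply hINJ p c S ψ₀ ⟨hψ₀, hScard, hξ, hconj⟩ hidx μ hμ μ' hμ'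
    intro k hk
    obtain ⟨a, ha⟩ := hpow k.1 hk
    have hk' : k = ⟨x ^ a, hcomm a⟩ := Subtype.ext ha.symm
    rw [hk']
    apply Units.ext
    rw [(hκ μ hμ).2.2 a, (hκ μ' hμ').2.2 a]
    apply hmod
    push_cast
    rw [hκκ]
  refine ⟨ζ, hprim, fun a => ?_⟩
  have key : ∀ T : Finset (ZMod p), (∀ s, s ∈ T ↔ s ≠ 0 ∧ IsSquare s) →
      c.ξ (x ^ a) = ∑ s ∈ T, ζ ^ (a * s.val) := by
    intro T hT
    have himg : S.image (fun μ => (κ μ : ZMod p)) = T := by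
      apply Finset.eq_of_subset_of_card_le
      · intro s hs
        obtain ⟨μ, hμ, rfl⟩ := Finset.mem_image.mp hs
        rw [hT]
        exact ⟨(hκ μ hμ).1, (hκ μ hμ).2.1⟩
      · rw [Finset.card_image_of_injOn (fun μ hμ μ' hμ' h => hinj μ hμ μ' hμ' h), hScard]
        exact card_squares_le p _ c.hdeg T (fun s hs => (hT s).mp hs)
    rw [← himg, Finset.sum_image (fun μ hμ μ' hμ' h => hinj μ hμ μ' hμ' h)]
    have h6 := hξ ⟨x ^ a, hcomm a⟩
    rw [show c.ξ (x ^ a) = c.ξ ((⟨x ^ a, hcomm a⟩ :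
      ↥(Subgroup.centralizer ((c.P : Subgroup L) : Set L))) : L) from rfl, h6]
    apply Finset.sum_congr rfl
    intro μ hμ
    rw [(hκ μ hμ).2.2 a]
    apply hmod
    have : NeZero p := ⟨hpp.ne_zero⟩
    push_cast
    rw [ZMod.natCast_zmod_val, mul_comm]
  exact key _ (fun s => ⟨fun h => (Finset.mem_filter.mp h).2,
    fun h => Finset.mem_filter.mpr ⟨Finset.mem_univ _, h⟩⟩)

end Cfsg.Agent.Lib.Helper5.BrRBRES
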