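import Cfsg.Agent.Lib.Helper5.ChevRep
import Cfsg.Prelude.Def_ChevD4

/-!
helper5: the model of the adjoint Chevalley module of type `D₄` inside the congruence action of
the isometry group of `x₁y₁ + x₂y₂ + x₃y₃ + x₄y₄` (see `ChevRep`), and its agreement with the
tables of `Cfsg.Lie.chevD4`.
-/

set_option autoImplicit false

namespace Cfsg.Agent.Lib.Helper5.D4Model

open Cfsg.Agent.Lib.Helper5.ChevRep

/-- index type of the natural module. -/
abbrev I8 : Type := Fin 4 ⊕ Fin 4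

abbrev e1 : I8 := Sum.inl 0
abbrev e2 : I8 := Sum.inl 1
abbrev e3 : I8 := Sum.inl 2
abbrev e4 : I8 := Sum.inl 3
abbrev f1 : I8 := Sum.inr 0
abbrev f2 : I8 := Sum.inr 1
abbrev f3 : I8 := Sum.inr 2
abbrev f4 : I8 := Sum.inr 3

/-- `Γ`: `Q(u) = Σ u(eᵢ) u(fᵢ)`. -/
def gl : Sp I8 := [(e1, f1, 1), (e2, f2, 1), (e3, f3, 1), (e4, f4, 1)]

def tlH : List (Sp I8) := [[(f1, e1, -1), (f2, e2, 1)], [(f2, e2, -1), (f3, e3, 1)], [(f3, e3, -1), (f4, e4, 1)], [(e3, f3, 1), (f4, e4, -1)]]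

def laH : List (Sp I8) := [[(e1, f1, 1)], [(e1, f1, 1), (e2, f2, 1)], [(e4, f4, -1)], []]

def muH : List ℤ := [0, 0, 1, 1]

def tlR : List (Sp I8) :=
  [[(f1, f2, 1)],
   [(f1, f3, 1)],
   [(f1, e4, 1)],
   [(f1, f4, 1)],
   [(f1, e3, -1)],
   [(f1, e2, 1)],
   [(f2, f3, 1)],
   [(f2, e4, 1)],
   [(f2, f4, 1)],
   [(f2, e3, -1)],
   [(f3, e4, -1)],
   [(f3, f4, -1)],
   [(e3, e4, 1)],
   [(e3, f4, 1)],
   [(e2, f3, 1)],
   [(e2, e4, -1)],
   [(e2, f4, -1)],
   [(e2, e3, -1)],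
   [(e1, f2, -1)],
   [(e1, f3, 1)],
   [(e1, e4, -1)],
   [(e1, f4, -1)],
   [(e1, e3, -1)],
   [(e1, e2, -1)]]

/-- the model of type `D₄`. -/
def model : Model I8 Lie.chevD4.Idx where
  gl := gl
  tl := fun k => match k with
    | Sum.inl i => tlH.getD i.val []
    | Sum.inr r => tlR.getD r.val []
  la := fun k => match k with
    | Sum.inl i => laH.getD i.val []
    | Sum.inr r => tlR.getD r.val []
  mu := fun k => match k with
    | Sum.inl i => muH.getD i.val 0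
    | Sum.inr _ => 0

def NlT : List (Sp I8) :=
  [[(f1, e2, 1), (f2, e1, -1)],
   [(f1, e3, 1), (f3, e1, -1)],
   [(e4, e1, -1), (f1, f4, 1)],
   [(f1, e4, 1), (f4, e1, -1)],
   [(e3, e1, 1), (f1, f3, -1)],
   [(e2, e1, -1), (f1, f2, 1)],
   [(f2, e3, 1), (f3, e2, -1)],
   [(e4, e2, -1), (f2, f4, 1)],
   [(f2, e4, 1), (f4, e2, -1)],
   [(e3, e2, 1), (f2, f3, -1)],
   [(e4, e3, 1), (f3, f4, -1)],
   [(f3, e4, -1), (f4, e3, 1)],
   [(e3, f4, 1), (e4, f3, -1)],
   [(e3, e4, 1), (f4, f3, -1)],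
   [(e2, e3, 1), (f3, f2, -1)],
   [(e2, f4, -1), (e4, f2, 1)],
   [(e2, e4, -1), (f4, f2, 1)],
   [(e2, f3, -1), (e3, f2, 1)],
   [(e1, e2, -1), (f2, f1, 1)],
   [(e1, e3, 1), (f3, f1, -1)],
   [(e1, f4, -1), (e4, f1, 1)],
   [(e1, e4, -1), (f4, f1, 1)],
   [(e1, f3, -1), (e3, f1, 1)],
   [(e1, f2, -1), (e2, f1, 1)]]

/-- linear part of the root element number `n`. -/
def Nl (n : ℕ) : Sp I8 := NlT.getD n []

/-- polynomial entries of the root element number `n`. -/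
def eX (n : ℕ) (i a : I8) : ℤ × ℤ × ℤ := (if i = a then 1 else 0, spGet (Nl n) i a, 0)

/-- the root element `X_n(t)`. -/
def X (F : Type*) [Field F] (n : ℕ) (t : F) : Matrix I8 I8 F :=
  1 + t • spMat F (Nl n)

lemma X_apply {F : Type*} [Field F] (n : ℕ) (t : F) (i a : I8) :
    X F n t i a = (((eX n i a).1 : ℤ) : F) + (((eX n i a).2.1 : ℤ) : F) * t
      + (((eX n i a).2.2 : ℤ) : F) * t ^ 2 := by
  simp only [X, eX, Matrix.add_apply, Matrix.smul_apply, spMat_apply, Matrix.one_apply, smul_eq_mul]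
  split_ifs <;> push_cast <;> ring

theorem table_ok : ∀ r : Fin Lie.chevD4.nroots, ∀ j k : Lie.chevD4.Idx, ∀ d : Fin 5,
    model.rco (eX r.val) j k d = coefL (xList Lie.chevD4 r j k) d := by
  decide +kernel

theorem deg_ok : ∀ r : Fin Lie.chevD4.nroots, ∀ j k : Lie.chevD4.Idx,
    ∀ x ∈ xList Lie.chevD4 r j k, x.1 < 5 := by
  decide +kernel

/-- the model matrix of a root element is the Prelude's `x_r(t)`. -/
theorem rho_X (F : Type*) [Field F] (r : Fin Lie.chevD4.nroots) (t : F) :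
    model.rho (X F r.val t) = Lie.chevD4.xMat F r t :=
  rho_eq_xMat Lie.chevD4 model F r (eX r.val) t _ (X_apply r.val t) (deg_ok r) (table_ok r)

theorem h1_ok : ∀ k : Lie.chevD4.Idx, ∑ c, ∑ d, model.bhat c d * spGet (model.tl k) c d = 0 := by
  decide +kernel

theorem h4_ok : ∀ j k : Lie.chevD4.Idx,
    ∑ c, ∑ d, model.lhat j c d * spGet (model.tl k) c d = if j = k then 1 else 0 := by
  decide +kernel

/-- the correction table for `H3`. -/
def nu (a b : I8) : ℤ := if a = e3 ∧ b = f3 then -1 else if a = f3 ∧ b = e3 then 1 else 0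

theorem h3a_ok : ∀ a b c d : I8, (if a = c ∧ b = d then (1 : ℤ) else 0) - (if b = c ∧ a = d then 1 else 0)
    - ∑ k, (spGet (model.tl k) a b - spGet (model.tl k) b a) * model.lhat k c d
      = nu a b * model.bhat c d := by
  decide +kernel

theorem h3b_ok : ∀ c d : I8, spGet model.gl c d - ∑ k, model.gT k * model.lhat k c d
    = 0 * model.bhat c d := by
  decide +kernel

variable {F : Type*} [Field F]

theorem rho_mul {g h : Matrix I8 I8 F} (hg : model.IsIso g) (hh : model.IsIso h) :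
    model.rho (g * h) = model.rho g * model.rho h :=
  model.rho_mul (model.H1_of_table h1_ok) (model.H3_of_table nu 0 h3a_ok h3b_ok) hg hh

theorem rho_one : model.rho (1 : Matrix I8 I8 F) = 1 :=
  model.rho_one (model.H4_of_table h4_ok)

end Cfsg.Agent.Lib.Helper5.D4Model
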