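import Mathlib
import Cfsg.Agent.Lib.Helper32.D8Stmt
import Cfsg.Agent.Lib.Helper26.GenChar

/-!
# S3716 / C2T (helper5, second seat)

The four uses of `TRI`: the functions `Θ1 - Θ2`, `Θ3 - Θ4`, `Θ3 + Θ4 - Θ2`, `Θ1 + Θ2 - Θ4` have
norm 6, contain the trivial character once and `U` with multiplicity `± 2`.
-/

set_option autoImplicit false

namespace Cfsg.Agent.Lib.Helper5.D8C2T

open Cfsg Cfsg.Agent.Lib.Helper32.D8Stmt Cfsg.Agent.Lib.Helper26.GenChar
open scoped ComplexConjugate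

universe u

variable {G : Type u} [Group G] [Fintype G]

theorem ci_add_left (φ₁ φ₂ ψ : G → ℂ) :
    classInner (φ₁ + φ₂) ψ = classInner φ₁ ψ + classInner φ₂ ψ := by
  simp only [classInner, Pi.add_apply, add_mul, Finset.sum_add_distrib, mul_add]

theorem ci_sub_left (φ₁ φ₂ ψ : G → ℂ) :
    classInner (φ₁ - φ₂) ψ = classInner φ₁ ψ - classInner φ₂ ψ := by
  simp only [classInner, Pi.sub_apply, sub_mul, Finset.sum_sub_distrib, mul_sub]

theorem bb_add (Θ Θ' : G → ℂ) (u v : G) : bb (Θ + Θ') u v = bb Θ u v + bb Θ' u v := by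
  simp only [bb, Pi.add_apply, Finset.sum_add_distrib, mul_add]

theorem bb_sub (Θ Θ' : G → ℂ) (u v : G) : bb (Θ - Θ') u v = bb Θ u v - bb Θ' u v := by
  simp only [bb, Pi.sub_apply, Finset.sum_sub_distrib, mul_sub]

/-- norm of a difference -/
theorem norm_sub (A B : G → ℂ) :
    classInner (A - B) (A - B) =
      classInner A A - classInner A B - classInner B A + classInner B B := by
  rw [ci_sub_left, classInner_sub_right, classInner_sub_right]
  ring

/-- norm of `A + B - C` -/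
theorem norm_add_sub (A B C : G → ℂ) :
    classInner (A + B - C) (A + B - C) =
      classInner A A + classInner A B - classInner A C + classInner B A + classInner B B
        - classInner B C - classInner C A - classInner C B + classInner C C := by
  rw [ci_sub_left, ci_add_left, classInner_sub_right, classInner_sub_right,
    classInner_sub_right, classInner_add_right, classInner_add_right, classInner_add_right]
  ring

theorem two_sigma {σ z : ℂ} (hσ : σ = 1 ∨ σ = -1) (hz : z = 2 * σ) : z = 2 ∨ z = -2 := by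
  rcases hσ with rfl | rfl
  · left
    rw [hz]
    ring
  · right
    rw [hz]
    ring

theorem main (hTRI : TRI.{u}) : C2T.{u} := by
  intro G _ _ Θ1 Θ2 Θ3 Θ4 a w ca cw hB hca hcw hTab U σ hU hUt hσ
  obtain ⟨⟨h1aa, h1aw, h1ww⟩, ⟨h2aa, h2aw, h2ww⟩, ⟨h3aa, h3aw, h3ww⟩, ⟨h4aa, h4aw, h4ww⟩⟩ := hTab
  have hn : (Nat.card G : ℂ) ≠ 0 := by
    have h0 : Nat.card G ≠ 0 := Nat.card_pos.ne'
    exact_mod_cast h0
  refine ⟨?_, ?_, ?_, ?_⟩
  · intro h1 h2
    have hΦ := hTRI (Θ1 - Θ2) U w a (isGeneralizedCharacter_sub hB.g1 hB.g2)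
      (by rw [Pi.sub_apply, hB.o1, hB.o2, sub_self])
      (by rw [norm_sub, hB.n11, hB.n12, hB.n21, hB.n22]; norm_num)
      (by rw [Pi.sub_apply, hB.w1, hB.w2, sub_self])
      (by rw [Pi.sub_apply, hB.a1, hB.a2, sub_self])
      (by rw [ci_sub_left, hB.t1, hB.t2]; norm_num) hU hUt
      (two_sigma hσ (by rw [ci_sub_left, h1, h2]; ring))
    exact hΦ.2 (by rw [bb_sub, h1ww, h2ww, sub_self])
  · intro h3 h4
    have hΦ := hTRI (Θ3 - Θ4) U a w (isGeneralizedCharacter_sub hB.g3 hB.g4)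
      (by rw [Pi.sub_apply, hB.o3, hB.o4, sub_self])
      (by rw [norm_sub, hB.n33, hB.n34, hB.n43, hB.n44]; norm_num)
      (by rw [Pi.sub_apply, hB.a3, hB.a4, sub_self])
      (by rw [Pi.sub_apply, hB.w3, hB.w4, sub_self])
      (by rw [ci_sub_left, hB.t3, hB.t4]; norm_num) hU hUt
      (two_sigma hσ (by rw [ci_sub_left, h3, h4]; ring))
    exact hΦ.2 (by rw [bb_sub, h3aa, h4aa, sub_self])
  · intro h1 h2 h3 h4
    have hΦ := hTRI (Θ3 + Θ4 - Θ2) U w a
      (isGeneralizedCharacter_sub (isGeneralizedCharacter_add hB.g3 hB.g4) hB.g2)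
      (by rw [Pi.sub_apply, Pi.add_apply, hB.o3, hB.o4, hB.o2]; ring)
      (by rw [norm_add_sub, hB.n33, hB.n34, hB.n32, hB.n43, hB.n44, hB.n42, hB.n23, hB.n24,
            hB.n22]; norm_num)
      (by rw [Pi.sub_apply, Pi.add_apply, hB.w3, hB.w4, hB.w2]; ring)
      (by rw [Pi.sub_apply, Pi.add_apply, hB.a3, hB.a4, hB.a2]; ring)
      (by rw [ci_sub_left, ci_add_left, hB.t3, hB.t4, hB.t2]; norm_num) hU hUt
      (two_sigma hσ (by rw [ci_sub_left, ci_add_left, h3, h4, h2]; ring))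
    refine hΦ.2 ?_
    rw [bb_sub, bb_add, h3ww, h4ww, h2ww]
    field_simp
    ring
  · intro h1 h2 h3 h4
    have hΦ := hTRI (Θ1 + Θ2 - Θ4) U a w
      (isGeneralizedCharacter_sub (isGeneralizedCharacter_add hB.g1 hB.g2) hB.g4)
      (by rw [Pi.sub_apply, Pi.add_apply, hB.o1, hB.o2, hB.o4]; ring)
      (by rw [norm_add_sub, hB.n11, hB.n12, hB.n14, hB.n21, hB.n22, hB.n24, hB.n41, hB.n42,
            hB.n44]; norm_num)
      (by rw [Pi.sub_apply, Pi.add_apply, hB.a1, hB.a2, hB.a4]; ring)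
      (by rw [Pi.sub_apply, Pi.add_apply, hB.w1, hB.w2, hB.w4]; ring)
      (by rw [ci_sub_left, ci_add_left, hB.t1, hB.t2, hB.t4]; norm_num) hU hUt
      (two_sigma hσ (by rw [ci_sub_left, ci_add_left, h1, h2, h4]; ring))
    have e := hΦ.1
    rw [bb_sub, bb_add, bb_sub, bb_add, bb_sub, bb_add, h1aa, h2aa, h4aa, h1ww, h2ww, h4ww,
      h1aw, h2aw, h4aw] at e
    have key : ca ^ 2 * cw ^ 2 = 0 := by
      field_simp at e
      linear_combination (1 / 18 : ℂ) * e
    rcases mul_eq_zero.mp key with h | h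
    · exact hca (pow_eq_zero_iff (by norm_num) |>.mp h)
    · exact hcw (pow_eq_zero_iff (by norm_num) |>.mp h)

end Cfsg.Agent.Lib.Helper5.D8C2T
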