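import Mathlib
import Cfsg.Agent.Lib.Helper75.DCStmt

set_option autoImplicit false

/-! S4719 piece [CZ]: an involution `z ∈ G` commuting with `v`, `w` has
`|C_G(z)| ≤ c + 2 N`. -/

namespace Cfsg.Agent.Lib.Helper5.DCCZ

open Cfsg Cfsg.Agent.Lib.Helper75.DCStmt

universe u

theorem aux (hQC : QC.{u}) (a c N : ℕ) (hKB : KB.{u} a c N)
    (Γ : Type u) [Group Γ] [Finite Γ] (G C : Subgroup Γ) (v w z : Γ) (hS : Setting G v w c)
    (hC : ∀ g ∈ C, z * g = g * z) (hzC : z ∈ C) (hvC : v ∈ C) (hwC : w ∈ C) (hzG : z ∈ G)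
    (hz1 : z ≠ 1) (hzz : z * z = 1) (hzv' : z ≠ v) (hzw' : z ≠ w) (hzvw' : z ≠ v * w)
    (h2 : (Nat.card ↥(G ⊓ C)).factorization 2 ≤ a + 1) :
    Nat.card ↥(G ⊓ C) ≤ 2 * N := by
  classical
  -- elements of `C`
  obtain ⟨z', hz'⟩ : ∃ z' : ↥C, (z' : Γ) = z := ⟨⟨z, hzC⟩, rfl⟩
  obtain ⟨v', hv'⟩ : ∃ v' : ↥C, (v' : Γ) = v := ⟨⟨v, hvC⟩, rfl⟩
  obtain ⟨w', hw'⟩ : ∃ w' : ↥C, (w' : Γ) = w := ⟨⟨w, hwC⟩, rfl⟩
  have hz'1 : z' ≠ 1 := by
    intro h
    apply hz1
    rw [← hz', h]
    rfl
  have hz'z' : z' * z' = 1 := by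
    apply Subtype.ext
    rw [Subgroup.coe_mul, hz', hzz]
    rfl
  have hz'cen : ∀ g : ↥C, z' * g = g * z' := by
    intro g
    apply Subtype.ext
    rw [Subgroup.coe_mul, Subgroup.coe_mul, hz']
    exact hC g.1 g.2
  -- the subgroup `Z = {1, z'}`
  have hZmem : ∀ g : ↥C, g ∈ Subgroup.zpowers z' → g = 1 ∨ g = z' := by
    intro g hg
    obtain ⟨k, rfl⟩ := Subgroup.mem_zpowers_iff.mp hg
    have ho : orderOf z' = 2 := orderOf_eq_prime (by rw [pow_two]; exact hz'z') hz'1
    rw [← zpow_mod_orderOf z' k, ho]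
    rcases Int.emod_two_eq_zero_or_one k with h | h
    · left
      rw [show (k % ((2 : ℕ) : ℤ)) = 0 from h, zpow_zero]
    · right
      rw [show (k % ((2 : ℕ) : ℤ)) = 1 from h, zpow_one]
  have hZcard : Nat.card ↥(Subgroup.zpowers z') = 2 := by
    rw [Nat.card_zpowers]
    exact orderOf_eq_prime (by rw [pow_two]; exact hz'z') hz'1
  have hZn : (Subgroup.zpowers z').Normal := by
    refine ⟨fun n hn g => ?_⟩
    rcases hZmem n hn with h | h
    · rw [h, mul_one, mul_inv_cancel]
      exact Subgroup.one_mem _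
    · rw [h, ← hz'cen g, mul_assoc, mul_inv_cancel, mul_one]
      exact Subgroup.mem_zpowers z'
  -- the quotient
  obtain ⟨π, hπ⟩ : ∃ π : ↥C →* ↥C ⧸ Subgroup.zpowers z', π = QuotientGroup.mk' (Subgroup.zpowers z') :=
    ⟨_, rfl⟩
  have hπsurj : Function.Surjective π := hπ ▸ QuotientGroup.mk'_surjective _
  have hπker : π.ker = Subgroup.zpowers z' := hπ ▸ QuotientGroup.ker_mk' _
  have hπ1 : ∀ g : ↥C, π g = 1 → g = 1 ∨ g = z' := by
    intro g hg
    apply hZmem
    rw [← hπker]
    exact MonoidHom.mem_ker.mpr hg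
  obtain ⟨G', hG'⟩ : ∃ G' : Subgroup ↥C, G' = G.subgroupOf C := ⟨_, rfl⟩
  have hG'n : G'.Normal := hG' ▸ hS.normal.subgroupOf C
  have hG'mem : ∀ y : ↥C, y ∈ G' ↔ (y : Γ) ∈ G := by
    intro y
    rw [hG', Subgroup.mem_subgroupOf]
  have hZG' : Subgroup.zpowers z' ≤ G' := by
    rw [Subgroup.zpowers_le, hG', Subgroup.mem_subgroupOf, hz']
    exact hzG
  have hG''n : (G'.map π).Normal := hG'n.map π hπsurj
  -- the setting in the quotient
  have hv'sq : v' * v' = 1 := by
    apply Subtype.ext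
    rw [Subgroup.coe_mul, hv', hS.v_sq]
    rfl
  have hw'sq : w' * w' = 1 := by
    apply Subtype.ext
    rw [Subgroup.coe_mul, hw', hS.w_sq]
    rfl
  have hv'w' : v' * w' = w' * v' := by
    apply Subtype.ext
    rw [Subgroup.coe_mul, Subgroup.coe_mul, hv', hw', hS.comm]
  have hcent : ∀ x' : ↥C, ((x' : Γ) = v ∨ (x' : Γ) = w ∨ (x' : Γ) = v * w) →
      Nat.card ↥(G'.map π ⊓ Subgroup.centralizer ({π x'} : Set (↥C ⧸ Subgroup.zpowers z'))) ≤ c := by
    intro x' hx'
    have h1 := hQC ↥C (Subgroup.zpowers z') G' x' hZG'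
    rw [← hπ] at h1
    refine le_trans h1 (le_trans ?_ (hS.cent (x' : Γ) hx'))
    apply Nat.card_le_card_of_injective
      (fun g : ↥(G' ⊓ Subgroup.centralizer ({x'} : Set ↥C)) =>
        (⟨((g : ↥C) : Γ), by
          have hg := g.2
          rw [Subgroup.mem_inf] at hg ⊢
          refine ⟨?_, ?_⟩
          · exact (hG'mem _).mp hg.1
          · rw [Subgroup.mem_centralizer_iff]
            intro h hh
            rw [Set.mem_singleton_iff.mp hh]
            have h4 := Subgroup.mem_centralizer_iff.mp hg.2 x' rfl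
            have h5 := congrArg (Subtype.val : ↥C → Γ) h4
            rw [Subgroup.coe_mul, Subgroup.coe_mul] at h5
            exact h5⟩ : ↥(G ⊓ Subgroup.centralizer ({(x' : Γ)} : Set Γ))))
    intro g₁ g₂ h
    apply Subtype.ext
    apply Subtype.ext
    have h9 : ((g₁ : ↥C) : Γ) = ((g₂ : ↥C) : Γ) := congrArg
      (Subtype.val : ↥(G ⊓ Subgroup.centralizer ({(x' : Γ)} : Set Γ)) → Γ) h
    exact h9
  have hS'' : Setting (G'.map π) (π v') (π w') c := by
    refine
      { normal := hG''n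
        v_ne := ?_
        w_ne := ?_
        vw_ne := ?_
        v_sq := by rw [← map_mul, hv'sq, map_one]
        w_sq := by rw [← map_mul, hw'sq, map_one]
        comm := by rw [← map_mul, ← map_mul, hv'w']
        cent := ?_ }
    · intro h
      rcases hπ1 v' h with h | h
      · apply hS.v_ne
        rw [← hv', h]
        rfl
      · apply hzv'
        rw [← hv', h, hz']
    · intro h
      rcases hπ1 w' h with h | h
      · apply hS.w_ne
        rw [← hw', h]
        rfl
      · apply hzw'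
        rw [← hw', h, hz']
    · intro h
      have h1 : π (v' * w') = 1 := by
        rw [map_mul, h, ← map_mul, hw'sq, map_one]
      rcases hπ1 (v' * w') h1 with h2 | h2
      · apply hS.vw_ne
        have h3 : v' = w' := by
          calc v' = v' * (w' * w') := by rw [hw'sq, mul_one]
            _ = (v' * w') * w' := by rw [mul_assoc]
            _ = w' := by rw [h2, one_mul]
        rw [← hv', ← hw', h3]
      · apply hzvw'
        rw [← hz', ← h2, Subgroup.coe_mul, hv', hw']
    · intro x hx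
      rcases hx with rfl | rfl | rfl
      · exact hcent v' (Or.inl hv')
      · exact hcent w' (Or.inr (Or.inl hw'))
      · rw [← map_mul]
        exact hcent (v' * w') (Or.inr (Or.inr (by rw [Subgroup.coe_mul, hv', hw'])))
  -- cardinalities
  have hcardG' : Nat.card ↥G' = Nat.card ↥(G ⊓ C) := by
    rw [hG', ← Subgroup.inf_subgroupOf_right]
    exact Nat.card_congr (Subgroup.subgroupOfEquivOfLe inf_le_right).toEquiv
  have hcomap : (G'.map π).comap π = G' := Subgroup.comap_map_eq_self (by rw [hπker]; exact hZG')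
  have hidx : (G'.map π).index = G'.index := by
    rw [← hcomap, Subgroup.index_comap_of_surjective _ hπsurj, hcomap]
  have h3 := Subgroup.card_mul_index G'
  have h4 := Subgroup.card_mul_index (G'.map π)
  have h5 := Subgroup.card_eq_card_quotient_mul_card_subgroup (Subgroup.zpowers z')
  rw [hZcard] at h5
  have hidxpos : 0 < G'.index := Nat.pos_of_ne_zero Subgroup.index_ne_zero_of_finite
  have hdouble : Nat.card ↥G' = 2 * Nat.card ↥(G'.map π) := by
    have h6 : Nat.card ↥G' * G'.index = (2 * Nat.card ↥(G'.map π)) * G'.index := by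
      rw [h3, h5, ← h4, hidx]
      ring
    exact Nat.eq_of_mul_eq_mul_right hidxpos h6
  have hpos'' : Nat.card ↥(G'.map π) ≠ 0 := Nat.card_pos.ne'
  have hfac : (Nat.card ↥(G'.map π)).factorization 2 ≤ a := by
    have h7 : (Nat.card ↥G').factorization 2 = 1 + (Nat.card ↥(G'.map π)).factorization 2 := by
      rw [hdouble, Nat.factorization_mul (by norm_num) hpos'', Finsupp.add_apply,
        Nat.prime_two.factorization_self]
    rw [hcardG'] at h7
    omega
  have h8 := hKB (↥C ⧸ Subgroup.zpowers z') (G'.map π) (π v') (π w') hS'' hfac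
  rw [← hcardG', hdouble]
  exact Nat.mul_le_mul_left 2 h8

theorem main (hQC : QC.{u}) : CZ.{u} := by
  intro a c N hKB Γ _ _ G v w hS h2 z hzG hz1 hzz hzv hzw
  by_cases hcase : z = v ∨ z = w ∨ z = v * w
  · exact le_trans (hS.cent z hcase) (Nat.le_add_right _ _)
  · have hzv' : z ≠ v := fun h => hcase (Or.inl h)
    have hzw' : z ≠ w := fun h => hcase (Or.inr (Or.inl h))
    have hzvw' : z ≠ v * w := fun h => hcase (Or.inr (Or.inr h))
    have hC : ∀ g ∈ Subgroup.centralizer ({z} : Set Γ), z * g = g * z := by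
      intro g hg
      exact Subgroup.mem_centralizer_iff.mp hg z rfl
    have hmem : ∀ g : Γ, z * g = g * z → g ∈ Subgroup.centralizer ({z} : Set Γ) := by
      intro g hg
      rw [Subgroup.mem_centralizer_iff]
      intro h hh
      rw [Set.mem_singleton_iff.mp hh]
      exact hg
    have h2' : (Nat.card ↥(G ⊓ Subgroup.centralizer ({z} : Set Γ))).factorization 2 ≤ a + 1 := by
      have hdvd : Nat.card ↥(G ⊓ Subgroup.centralizer ({z} : Set Γ)) ∣ Nat.card ↥G :=
        Subgroup.card_dvd_of_le inf_le_left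
      exact le_trans ((Nat.factorization_le_iff_dvd Nat.card_pos.ne' Nat.card_pos.ne').mpr hdvd 2) h2
    have h := aux hQC a c N hKB Γ G (Subgroup.centralizer ({z} : Set Γ)) v w z hS hC (hmem z rfl)
      (hmem v hzv) (hmem w hzw) hzG hz1 hzz hzv' hzw' hzvw' h2'
    omega

end Cfsg.Agent.Lib.Helper5.DCCZ
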