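import Mathlib
import Cfsg.Agent.Lib.Helper5.PolyMat
import Cfsg.Prelude.Def_ChevD4
import Cfsg.Prelude.Def_ChevG2
import Cfsg.Prelude.Def_ChevWords

/-!
# The embedding of the adjoint module of `G₂` into that of `D₄`

`J` is the integer matrix of an embedding of the 14-dimensional module of `chevG2` into the
28-dimensional module of `chevD4` (its image is the space fixed by triality), `Pr` a left inverse.
The fundamental root elements of `G₂` correspond to `x_{±p₂}(t)` (long) and to
`x_{±p₁}(t) x_{±p₃}(t) x_{±p₄}(t)` (short); the intertwining identities are checked on integer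
coefficient tables.  (Tables generated by a script.)
-/

set_option autoImplicit false
set_option maxRecDepth 100000

namespace Cfsg.Agent.Lib.Helper5.G2Emb

open Cfsg Cfsg.Lie Cfsg.Agent.Lib.Helper5.PolyMat

/-- the embedding (28 × 14). -/
def Jt : List (List ℤ) :=
  [[1, 0, 0, 0, 0, 0, 0, 0, 0, 0, 0, 0, 0, 0],
  [0, 1, 0, 0, 0, 0, 0, 0, 0, 0, 0, 0, 0, 0],
  [1, 0, 0, 0, 0, 0, 0, 0, 0, 0, 0, 0, 0, 0],
  [1, 0, 0, 0, 0, 0, 0, 0, 0, 0, 0, 0, 0, 0],
  [0, 0, -1, 0, 0, 0, 0, 0, 0, 0, 0, 0, 0, 0],
  [0, 0, 0, -1, 0, 0, 0, 0, 0, 0, 0, 0, 0, 0],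
  [0, 0, 0, 0, -1, 0, 0, 0, 0, 0, 0, 0, 0, 0],
  [0, 0, 0, 0, -1, 0, 0, 0, 0, 0, 0, 0, 0, 0],
  [0, 0, 0, 0, 0, 1, 0, 0, 0, 0, 0, 0, 0, 0],
  [0, 0, 0, 0, 0, 0, 1, 0, 0, 0, 0, 0, 0, 0],
  [0, 0, 0, 0, 1, 0, 0, 0, 0, 0, 0, 0, 0, 0],
  [0, 0, 0, 0, 0, -1, 0, 0, 0, 0, 0, 0, 0, 0],
  [0, 0, 0, 0, 0, -1, 0, 0, 0, 0, 0, 0, 0, 0],
  [0, 0, 0, 0, 0, 0, 0, 1, 0, 0, 0, 0, 0, 0],
  [0, 0, 0, 0, 0, 0, 1, 0, 0, 0, 0, 0, 0, 0],
  [0, 0, 0, 0, 0, 0, 1, 0, 0, 0, 0, 0, 0, 0],
  [0, 0, 0, 0, 0, 0, 0, 0, 0, 1, 0, 0, 0, 0],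
  [0, 0, 0, 0, 0, 0, 0, 0, 0, 1, 0, 0, 0, 0],
  [0, 0, 0, 0, 0, 0, 0, 0, 1, 0, 0, 0, 0, 0],
  [0, 0, 0, 0, 0, 0, 0, 0, 0, 0, -1, 0, 0, 0],
  [0, 0, 0, 0, 0, 0, 0, 0, 0, 0, -1, 0, 0, 0],
  [0, 0, 0, 0, 0, 0, 0, 0, 0, 0, 0, 1, 0, 0],
  [0, 0, 0, 0, 0, 0, 0, 0, 0, 1, 0, 0, 0, 0],
  [0, 0, 0, 0, 0, 0, 0, 0, 0, 0, 1, 0, 0, 0],
  [0, 0, 0, 0, 0, 0, 0, 0, 0, 0, 0, -1, 0, 0],
  [0, 0, 0, 0, 0, 0, 0, 0, 0, 0, 0, -1, 0, 0],
  [0, 0, 0, 0, 0, 0, 0, 0, 0, 0, 0, 0, -1, 0],
  [0, 0, 0, 0, 0, 0, 0, 0, 0, 0, 0, 0, 0, -1]]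

/-- a left inverse (14 × 28). -/
def Prt : List (List ℤ) :=
  [[1, 0, 0, 0, 0, 0, 0, 0, 0, 0, 0, 0, 0, 0, 0, 0, 0, 0, 0, 0, 0, 0, 0, 0, 0, 0, 0, 0],
  [0, 1, 0, 0, 0, 0, 0, 0, 0, 0, 0, 0, 0, 0, 0, 0, 0, 0, 0, 0, 0, 0, 0, 0, 0, 0, 0, 0],
  [0, 0, 0, 0, -1, 0, 0, 0, 0, 0, 0, 0, 0, 0, 0, 0, 0, 0, 0, 0, 0, 0, 0, 0, 0, 0, 0, 0],
  [0, 0, 0, 0, 0, -1, 0, 0, 0, 0, 0, 0, 0, 0, 0, 0, 0, 0, 0, 0, 0, 0, 0, 0, 0, 0, 0, 0],
  [0, 0, 0, 0, 0, 0, -1, 0, 0, 0, 0, 0, 0, 0, 0, 0, 0, 0, 0, 0, 0, 0, 0, 0, 0, 0, 0, 0],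
  [0, 0, 0, 0, 0, 0, 0, 0, 1, 0, 0, 0, 0, 0, 0, 0, 0, 0, 0, 0, 0, 0, 0, 0, 0, 0, 0, 0],
  [0, 0, 0, 0, 0, 0, 0, 0, 0, 1, 0, 0, 0, 0, 0, 0, 0, 0, 0, 0, 0, 0, 0, 0, 0, 0, 0, 0],
  [0, 0, 0, 0, 0, 0, 0, 0, 0, 0, 0, 0, 0, 1, 0, 0, 0, 0, 0, 0, 0, 0, 0, 0, 0, 0, 0, 0],
  [0, 0, 0, 0, 0, 0, 0, 0, 0, 0, 0, 0, 0, 0, 0, 0, 0, 0, 1, 0, 0, 0, 0, 0, 0, 0, 0, 0],
  [0, 0, 0, 0, 0, 0, 0, 0, 0, 0, 0, 0, 0, 0, 0, 0, 1, 0, 0, 0, 0, 0, 0, 0, 0, 0, 0, 0],
  [0, 0, 0, 0, 0, 0, 0, 0, 0, 0, 0, 0, 0, 0, 0, 0, 0, 0, 0, -1, 0, 0, 0, 0, 0, 0, 0, 0],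
  [0, 0, 0, 0, 0, 0, 0, 0, 0, 0, 0, 0, 0, 0, 0, 0, 0, 0, 0, 0, 0, 1, 0, 0, 0, 0, 0, 0],
  [0, 0, 0, 0, 0, 0, 0, 0, 0, 0, 0, 0, 0, 0, 0, 0, 0, 0, 0, 0, 0, 0, 0, 0, 0, 0, -1, 0],
  [0, 0, 0, 0, 0, 0, 0, 0, 0, 0, 0, 0, 0, 0, 0, 0, 0, 0, 0, 0, 0, 0, 0, 0, 0, 0, 0, -1]]

/-- stage table. -/
def Ta0 : List (List (List ℤ)) :=
  [[[1], [], [], [], [], [], [], [], [], [], [], [], [], []],
  [[], [1], [], [], [], [], [], [], [], [], [], [], [], []],
  [[1], [], [], [], [], [], [], [], [], [], [], [], [], []],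
  [[1], [], [], [], [], [], [0, 1], [], [], [], [], [], [], []],
  [[], [], [-1], [], [], [], [], [], [], [], [], [], [], []],
  [[], [], [], [-1], [], [], [], [], [], [], [], [], [], []],
  [[], [], [], [0, 1], [-1], [], [], [], [], [], [], [], [], []],
  [[], [], [], [], [-1], [], [], [], [], [], [], [], [], []],
  [[], [], [], [], [0, 1], [1], [], [], [], [], [], [], [], []],
  [[], [], [], [], [], [], [1], [], [], [], [], [], [], []],
  [[], [], [], [], [1], [], [], [], [], [], [], [], [], []],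
  [[], [], [], [], [0, -1], [-1], [], [], [], [], [], [], [], []],
  [[], [], [], [], [], [-1], [], [], [], [], [], [], [], []],
  [[], [], [], [], [], [0, 1], [], [1], [], [], [], [], [], []],
  [[], [], [], [], [], [], [1], [], [], [], [], [], [], []],
  [[], [], [], [], [], [], [1], [], [], [], [], [], [], []],
  [[0, -2], [0, 1], [], [], [], [], [0, 0, -1], [], [], [1], [], [], [], []],
  [[], [], [], [], [], [], [], [], [], [1], [], [], [], []],
  [[], [], [], [], [], [], [], [], [1], [], [], [], [], []],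
  [[], [], [], [], [], [], [], [], [0, 1], [], [-1], [], [], []],
  [[], [], [], [], [], [], [], [], [], [], [-1], [], [], []],
  [[], [], [], [], [], [], [], [], [], [], [0, -1], [1], [], []],
  [[], [], [], [], [], [], [], [], [], [1], [], [], [], []],
  [[], [], [], [], [], [], [], [], [], [], [1], [], [], []],
  [[], [], [], [], [], [], [], [], [], [], [0, 1], [-1], [], []],
  [[], [], [], [], [], [], [], [], [], [], [], [-1], [], []],
  [[], [], [], [], [], [], [], [], [], [], [], [0, -1], [-1], []],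
  [[], [], [], [], [], [], [], [], [], [], [], [], [], [-1]]]

theorem ok_Ta0 : ∀ (i : chevD4.Idx) (k : chevG2.Idx),
    peq (psum ((idxL chevD4).map fun j => pmul ((xPM chevD4 ⟨12, by decide⟩) i j) ((cstPM chevD4 chevG2 Jt) j k)))
      ((tabPM chevD4 chevG2 Ta0) i k) = true := by
  decide +kernel

/-- stage table. -/
def Ta1 : List (List (List ℤ)) :=
  [[[1], [], [], [], [], [], [], [], [], [], [], [], [], []],
  [[], [1], [], [], [], [], [], [], [], [], [], [], [], []],
  [[1], [], [], [], [], [], [0, 1], [], [], [], [], [], [], []],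
  [[1], [], [], [], [], [], [0, 1], [], [], [], [], [], [], []],
  [[], [], [-1], [], [], [], [], [], [], [], [], [], [], []],
  [[], [], [], [-1], [], [], [], [], [], [], [], [], [], []],
  [[], [], [], [0, 1], [-1], [], [], [], [], [], [], [], [], []],
  [[], [], [], [0, 1], [-1], [], [], [], [], [], [], [], [], []],
  [[], [], [], [0, 0, -1], [0, 2], [1], [], [], [], [], [], [], [], []],
  [[], [], [], [], [], [], [1], [], [], [], [], [], [], []],
  [[], [], [], [], [1], [], [], [], [], [], [], [], [], []],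
  [[], [], [], [], [0, -1], [-1], [], [], [], [], [], [], [], []],
  [[], [], [], [], [0, -1], [-1], [], [], [], [], [], [], [], []],
  [[], [], [], [], [0, 0, 1], [0, 2], [], [1], [], [], [], [], [], []],
  [[], [], [], [], [], [], [1], [], [], [], [], [], [], []],
  [[], [], [], [], [], [], [1], [], [], [], [], [], [], []],
  [[0, -2], [0, 1], [], [], [], [], [0, 0, -1], [], [], [1], [], [], [], []],
  [[0, -2], [0, 1], [], [], [], [], [0, 0, -1], [], [], [1], [], [], [], []],
  [[], [], [], [], [], [], [], [], [1], [], [], [], [], []],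
  [[], [], [], [], [], [], [], [], [0, 1], [], [-1], [], [], []],
  [[], [], [], [], [], [], [], [], [0, 1], [], [-1], [], [], []],
  [[], [], [], [], [], [], [], [], [0, 0, 1], [], [0, -2], [1], [], []],
  [[], [], [], [], [], [], [], [], [], [1], [], [], [], []],
  [[], [], [], [], [], [], [], [], [], [], [1], [], [], []],
  [[], [], [], [], [], [], [], [], [], [], [0, 1], [-1], [], []],
  [[], [], [], [], [], [], [], [], [], [], [0, 1], [-1], [], []],
  [[], [], [], [], [], [], [], [], [], [], [0, 0, 1], [0, -2], [-1], []],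
  [[], [], [], [], [], [], [], [], [], [], [], [], [], [-1]]]

theorem ok_Ta1 : ∀ (i : chevD4.Idx) (k : chevG2.Idx),
    peq (psum ((idxL chevD4).map fun j => pmul ((xPM chevD4 ⟨13, by decide⟩) i j) ((tabPM chevD4 chevG2 Ta0) j k)))
      ((tabPM chevD4 chevG2 Ta1) i k) = true := by
  decide +kernel

/-- stage table. -/
def Ta2 : List (List (List ℤ)) :=
  [[[1], [], [], [], [], [], [0, 1], [], [], [], [], [], [], []],
  [[], [1], [], [], [], [], [], [], [], [], [], [], [], []],
  [[1], [], [], [], [], [], [0, 1], [], [], [], [], [], [], []],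
  [[1], [], [], [], [], [], [0, 1], [], [], [], [], [], [], []],
  [[], [], [-1], [], [], [], [], [], [], [], [], [], [], []],
  [[], [], [], [-1], [], [], [], [], [], [], [], [], [], []],
  [[], [], [], [0, 1], [-1], [], [], [], [], [], [], [], [], []],
  [[], [], [], [0, 1], [-1], [], [], [], [], [], [], [], [], []],
  [[], [], [], [0, 0, -1], [0, 2], [1], [], [], [], [], [], [], [], []],
  [[], [], [], [], [], [], [1], [], [], [], [], [], [], []],
  [[], [], [], [0, -1], [1], [], [], [], [], [], [], [], [], []],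
  [[], [], [], [0, 0, 1], [0, -2], [-1], [], [], [], [], [], [], [], []],
  [[], [], [], [0, 0, 1], [0, -2], [-1], [], [], [], [], [], [], [], []],
  [[], [], [], [0, 0, 0, -1], [0, 0, 3], [0, 3], [], [1], [], [], [], [], [], []],
  [[], [], [], [], [], [], [1], [], [], [], [], [], [], []],
  [[], [], [], [], [], [], [1], [], [], [], [], [], [], []],
  [[0, -2], [0, 1], [], [], [], [], [0, 0, -1], [], [], [1], [], [], [], []],
  [[0, -2], [0, 1], [], [], [], [], [0, 0, -1], [], [], [1], [], [], [], []],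
  [[], [], [], [], [], [], [], [], [1], [], [], [], [], []],
  [[], [], [], [], [], [], [], [], [0, 1], [], [-1], [], [], []],
  [[], [], [], [], [], [], [], [], [0, 1], [], [-1], [], [], []],
  [[], [], [], [], [], [], [], [], [0, 0, 1], [], [0, -2], [1], [], []],
  [[0, -2], [0, 1], [], [], [], [], [0, 0, -1], [], [], [1], [], [], [], []],
  [[], [], [], [], [], [], [], [], [0, -1], [], [1], [], [], []],
  [[], [], [], [], [], [], [], [], [0, 0, -1], [], [0, 2], [-1], [], []],
  [[], [], [], [], [], [], [], [], [0, 0, -1], [], [0, 2], [-1], [], []],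
  [[], [], [], [], [], [], [], [], [0, 0, 0, -1], [], [0, 0, 3], [0, -3], [-1], []],
  [[], [], [], [], [], [], [], [], [], [], [], [], [], [-1]]]

theorem ok_Ta2 : ∀ (i : chevD4.Idx) (k : chevG2.Idx),
    peq (psum ((idxL chevD4).map fun j => pmul ((xPM chevD4 ⟨18, by decide⟩) i j) ((tabPM chevD4 chevG2 Ta1) j k)))
      ((tabPM chevD4 chevG2 Ta2) i k) = true := by
  decide +kernel

theorem ok_a_fin : ∀ (i : chevD4.Idx) (k : chevG2.Idx),
    peq (psum ((idxL chevG2).map fun j => pmul ((cstPM chevD4 chevG2 Jt) i j) ((xPM chevG2 ⟨7, by decide⟩) j k)))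
      ((tabPM chevD4 chevG2 Ta2) i k) = true := by
  decide +kernel

/-- stage table. -/
def Tb0 : List (List (List ℤ)) :=
  [[[1], [], [], [], [], [], [], [], [], [], [], [], [], []],
  [[], [1], [], [], [], [], [], [0, 1], [], [], [], [], [], []],
  [[1], [], [], [], [], [], [], [], [], [], [], [], [], []],
  [[1], [], [], [], [], [], [], [], [], [], [], [], [], []],
  [[], [], [-1], [], [], [], [], [], [], [], [], [], [], []],
  [[], [], [0, 1], [-1], [], [], [], [], [], [], [], [], [], []],
  [[], [], [], [], [-1], [], [], [], [], [], [], [], [], []],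
  [[], [], [], [], [-1], [], [], [], [], [], [], [], [], []],
  [[], [], [], [], [], [1], [], [], [], [], [], [], [], []],
  [[], [], [], [], [], [0, -1], [1], [], [], [], [], [], [], []],
  [[], [], [], [], [1], [], [], [], [], [], [], [], [], []],
  [[], [], [], [], [], [-1], [], [], [], [], [], [], [], []],
  [[], [], [], [], [], [-1], [], [], [], [], [], [], [], []],
  [[], [], [], [], [], [], [], [1], [], [], [], [], [], []],
  [[], [], [], [], [], [0, -1], [1], [], [], [], [], [], [], []],
  [[], [], [], [], [], [0, -1], [1], [], [], [], [], [], [], []],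
  [[], [], [], [], [], [], [], [], [], [1], [], [], [], []],
  [[], [], [], [], [], [], [], [], [], [1], [], [], [], []],
  [[0, 3], [0, -2], [], [], [], [], [], [0, 0, -1], [1], [], [], [], [], []],
  [[], [], [], [], [], [], [], [], [], [0, -1], [-1], [], [], []],
  [[], [], [], [], [], [], [], [], [], [0, -1], [-1], [], [], []],
  [[], [], [], [], [], [], [], [], [], [], [], [1], [], []],
  [[], [], [], [], [], [], [], [], [], [1], [], [], [], []],
  [[], [], [], [], [], [], [], [], [], [0, 1], [1], [], [], []],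
  [[], [], [], [], [], [], [], [], [], [], [], [-1], [], []],
  [[], [], [], [], [], [], [], [], [], [], [], [-1], [], []],
  [[], [], [], [], [], [], [], [], [], [], [], [], [-1], []],
  [[], [], [], [], [], [], [], [], [], [], [], [], [0, -1], [-1]]]

theorem ok_Tb0 : ∀ (i : chevD4.Idx) (k : chevG2.Idx),
    peq (psum ((idxL chevD4).map fun j => pmul ((xPM chevD4 ⟨14, by decide⟩) i j) ((cstPM chevD4 chevG2 Jt) j k)))
      ((tabPM chevD4 chevG2 Tb0) i k) = true := by
  decide +kernel

theorem ok_b_fin : ∀ (i : chevD4.Idx) (k : chevG2.Idx),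
    peq (psum ((idxL chevG2).map fun j => pmul ((cstPM chevD4 chevG2 Jt) i j) ((xPM chevG2 ⟨6, by decide⟩) j k)))
      ((tabPM chevD4 chevG2 Tb0) i k) = true := by
  decide +kernel

/-- stage table. -/
def Tna0 : List (List (List ℤ)) :=
  [[[1], [], [], [], [], [], [], [], [], [], [], [], [], []],
  [[], [1], [], [], [], [], [], [], [], [], [], [], [], []],
  [[1], [], [], [], [], [], [], [], [], [], [], [], [], []],
  [[1], [], [], [], [], [], [], [], [], [0, -1], [], [], [], []],
  [[], [], [-1], [], [], [], [], [], [], [], [], [], [], []],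
  [[], [], [], [-1], [0, 1], [], [], [], [], [], [], [], [], []],
  [[], [], [], [], [-1], [], [], [], [], [], [], [], [], []],
  [[], [], [], [], [-1], [0, -1], [], [], [], [], [], [], [], []],
  [[], [], [], [], [], [1], [], [], [], [], [], [], [], []],
  [[], [], [], [], [], [], [1], [], [], [], [], [], [], []],
  [[], [], [], [], [1], [0, 1], [], [], [], [], [], [], [], []],
  [[], [], [], [], [], [-1], [], [], [], [], [], [], [], []],
  [[], [], [], [], [], [-1], [], [0, -1], [], [], [], [], [], []],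
  [[], [], [], [], [], [], [], [1], [], [], [], [], [], []],
  [[], [], [], [], [], [], [1], [], [], [], [], [], [], []],
  [[0, 2], [0, -1], [], [], [], [], [1], [], [], [0, 0, -1], [], [], [], []],
  [[], [], [], [], [], [], [], [], [], [1], [], [], [], []],
  [[], [], [], [], [], [], [], [], [], [1], [], [], [], []],
  [[], [], [], [], [], [], [], [], [1], [], [0, -1], [], [], []],
  [[], [], [], [], [], [], [], [], [], [], [-1], [], [], []],
  [[], [], [], [], [], [], [], [], [], [], [-1], [0, 1], [], []],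
  [[], [], [], [], [], [], [], [], [], [], [], [1], [], []],
  [[], [], [], [], [], [], [], [], [], [1], [], [], [], []],
  [[], [], [], [], [], [], [], [], [], [], [1], [0, -1], [], []],
  [[], [], [], [], [], [], [], [], [], [], [], [-1], [], []],
  [[], [], [], [], [], [], [], [], [], [], [], [-1], [0, -1], []],
  [[], [], [], [], [], [], [], [], [], [], [], [], [-1], []],
  [[], [], [], [], [], [], [], [], [], [], [], [], [], [-1]]]

theorem ok_Tna0 : ∀ (i : chevD4.Idx) (k : chevG2.Idx),
    peq (psum ((idxL chevD4).map fun j => pmul ((xPM chevD4 ⟨11, by decide⟩) i j) ((cstPM chevD4 chevG2 Jt) j k)))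
      ((tabPM chevD4 chevG2 Tna0) i k) = true := by
  decide +kernel

/-- stage table. -/
def Tna1 : List (List (List ℤ)) :=
  [[[1], [], [], [], [], [], [], [], [], [], [], [], [], []],
  [[], [1], [], [], [], [], [], [], [], [], [], [], [], []],
  [[1], [], [], [], [], [], [], [], [], [0, -1], [], [], [], []],
  [[1], [], [], [], [], [], [], [], [], [0, -1], [], [], [], []],
  [[], [], [-1], [], [], [], [], [], [], [], [], [], [], []],
  [[], [], [], [-1], [0, 2], [0, 0, 1], [], [], [], [], [], [], [], []],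
  [[], [], [], [], [-1], [0, -1], [], [], [], [], [], [], [], []],
  [[], [], [], [], [-1], [0, -1], [], [], [], [], [], [], [], []],
  [[], [], [], [], [], [1], [], [], [], [], [], [], [], []],
  [[], [], [], [], [], [], [1], [], [], [], [], [], [], []],
  [[], [], [], [], [1], [0, 2], [], [0, 0, 1], [], [], [], [], [], []],
  [[], [], [], [], [], [-1], [], [0, -1], [], [], [], [], [], []],
  [[], [], [], [], [], [-1], [], [0, -1], [], [], [], [], [], []],
  [[], [], [], [], [], [], [], [1], [], [], [], [], [], []],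
  [[0, 2], [0, -1], [], [], [], [], [1], [], [], [0, 0, -1], [], [], [], []],
  [[0, 2], [0, -1], [], [], [], [], [1], [], [], [0, 0, -1], [], [], [], []],
  [[], [], [], [], [], [], [], [], [], [1], [], [], [], []],
  [[], [], [], [], [], [], [], [], [], [1], [], [], [], []],
  [[], [], [], [], [], [], [], [], [1], [], [0, -2], [0, 0, 1], [], []],
  [[], [], [], [], [], [], [], [], [], [], [-1], [0, 1], [], []],
  [[], [], [], [], [], [], [], [], [], [], [-1], [0, 1], [], []],
  [[], [], [], [], [], [], [], [], [], [], [], [1], [], []],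
  [[], [], [], [], [], [], [], [], [], [1], [], [], [], []],
  [[], [], [], [], [], [], [], [], [], [], [1], [0, -2], [0, 0, -1], []],
  [[], [], [], [], [], [], [], [], [], [], [], [-1], [0, -1], []],
  [[], [], [], [], [], [], [], [], [], [], [], [-1], [0, -1], []],
  [[], [], [], [], [], [], [], [], [], [], [], [], [-1], []],
  [[], [], [], [], [], [], [], [], [], [], [], [], [], [-1]]]

theorem ok_Tna1 : ∀ (i : chevD4.Idx) (k : chevG2.Idx),
    peq (psum ((idxL chevD4).map fun j => pmul ((xPM chevD4 ⟨10, by decide⟩) i j) ((tabPM chevD4 chevG2 Tna0) j k)))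
      ((tabPM chevD4 chevG2 Tna1) i k) = true := by
  decide +kernel

/-- stage table. -/
def Tna2 : List (List (List ℤ)) :=
  [[[1], [], [], [], [], [], [], [], [], [0, -1], [], [], [], []],
  [[], [1], [], [], [], [], [], [], [], [], [], [], [], []],
  [[1], [], [], [], [], [], [], [], [], [0, -1], [], [], [], []],
  [[1], [], [], [], [], [], [], [], [], [0, -1], [], [], [], []],
  [[], [], [-1], [], [], [], [], [], [], [], [], [], [], []],
  [[], [], [], [-1], [0, 3], [0, 0, 3], [], [0, 0, 0, 1], [], [], [], [], [], []],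
  [[], [], [], [], [-1], [0, -2], [], [0, 0, -1], [], [], [], [], [], []],
  [[], [], [], [], [-1], [0, -2], [], [0, 0, -1], [], [], [], [], [], []],
  [[], [], [], [], [], [1], [], [0, 1], [], [], [], [], [], []],
  [[0, 2], [0, -1], [], [], [], [], [1], [], [], [0, 0, -1], [], [], [], []],
  [[], [], [], [], [1], [0, 2], [], [0, 0, 1], [], [], [], [], [], []],
  [[], [], [], [], [], [-1], [], [0, -1], [], [], [], [], [], []],
  [[], [], [], [], [], [-1], [], [0, -1], [], [], [], [], [], []],
  [[], [], [], [], [], [], [], [1], [], [], [], [], [], []],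
  [[0, 2], [0, -1], [], [], [], [], [1], [], [], [0, 0, -1], [], [], [], []],
  [[0, 2], [0, -1], [], [], [], [], [1], [], [], [0, 0, -1], [], [], [], []],
  [[], [], [], [], [], [], [], [], [], [1], [], [], [], []],
  [[], [], [], [], [], [], [], [], [], [1], [], [], [], []],
  [[], [], [], [], [], [], [], [], [1], [], [0, -3], [0, 0, 3], [0, 0, 0, 1], []],
  [[], [], [], [], [], [], [], [], [], [], [-1], [0, 2], [0, 0, 1], []],
  [[], [], [], [], [], [], [], [], [], [], [-1], [0, 2], [0, 0, 1], []],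
  [[], [], [], [], [], [], [], [], [], [], [], [1], [0, 1], []],
  [[], [], [], [], [], [], [], [], [], [1], [], [], [], []],
  [[], [], [], [], [], [], [], [], [], [], [1], [0, -2], [0, 0, -1], []],
  [[], [], [], [], [], [], [], [], [], [], [], [-1], [0, -1], []],
  [[], [], [], [], [], [], [], [], [], [], [], [-1], [0, -1], []],
  [[], [], [], [], [], [], [], [], [], [], [], [], [-1], []],
  [[], [], [], [], [], [], [], [], [], [], [], [], [], [-1]]]

theorem ok_Tna2 : ∀ (i : chevD4.Idx) (k : chevG2.Idx),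
    peq (psum ((idxL chevD4).map fun j => pmul ((xPM chevD4 ⟨5, by decide⟩) i j) ((tabPM chevD4 chevG2 Tna1) j k)))
      ((tabPM chevD4 chevG2 Tna2) i k) = true := by
  decide +kernel

theorem ok_na_fin : ∀ (i : chevD4.Idx) (k : chevG2.Idx),
    peq (psum ((idxL chevG2).map fun j => pmul ((cstPM chevD4 chevG2 Jt) i j) ((xPM chevG2 ⟨4, by decide⟩) j k)))
      ((tabPM chevD4 chevG2 Tna2) i k) = true := by
  decide +kernel

/-- stage table. -/
def Tnb0 : List (List (List ℤ)) :=
  [[[1], [], [], [], [], [], [], [], [], [], [], [], [], []],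
  [[], [1], [], [], [], [], [], [], [0, -1], [], [], [], [], []],
  [[1], [], [], [], [], [], [], [], [], [], [], [], [], []],
  [[1], [], [], [], [], [], [], [], [], [], [], [], [], []],
  [[], [], [-1], [0, 1], [], [], [], [], [], [], [], [], [], []],
  [[], [], [], [-1], [], [], [], [], [], [], [], [], [], []],
  [[], [], [], [], [-1], [], [], [], [], [], [], [], [], []],
  [[], [], [], [], [-1], [], [], [], [], [], [], [], [], []],
  [[], [], [], [], [], [1], [0, -1], [], [], [], [], [], [], []],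
  [[], [], [], [], [], [], [1], [], [], [], [], [], [], []],
  [[], [], [], [], [1], [], [], [], [], [], [], [], [], []],
  [[], [], [], [], [], [-1], [0, 1], [], [], [], [], [], [], []],
  [[], [], [], [], [], [-1], [0, 1], [], [], [], [], [], [], []],
  [[0, -3], [0, 2], [], [], [], [], [], [1], [0, 0, -1], [], [], [], [], []],
  [[], [], [], [], [], [], [1], [], [], [], [], [], [], []],
  [[], [], [], [], [], [], [1], [], [], [], [], [], [], []],
  [[], [], [], [], [], [], [], [], [], [1], [0, 1], [], [], []],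
  [[], [], [], [], [], [], [], [], [], [1], [0, 1], [], [], []],
  [[], [], [], [], [], [], [], [], [1], [], [], [], [], []],
  [[], [], [], [], [], [], [], [], [], [], [-1], [], [], []],
  [[], [], [], [], [], [], [], [], [], [], [-1], [], [], []],
  [[], [], [], [], [], [], [], [], [], [], [], [1], [], []],
  [[], [], [], [], [], [], [], [], [], [1], [0, 1], [], [], []],
  [[], [], [], [], [], [], [], [], [], [], [1], [], [], []],
  [[], [], [], [], [], [], [], [], [], [], [], [-1], [], []],
  [[], [], [], [], [], [], [], [], [], [], [], [-1], [], []],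
  [[], [], [], [], [], [], [], [], [], [], [], [], [-1], [0, -1]],
  [[], [], [], [], [], [], [], [], [], [], [], [], [], [-1]]]

theorem ok_Tnb0 : ∀ (i : chevD4.Idx) (k : chevG2.Idx),
    peq (psum ((idxL chevD4).map fun j => pmul ((xPM chevD4 ⟨9, by decide⟩) i j) ((cstPM chevD4 chevG2 Jt) j k)))
      ((tabPM chevD4 chevG2 Tnb0) i k) = true := by
  decide +kernel

theorem ok_nb_fin : ∀ (i : chevD4.Idx) (k : chevG2.Idx),
    peq (psum ((idxL chevG2).map fun j => pmul ((cstPM chevD4 chevG2 Jt) i j) ((xPM chevG2 ⟨5, by decide⟩) j k)))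
      ((tabPM chevD4 chevG2 Tnb0) i k) = true := by
  decide +kernel

/-- stage table. -/
def Tar0 : List (List (List ℤ)) :=
  [[[1], [], [], [], [], [], [0, 1], [], [], [], [], [], [], []],
  [[], [1], [], [], [], [], [], [], [], [], [], [], [], []],
  [[1], [], [], [], [], [], [], [], [], [], [], [], [], []],
  [[1], [], [], [], [], [], [], [], [], [], [], [], [], []],
  [[], [], [-1], [], [], [], [], [], [], [], [], [], [], []],
  [[], [], [], [-1], [], [], [], [], [], [], [], [], [], []],
  [[], [], [], [], [-1], [], [], [], [], [], [], [], [], []],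
  [[], [], [], [], [-1], [], [], [], [], [], [], [], [], []],
  [[], [], [], [], [], [1], [], [], [], [], [], [], [], []],
  [[], [], [], [], [], [], [1], [], [], [], [], [], [], []],
  [[], [], [], [0, -1], [1], [], [], [], [], [], [], [], [], []],
  [[], [], [], [], [0, -1], [-1], [], [], [], [], [], [], [], []],
  [[], [], [], [], [0, -1], [-1], [], [], [], [], [], [], [], []],
  [[], [], [], [], [], [0, 1], [], [1], [], [], [], [], [], []],
  [[], [], [], [], [], [], [1], [], [], [], [], [], [], []],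
  [[], [], [], [], [], [], [1], [], [], [], [], [], [], []],
  [[], [], [], [], [], [], [], [], [], [1], [], [], [], []],
  [[], [], [], [], [], [], [], [], [], [1], [], [], [], []],
  [[], [], [], [], [], [], [], [], [1], [], [], [], [], []],
  [[], [], [], [], [], [], [], [], [], [], [-1], [], [], []],
  [[], [], [], [], [], [], [], [], [], [], [-1], [], [], []],
  [[], [], [], [], [], [], [], [], [], [], [], [1], [], []],
  [[0, -2], [0, 1], [], [], [], [], [0, 0, -1], [], [], [1], [], [], [], []],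
  [[], [], [], [], [], [], [], [], [0, -1], [], [1], [], [], []],
  [[], [], [], [], [], [], [], [], [], [], [0, 1], [-1], [], []],
  [[], [], [], [], [], [], [], [], [], [], [0, 1], [-1], [], []],
  [[], [], [], [], [], [], [], [], [], [], [], [0, -1], [-1], []],
  [[], [], [], [], [], [], [], [], [], [], [], [], [], [-1]]]

theorem ok_Tar0 : ∀ (i : chevD4.Idx) (k : chevG2.Idx),
    peq (psum ((idxL chevD4).map fun j => pmul ((xPM chevD4 ⟨18, by decide⟩) i j) ((cstPM chevD4 chevG2 Jt) j k)))
      ((tabPM chevD4 chevG2 Tar0) i k) = true := by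
  decide +kernel

/-- stage table. -/
def Tar1 : List (List (List ℤ)) :=
  [[[1], [], [], [], [], [], [0, 1], [], [], [], [], [], [], []],
  [[], [1], [], [], [], [], [], [], [], [], [], [], [], []],
  [[1], [], [], [], [], [], [0, 1], [], [], [], [], [], [], []],
  [[1], [], [], [], [], [], [], [], [], [], [], [], [], []],
  [[], [], [-1], [], [], [], [], [], [], [], [], [], [], []],
  [[], [], [], [-1], [], [], [], [], [], [], [], [], [], []],
  [[], [], [], [], [-1], [], [], [], [], [], [], [], [], []],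
  [[], [], [], [0, 1], [-1], [], [], [], [], [], [], [], [], []],
  [[], [], [], [], [0, 1], [1], [], [], [], [], [], [], [], []],
  [[], [], [], [], [], [], [1], [], [], [], [], [], [], []],
  [[], [], [], [0, -1], [1], [], [], [], [], [], [], [], [], []],
  [[], [], [], [], [0, -1], [-1], [], [], [], [], [], [], [], []],
  [[], [], [], [0, 0, 1], [0, -2], [-1], [], [], [], [], [], [], [], []],
  [[], [], [], [], [0, 0, 1], [0, 2], [], [1], [], [], [], [], [], []],
  [[], [], [], [], [], [], [1], [], [], [], [], [], [], []],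
  [[], [], [], [], [], [], [1], [], [], [], [], [], [], []],
  [[], [], [], [], [], [], [], [], [], [1], [], [], [], []],
  [[0, -2], [0, 1], [], [], [], [], [0, 0, -1], [], [], [1], [], [], [], []],
  [[], [], [], [], [], [], [], [], [1], [], [], [], [], []],
  [[], [], [], [], [], [], [], [], [], [], [-1], [], [], []],
  [[], [], [], [], [], [], [], [], [0, 1], [], [-1], [], [], []],
  [[], [], [], [], [], [], [], [], [], [], [0, -1], [1], [], []],
  [[0, -2], [0, 1], [], [], [], [], [0, 0, -1], [], [], [1], [], [], [], []],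
  [[], [], [], [], [], [], [], [], [0, -1], [], [1], [], [], []],
  [[], [], [], [], [], [], [], [], [], [], [0, 1], [-1], [], []],
  [[], [], [], [], [], [], [], [], [0, 0, -1], [], [0, 2], [-1], [], []],
  [[], [], [], [], [], [], [], [], [], [], [0, 0, 1], [0, -2], [-1], []],
  [[], [], [], [], [], [], [], [], [], [], [], [], [], [-1]]]

theorem ok_Tar1 : ∀ (i : chevD4.Idx) (k : chevG2.Idx),
    peq (psum ((idxL chevD4).map fun j => pmul ((xPM chevD4 ⟨13, by decide⟩) i j) ((tabPM chevD4 chevG2 Tar0) j k)))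
      ((tabPM chevD4 chevG2 Tar1) i k) = true := by
  decide +kernel

/-- stage table. -/
def Tar2 : List (List (List ℤ)) :=
  [[[1], [], [], [], [], [], [0, 1], [], [], [], [], [], [], []],
  [[], [1], [], [], [], [], [], [], [], [], [], [], [], []],
  [[1], [], [], [], [], [], [0, 1], [], [], [], [], [], [], []],
  [[1], [], [], [], [], [], [0, 1], [], [], [], [], [], [], []],
  [[], [], [-1], [], [], [], [], [], [], [], [], [], [], []],
  [[], [], [], [-1], [], [], [], [], [], [], [], [], [], []],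
  [[], [], [], [0, 1], [-1], [], [], [], [], [], [], [], [], []],
  [[], [], [], [0, 1], [-1], [], [], [], [], [], [], [], [], []],
  [[], [], [], [0, 0, -1], [0, 2], [1], [], [], [], [], [], [], [], []],
  [[], [], [], [], [], [], [1], [], [], [], [], [], [], []],
  [[], [], [], [0, -1], [1], [], [], [], [], [], [], [], [], []],
  [[], [], [], [0, 0, 1], [0, -2], [-1], [], [], [], [], [], [], [], []],
  [[], [], [], [0, 0, 1], [0, -2], [-1], [], [], [], [], [], [], [], []],
  [[], [], [], [0, 0, 0, -1], [0, 0, 3], [0, 3], [], [1], [], [], [], [], [], []],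
  [[], [], [], [], [], [], [1], [], [], [], [], [], [], []],
  [[], [], [], [], [], [], [1], [], [], [], [], [], [], []],
  [[0, -2], [0, 1], [], [], [], [], [0, 0, -1], [], [], [1], [], [], [], []],
  [[0, -2], [0, 1], [], [], [], [], [0, 0, -1], [], [], [1], [], [], [], []],
  [[], [], [], [], [], [], [], [], [1], [], [], [], [], []],
  [[], [], [], [], [], [], [], [], [0, 1], [], [-1], [], [], []],
  [[], [], [], [], [], [], [], [], [0, 1], [], [-1], [], [], []],
  [[], [], [], [], [], [], [], [], [0, 0, 1], [], [0, -2], [1], [], []],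
  [[0, -2], [0, 1], [], [], [], [], [0, 0, -1], [], [], [1], [], [], [], []],
  [[], [], [], [], [], [], [], [], [0, -1], [], [1], [], [], []],
  [[], [], [], [], [], [], [], [], [0, 0, -1], [], [0, 2], [-1], [], []],
  [[], [], [], [], [], [], [], [], [0, 0, -1], [], [0, 2], [-1], [], []],
  [[], [], [], [], [], [], [], [], [0, 0, 0, -1], [], [0, 0, 3], [0, -3], [-1], []],
  [[], [], [], [], [], [], [], [], [], [], [], [], [], [-1]]]

theorem ok_Tar2 : ∀ (i : chevD4.Idx) (k : chevG2.Idx),
    peq (psum ((idxL chevD4).map fun j => pmul ((xPM chevD4 ⟨12, by decide⟩) i j) ((tabPM chevD4 chevG2 Tar1) j k)))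
      ((tabPM chevD4 chevG2 Tar2) i k) = true := by
  decide +kernel

theorem ok_ar_fin : ∀ (i : chevD4.Idx) (k : chevG2.Idx),
    peq (psum ((idxL chevG2).map fun j => pmul ((cstPM chevD4 chevG2 Jt) i j) ((xPM chevG2 ⟨7, by decide⟩) j k)))
      ((tabPM chevD4 chevG2 Tar2) i k) = true := by
  decide +kernel

/-- stage table. -/
def Tnar0 : List (List (List ℤ)) :=
  [[[1], [], [], [], [], [], [], [], [], [0, -1], [], [], [], []],
  [[], [1], [], [], [], [], [], [], [], [], [], [], [], []],
  [[1], [], [], [], [], [], [], [], [], [], [], [], [], []],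
  [[1], [], [], [], [], [], [], [], [], [], [], [], [], []],
  [[], [], [-1], [], [], [], [], [], [], [], [], [], [], []],
  [[], [], [], [-1], [0, 1], [], [], [], [], [], [], [], [], []],
  [[], [], [], [], [-1], [0, -1], [], [], [], [], [], [], [], []],
  [[], [], [], [], [-1], [0, -1], [], [], [], [], [], [], [], []],
  [[], [], [], [], [], [1], [], [0, 1], [], [], [], [], [], []],
  [[0, 2], [0, -1], [], [], [], [], [1], [], [], [0, 0, -1], [], [], [], []],
  [[], [], [], [], [1], [], [], [], [], [], [], [], [], []],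
  [[], [], [], [], [], [-1], [], [], [], [], [], [], [], []],
  [[], [], [], [], [], [-1], [], [], [], [], [], [], [], []],
  [[], [], [], [], [], [], [], [1], [], [], [], [], [], []],
  [[], [], [], [], [], [], [1], [], [], [], [], [], [], []],
  [[], [], [], [], [], [], [1], [], [], [], [], [], [], []],
  [[], [], [], [], [], [], [], [], [], [1], [], [], [], []],
  [[], [], [], [], [], [], [], [], [], [1], [], [], [], []],
  [[], [], [], [], [], [], [], [], [1], [], [0, -1], [], [], []],
  [[], [], [], [], [], [], [], [], [], [], [-1], [0, 1], [], []],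
  [[], [], [], [], [], [], [], [], [], [], [-1], [0, 1], [], []],
  [[], [], [], [], [], [], [], [], [], [], [], [1], [0, 1], []],
  [[], [], [], [], [], [], [], [], [], [1], [], [], [], []],
  [[], [], [], [], [], [], [], [], [], [], [1], [], [], []],
  [[], [], [], [], [], [], [], [], [], [], [], [-1], [], []],
  [[], [], [], [], [], [], [], [], [], [], [], [-1], [], []],
  [[], [], [], [], [], [], [], [], [], [], [], [], [-1], []],
  [[], [], [], [], [], [], [], [], [], [], [], [], [], [-1]]]

theorem ok_Tnar0 : ∀ (i : chevD4.Idx) (k : chevG2.Idx),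
    peq (psum ((idxL chevD4).map fun j => pmul ((xPM chevD4 ⟨5, by decide⟩) i j) ((cstPM chevD4 chevG2 Jt) j k)))
      ((tabPM chevD4 chevG2 Tnar0) i k) = true := by
  decide +kernel

/-- stage table. -/
def Tnar1 : List (List (List ℤ)) :=
  [[[1], [], [], [], [], [], [], [], [], [0, -1], [], [], [], []],
  [[], [1], [], [], [], [], [], [], [], [], [], [], [], []],
  [[1], [], [], [], [], [], [], [], [], [0, -1], [], [], [], []],
  [[1], [], [], [], [], [], [], [], [], [], [], [], [], []],
  [[], [], [-1], [], [], [], [], [], [], [], [], [], [], []],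
  [[], [], [], [-1], [0, 2], [0, 0, 1], [], [], [], [], [], [], [], []],
  [[], [], [], [], [-1], [0, -2], [], [0, 0, -1], [], [], [], [], [], []],
  [[], [], [], [], [-1], [0, -1], [], [], [], [], [], [], [], []],
  [[], [], [], [], [], [1], [], [0, 1], [], [], [], [], [], []],
  [[0, 2], [0, -1], [], [], [], [], [1], [], [], [0, 0, -1], [], [], [], []],
  [[], [], [], [], [1], [0, 1], [], [], [], [], [], [], [], []],
  [[], [], [], [], [], [-1], [], [0, -1], [], [], [], [], [], []],
  [[], [], [], [], [], [-1], [], [], [], [], [], [], [], []],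
  [[], [], [], [], [], [], [], [1], [], [], [], [], [], []],
  [[0, 2], [0, -1], [], [], [], [], [1], [], [], [0, 0, -1], [], [], [], []],
  [[], [], [], [], [], [], [1], [], [], [], [], [], [], []],
  [[], [], [], [], [], [], [], [], [], [1], [], [], [], []],
  [[], [], [], [], [], [], [], [], [], [1], [], [], [], []],
  [[], [], [], [], [], [], [], [], [1], [], [0, -2], [0, 0, 1], [], []],
  [[], [], [], [], [], [], [], [], [], [], [-1], [0, 2], [0, 0, 1], []],
  [[], [], [], [], [], [], [], [], [], [], [-1], [0, 1], [], []],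
  [[], [], [], [], [], [], [], [], [], [], [], [1], [0, 1], []],
  [[], [], [], [], [], [], [], [], [], [1], [], [], [], []],
  [[], [], [], [], [], [], [], [], [], [], [1], [0, -1], [], []],
  [[], [], [], [], [], [], [], [], [], [], [], [-1], [0, -1], []],
  [[], [], [], [], [], [], [], [], [], [], [], [-1], [], []],
  [[], [], [], [], [], [], [], [], [], [], [], [], [-1], []],
  [[], [], [], [], [], [], [], [], [], [], [], [], [], [-1]]]

theorem ok_Tnar1 : ∀ (i : chevD4.Idx) (k : chevG2.Idx),
    peq (psum ((idxL chevD4).map fun j => pmul ((xPM chevD4 ⟨10, by decide⟩) i j) ((tabPM chevD4 chevG2 Tnar0) j k)))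
      ((tabPM chevD4 chevG2 Tnar1) i k) = true := by
  decide +kernel

/-- stage table. -/
def Tnar2 : List (List (List ℤ)) :=
  [[[1], [], [], [], [], [], [], [], [], [0, -1], [], [], [], []],
  [[], [1], [], [], [], [], [], [], [], [], [], [], [], []],
  [[1], [], [], [], [], [], [], [], [], [0, -1], [], [], [], []],
  [[1], [], [], [], [], [], [], [], [], [0, -1], [], [], [], []],
  [[], [], [-1], [], [], [], [], [], [], [], [], [], [], []],
  [[], [], [], [-1], [0, 3], [0, 0, 3], [], [0, 0, 0, 1], [], [], [], [], [], []],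
  [[], [], [], [], [-1], [0, -2], [], [0, 0, -1], [], [], [], [], [], []],
  [[], [], [], [], [-1], [0, -2], [], [0, 0, -1], [], [], [], [], [], []],
  [[], [], [], [], [], [1], [], [0, 1], [], [], [], [], [], []],
  [[0, 2], [0, -1], [], [], [], [], [1], [], [], [0, 0, -1], [], [], [], []],
  [[], [], [], [], [1], [0, 2], [], [0, 0, 1], [], [], [], [], [], []],
  [[], [], [], [], [], [-1], [], [0, -1], [], [], [], [], [], []],
  [[], [], [], [], [], [-1], [], [0, -1], [], [], [], [], [], []],
  [[], [], [], [], [], [], [], [1], [], [], [], [], [], []],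
  [[0, 2], [0, -1], [], [], [], [], [1], [], [], [0, 0, -1], [], [], [], []],
  [[0, 2], [0, -1], [], [], [], [], [1], [], [], [0, 0, -1], [], [], [], []],
  [[], [], [], [], [], [], [], [], [], [1], [], [], [], []],
  [[], [], [], [], [], [], [], [], [], [1], [], [], [], []],
  [[], [], [], [], [], [], [], [], [1], [], [0, -3], [0, 0, 3], [0, 0, 0, 1], []],
  [[], [], [], [], [], [], [], [], [], [], [-1], [0, 2], [0, 0, 1], []],
  [[], [], [], [], [], [], [], [], [], [], [-1], [0, 2], [0, 0, 1], []],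
  [[], [], [], [], [], [], [], [], [], [], [], [1], [0, 1], []],
  [[], [], [], [], [], [], [], [], [], [1], [], [], [], []],
  [[], [], [], [], [], [], [], [], [], [], [1], [0, -2], [0, 0, -1], []],
  [[], [], [], [], [], [], [], [], [], [], [], [-1], [0, -1], []],
  [[], [], [], [], [], [], [], [], [], [], [], [-1], [0, -1], []],
  [[], [], [], [], [], [], [], [], [], [], [], [], [-1], []],
  [[], [], [], [], [], [], [], [], [], [], [], [], [], [-1]]]

theorem ok_Tnar2 : ∀ (i : chevD4.Idx) (k : chevG2.Idx),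
    peq (psum ((idxL chevD4).map fun j => pmul ((xPM chevD4 ⟨11, by decide⟩) i j) ((tabPM chevD4 chevG2 Tnar1) j k)))
      ((tabPM chevD4 chevG2 Tnar2) i k) = true := by
  decide +kernel

theorem ok_nar_fin : ∀ (i : chevD4.Idx) (k : chevG2.Idx),
    peq (psum ((idxL chevG2).map fun j => pmul ((cstPM chevD4 chevG2 Jt) i j) ((xPM chevG2 ⟨4, by decide⟩) j k)))
      ((tabPM chevD4 chevG2 Tnar2) i k) = true := by
  decide +kernel

section

variable {F : Type*} [Field F]

/-- the embedding over `F`. -/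
def J (F : Type*) [Field F] : Matrix chevD4.Idx chevG2.Idx F := cstM chevD4 chevG2 Jt F

/-- the left inverse over `F`. -/
def Pr (F : Type*) [Field F] : Matrix chevG2.Idx chevD4.Idx F := cstM chevG2 chevD4 Prt F

theorem prj_ok : ∀ (i k : chevG2.Idx),
    ((idxL chevD4).map fun j => (Prt.getD (enc chevG2 i) []).getD (enc chevD4 j) 0 *
      (Jt.getD (enc chevD4 j) []).getD (enc chevG2 k) 0).sum = if i = k then 1 else 0 := by
  decide +kernel

theorem Pr_mul_J : Pr F * J F = 1 := by
  ext i k
  rw [Matrix.mul_apply, sum_idxL]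
  simp only [Pr, J, cstM, Matrix.of_apply]
  have h := congrArg (Int.cast : ℤ → F) (prj_ok i k)
  rw [ChevRep.cast_list_sum] at h
  rw [Matrix.one_apply]
  convert h using 1
  · congr 1
    apply List.map_congr_left
    intro j _
    push_cast
    rfl
  · split_ifs <;> simp

theorem x_eq (D : ChevalleyDatum) (r : ℕ) (h : r < D.nroots) (t : F) :
    D.x F r t = pmev (xPM D ⟨r, h⟩) t := by
  rw [pmev_xPM]
  unfold ChevalleyDatum.x
  rw [dif_pos h]

/-- the short fundamental root element. -/
theorem emb_a (t : F) :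
    chevD4.x F 18 t * chevD4.x F 13 t * chevD4.x F 12 t * J F = J F * chevG2.x F 7 t := by
  rw [x_eq chevD4 18 (by decide), x_eq chevD4 13 (by decide), x_eq chevD4 12 (by decide),
    x_eq chevG2 7 (by decide), J, ← pmev_cstPM chevD4 chevG2 Jt t, Matrix.mul_assoc,
    Matrix.mul_assoc,
    stage (idxL chevD4) (sum_idxL chevD4) _ _ _ ok_Ta0 t,
    stage (idxL chevD4) (sum_idxL chevD4) _ _ _ ok_Ta1 t,
    stage (idxL chevD4) (sum_idxL chevD4) _ _ _ ok_Ta2 t,
    stage (idxL chevG2) (sum_idxL chevG2) _ _ _ ok_a_fin t]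

/-- the long fundamental root element. -/
theorem emb_b (t : F) : chevD4.x F 14 t * J F = J F * chevG2.x F 6 t := by
  rw [x_eq chevD4 14 (by decide), x_eq chevG2 6 (by decide), J, ← pmev_cstPM chevD4 chevG2 Jt t,
    stage (idxL chevD4) (sum_idxL chevD4) _ _ _ ok_Tb0 t,
    stage (idxL chevG2) (sum_idxL chevG2) _ _ _ ok_b_fin t]

/-- the negative short fundamental root element. -/
theorem emb_na (t : F) :
    chevD4.x F 5 t * chevD4.x F 10 t * chevD4.x F 11 t * J F = J F * chevG2.x F 4 t := by
  rw [x_eq chevD4 5 (by decide), x_eq chevD4 10 (by decide), x_eq chevD4 11 (by decide),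
    x_eq chevG2 4 (by decide), J, ← pmev_cstPM chevD4 chevG2 Jt t, Matrix.mul_assoc,
    Matrix.mul_assoc,
    stage (idxL chevD4) (sum_idxL chevD4) _ _ _ ok_Tna0 t,
    stage (idxL chevD4) (sum_idxL chevD4) _ _ _ ok_Tna1 t,
    stage (idxL chevD4) (sum_idxL chevD4) _ _ _ ok_Tna2 t,
    stage (idxL chevG2) (sum_idxL chevG2) _ _ _ ok_na_fin t]

/-- the negative long fundamental root element. -/
theorem emb_nb (t : F) : chevD4.x F 9 t * J F = J F * chevG2.x F 5 t := by
  rw [x_eq chevD4 9 (by decide), x_eq chevG2 5 (by decide), J, ← pmev_cstPM chevD4 chevG2 Jt t,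
    stage (idxL chevD4) (sum_idxL chevD4) _ _ _ ok_Tnb0 t,
    stage (idxL chevG2) (sum_idxL chevG2) _ _ _ ok_nb_fin t]

/-- the short fundamental root element, factors in the other order. -/
theorem emb_ar (t : F) :
    chevD4.x F 12 t * chevD4.x F 13 t * chevD4.x F 18 t * J F = J F * chevG2.x F 7 t := by
  rw [x_eq chevD4 18 (by decide), x_eq chevD4 13 (by decide), x_eq chevD4 12 (by decide),
    x_eq chevG2 7 (by decide), J, ← pmev_cstPM chevD4 chevG2 Jt t, Matrix.mul_assoc,
    Matrix.mul_assoc,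
    stage (idxL chevD4) (sum_idxL chevD4) _ _ _ ok_Tar0 t,
    stage (idxL chevD4) (sum_idxL chevD4) _ _ _ ok_Tar1 t,
    stage (idxL chevD4) (sum_idxL chevD4) _ _ _ ok_Tar2 t,
    stage (idxL chevG2) (sum_idxL chevG2) _ _ _ ok_ar_fin t]

/-- the negative short fundamental root element, factors in the other order. -/
theorem emb_nar (t : F) :
    chevD4.x F 11 t * chevD4.x F 10 t * chevD4.x F 5 t * J F = J F * chevG2.x F 4 t := by
  rw [x_eq chevD4 5 (by decide), x_eq chevD4 10 (by decide), x_eq chevD4 11 (by decide),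
    x_eq chevG2 4 (by decide), J, ← pmev_cstPM chevD4 chevG2 Jt t, Matrix.mul_assoc,
    Matrix.mul_assoc,
    stage (idxL chevD4) (sum_idxL chevD4) _ _ _ ok_Tnar0 t,
    stage (idxL chevD4) (sum_idxL chevD4) _ _ _ ok_Tnar1 t,
    stage (idxL chevD4) (sum_idxL chevD4) _ _ _ ok_Tnar2 t,
    stage (idxL chevG2) (sum_idxL chevG2) _ _ _ ok_nar_fin t]

end

end Cfsg.Agent.Lib.Helper5.G2Emb
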