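import Mathlib
import Cfsg.Agent.Lib.Helper40.GFStmt

/-!
# S5886 / ALL1A (second seat, helper5)

`k ≥ 3`: one special transvection in `c.M` gives all special transvections.
`Sp z φ` : `φ z = 0` and the transvection `x ↦ x + τ (φ x) • z` lies in `c.M`.
Conjugation by the `L`-transvection `x ↦ x + χ x • y` sends `(z, φ)` to
`(z + χ z • y, φ - φ y • χ)`; for fixed `z` the `φ` form an additive group.
-/

set_option autoImplicit false

universe u

namespace Cfsg.Agent.Lib.Helper5.GFALL1A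

open Cfsg.Agent.Lib.Helper40.GFStmt

section
variable {F L : Type u} [Field F] [Field L] [Algebra F L] {k : ℕ}

/-- `(z, φ)` is a special transvection of `c.M` -/
def Sp (c : Ctx F L k) (τ : L →ₗ[F] F) (z : V k L) (φ : V k L →ₗ[L] L) : Prop :=
  φ z = 0 ∧ ∃ e ∈ c.M, IsFtv τ e z φ

theorem sp_conj (c : Ctx F L k) (τ : L →ₗ[F] F) {z : V k L} {φ : V k L →ₗ[L] L}
    (h : Sp c τ z φ) (χ : V k L →ₗ[L] L) (y : V k L) (hχ : χ y = 0) :
    Sp c τ (z + χ z • y) (φ - φ y • χ) := by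
  obtain ⟨hz, e, he, hx⟩ := h
  refine ⟨?_, ?_⟩
  · simp only [LinearMap.sub_apply, LinearMap.smul_apply, map_add, map_smul, smul_eq_mul, hz, hχ]
    ring
  · set T : V k L ≃ₗ[F] V k L := (LinearEquiv.transvection hχ).restrictScalars F with hT
    have hTm : T ∈ c.M := mem_tv c χ y hχ
    have hTa : ∀ x, T x = x + χ x • y := fun x => by
      show (LinearEquiv.transvection hχ) x = _
      rw [LinearEquiv.transvection.apply]
    have hTT : ∀ x, T (T⁻¹ x) = x := fun x => by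
      rw [← LinearEquiv.mul_apply, mul_inv_cancel]
      rfl
    have hTi : ∀ x, T⁻¹ x = x - χ x • y := by
      intro x
      apply T.injective
      rw [hTT, hTa, map_sub, map_smul, hχ, smul_zero, sub_zero]
      abel
    refine ⟨T * e * T⁻¹, c.M.mul_mem (c.M.mul_mem hTm he) (c.M.inv_mem hTm), fun x => ?_⟩
    have h2 : φ (T⁻¹ x) = (φ - φ y • χ) x := by
      rw [hTi, map_sub, map_smul, LinearMap.sub_apply, LinearMap.smul_apply, smul_eq_mul,
        smul_eq_mul, mul_comm]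
    rw [LinearEquiv.mul_apply, LinearEquiv.mul_apply, hx, map_add, hTT, map_smul, hTa z, h2]

theorem sp_add (c : Ctx F L k) (τ : L →ₗ[F] F) {z : V k L} {φ φ' : V k L →ₗ[L] L}
    (h : Sp c τ z φ) (h' : Sp c τ z φ') : Sp c τ z (φ + φ') := by
  obtain ⟨hz, e, he, hx⟩ := h
  obtain ⟨hz', e', he', hx'⟩ := h'
  refine ⟨by rw [LinearMap.add_apply, hz, hz', add_zero], e * e', c.M.mul_mem he he',
    fun x => ?_⟩
  have h1 : φ (x + τ (φ' x) • z) = φ x := by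
    rw [map_add, smulF, map_smul, hz, smul_zero, add_zero]
  rw [LinearEquiv.mul_apply, hx', hx, h1, LinearMap.add_apply, map_add, add_smul]
  abel

theorem sp_neg (c : Ctx F L k) (τ : L →ₗ[F] F) {z : V k L} {φ : V k L →ₗ[L] L}
    (h : Sp c τ z φ) : Sp c τ z (-φ) := by
  obtain ⟨hz, e, he, hx⟩ := h
  refine ⟨by rw [LinearMap.neg_apply, hz, neg_zero], e⁻¹, c.M.inv_mem he, fun x => ?_⟩
  apply e.injective
  have h1 : e (e⁻¹ x) = x := by
    rw [← LinearEquiv.mul_apply, mul_inv_cancel]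
    rfl
  have h2 : φ (x + τ ((-φ) x) • z) = φ x := by
    rw [map_add, smulF, map_smul, hz, smul_zero, add_zero]
  rw [h1, hx, h2, LinearMap.neg_apply, map_neg, neg_smul]
  abel

theorem sp_sub (c : Ctx F L k) (τ : L →ₗ[F] F) {z : V k L} {φ φ' : V k L →ₗ[L] L}
    (h : Sp c τ z φ) (h' : Sp c τ z φ') : Sp c τ z (φ - φ') := by
  rw [sub_eq_add_neg]
  exact sp_add c τ h (sp_neg c τ h')

omit [Field F] [Algebra F L] in
theorem exists_one {φ : V k L →ₗ[L] L} (h : φ ≠ 0) : ∃ y, φ y = 1 := by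
  obtain ⟨y, hy⟩ : ∃ y, φ y ≠ 0 := by
    by_contra hc
    apply h
    apply LinearMap.ext
    intro y
    by_contra hy
    exact hc ⟨y, hy⟩
  exact ⟨(φ y)⁻¹ • y, by rw [map_smul, smul_eq_mul, inv_mul_cancel₀ hy]⟩

omit [Field F] [Algebra F L] in
theorem exists_one' {v : V k L} (h : v ≠ 0) : ∃ ψ : V k L →ₗ[L] L, ψ v = 1 := by
  obtain ⟨i, hi⟩ : ∃ i, v i ≠ 0 := by
    by_contra hc
    apply h
    funext i
    by_contra hi
    exact hc ⟨i, hi⟩
  exact ⟨(v i)⁻¹ • LinearMap.proj i, by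
    rw [LinearMap.smul_apply, LinearMap.proj_apply, smul_eq_mul, inv_mul_cancel₀ hi]⟩

omit [Field F] [Algebra F L] in
theorem exists_van (hk : 3 ≤ k) (u v : V k L) :
    ∃ ψ : V k L →ₗ[L] L, ψ ≠ 0 ∧ ψ u = 0 ∧ ψ v = 0 := by
  classical
  have hlt : Submodule.span L (({u, v} : Finset (V k L)) : Set (V k L)) < ⊤ := by
    rw [lt_top_iff_ne_top]
    intro htop
    have h1 := finrank_span_finset_le_card (R := L) ({u, v} : Finset (V k L))
    unfold Set.finrank at h1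
    rw [htop, finrank_top, Module.finrank_fintype_fun_eq_card, Fintype.card_fin] at h1
    have h2 : ({u, v} : Finset (V k L)).card ≤ 2 := Finset.card_le_two
    omega
  obtain ⟨ψ, hψ, hle⟩ := Submodule.exists_le_ker_of_lt_top _ hlt
  refine ⟨ψ, hψ, ?_, ?_⟩
  · exact LinearMap.mem_ker.mp (hle (Submodule.subset_span (by simp)))
  · exact LinearMap.mem_ker.mp (hle (Submodule.subset_span (by simp)))

theorem step1 (c : Ctx F L k) (τ : L →ₗ[F] F) (hk : 3 ≤ k) {z₀ : V k L}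
    {φ₀ : V k L →ₗ[L] L} (h0 : Sp c τ z₀ φ₀) (hφ₀ : φ₀ ≠ 0) (χ : V k L →ₗ[L] L)
    (hχ : χ z₀ = 0) : Sp c τ z₀ χ := by
  have claimA : ∀ (χ' : V k L →ₗ[L] L) (y : V k L), χ' y = 0 → χ' z₀ = 0 → φ₀ y = 1 →
      Sp c τ z₀ χ' := by
    intro χ' y hy hz hy1
    have h1 := sp_conj c τ h0 χ' y hy
    rw [hz, zero_smul, add_zero, hy1, one_smul] at h1
    have h2 := sp_sub c τ h0 h1
    rwa [sub_sub_cancel] at h2
  obtain ⟨y₁, hy₁⟩ := exists_one hφ₀
  obtain ⟨ψ, hψ, hψz, hψy⟩ := exists_van hk z₀ y₁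
  have hSψ : Sp c τ z₀ ψ := claimA ψ y₁ hψy hψz hy₁
  obtain ⟨y₂, hy₂⟩ := exists_one hψ
  have h1 : Sp c τ z₀ (χ - χ y₁ • φ₀) := by
    apply claimA _ y₁ _ _ hy₁
    · rw [LinearMap.sub_apply, LinearMap.smul_apply, hy₁, smul_eq_mul, mul_one, sub_self]
    · rw [LinearMap.sub_apply, LinearMap.smul_apply, h0.1, smul_zero, hχ, sub_zero]
  have h2 : Sp c τ z₀ (χ y₁ • φ₀ - ψ) := by
    apply claimA _ (y₁ + χ y₁ • (y₂ - φ₀ y₂ • y₁))
    · simp only [LinearMap.sub_apply, LinearMap.smul_apply, map_add, map_smul, map_sub,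
        smul_eq_mul, hy₁, hψy, hy₂]
      ring
    · rw [LinearMap.sub_apply, LinearMap.smul_apply, h0.1, smul_zero, hψz, sub_zero]
    · simp only [map_add, map_smul, map_sub, smul_eq_mul, hy₁]
      ring
  have h3 := sp_add c τ h1 (sp_add c τ h2 hSψ)
  have e : χ - χ y₁ • φ₀ + (χ y₁ • φ₀ - ψ + ψ) = χ := by abel
  rwa [e] at h3

theorem move (c : Ctx F L k) (τ : L →ₗ[F] F) {z w : V k L} {φ : V k L →ₗ[L] L}
    (h : Sp c τ z φ) (hw : φ w = 0) (χ : V k L →ₗ[L] L) (hz1 : χ z = 1) (hw1 : χ w = 1) :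
    Sp c τ w φ := by
  have h1 := sp_conj c τ h χ (w - z) (by rw [map_sub, hw1, hz1, sub_self])
  rw [hz1, one_smul, add_sub_cancel, map_sub, hw, h.1, sub_zero, zero_smul, sub_zero] at h1
  exact h1

end

theorem main : All1A.{u} := by
  intro F L _ _ _ k c hk τ hsp z φ hφz
  obtain ⟨e₀, he₀, z₀, φ₀, hz₀, hφ₀, hφz₀, hI⟩ := hsp
  have h0 : Sp c τ z₀ φ₀ := ⟨hφz₀, e₀, he₀, hI⟩
  by_cases hz : z = 0
  · subst hz
    exact ⟨1, c.M.one_mem, fun x => by
      rw [smul_zero, add_zero]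
      rfl⟩
  · obtain ⟨θ, hθ, hθz₀, hθz⟩ := exists_van hk z₀ z
    obtain ⟨w, hw⟩ := exists_one hθ
    obtain ⟨ψ₀, hψ₀⟩ := exists_one' hz₀
    obtain ⟨ψ₁, hψ₁⟩ := exists_one' hz
    obtain ⟨θ₁, hθ₁, hθ₁z₀, hθ₁w⟩ := exists_van hk z₀ w
    have h1 : Sp c τ z₀ θ₁ := step1 c τ hk h0 hφ₀ θ₁ hθ₁z₀
    have h2 : Sp c τ w θ₁ := by
      apply move c τ h1 hθ₁w (ψ₀ + (1 - ψ₀ w) • θ)
      · rw [LinearMap.add_apply, LinearMap.smul_apply, hψ₀, hθz₀, smul_zero, add_zero]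
      · rw [LinearMap.add_apply, LinearMap.smul_apply, hw, smul_eq_mul, mul_one]
        ring
    obtain ⟨θ₂, hθ₂, hθ₂w, hθ₂z⟩ := exists_van hk w z
    have h3 : Sp c τ w θ₂ := step1 c τ hk h2 hθ₁ θ₂ hθ₂w
    have h4 : Sp c τ z θ₂ := by
      apply move c τ h3 hθ₂z (ψ₁ + (1 - ψ₁ w) • θ)
      · rw [LinearMap.add_apply, LinearMap.smul_apply, hw, smul_eq_mul, mul_one]
        ring
      · rw [LinearMap.add_apply, LinearMap.smul_apply, hψ₁, hθz, smul_zero, add_zero]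
    exact (step1 c τ hk h4 hθ₂ φ hφz).2

end Cfsg.Agent.Lib.Helper5.GFALL1A
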