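import Mathlib
import Cfsg.Agent.Lib.Helper27.JzStmt
import Cfsg.Agent.Lib.Helper56.SmallSolvable
import Cfsg.Agent.Lib.Helper76.KleinDeg3

/-!
# S5403 / RECOG (helper5)

A group `Y` of order at most `300` with a normal subgroup `N` of order `5` and two elements
`x ∉ N`, `y` which are commutators modulo `N` of elements of `⟨x, y⟩`: `Y ⧸ N ≃* A5`.
-/

set_option autoImplicit false

namespace Cfsg.Agent.Lib.Helper5.JzRECOG

open Cfsg.Agent.Lib.Helper27.JzStmt
open scoped commutatorElement

/-- a subgroup contained in its own commutator lies in every term of the derived series -/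
theorem le_derivedSeries {Q : Type*} [Group Q] (P : Subgroup Q) (hP : P ≤ ⁅P, P⁆) (n : ℕ) :
    P ≤ derivedSeries Q n := by
  induction n with
  | zero => exact le_top
  | succ n ih =>
    rw [derivedSeries_succ]
    exact le_trans hP (Subgroup.commutator_mono ih ih)

theorem main (hS : Small) : Recog := by
  intro Y _ _ N _ hY hN hex
  obtain ⟨x, y, u1, v1, u2, v2, hxN, hu1, hv1, hu2, hv2, hx, hy⟩ := hex
  classical
  let π : Y →* Y ⧸ N := QuotientGroup.mk' N
  set P : Subgroup (Y ⧸ N) := (Subgroup.closure ({x, y} : Set Y)).map π with hPdef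
  have hxP : π x ∈ P := Subgroup.mem_map_of_mem π (Subgroup.subset_closure (by simp))
  have hu1' : π u1 ∈ P := Subgroup.mem_map_of_mem π hu1
  have hv1' : π v1 ∈ P := Subgroup.mem_map_of_mem π hv1
  have hu2' : π u2 ∈ P := Subgroup.mem_map_of_mem π hu2
  have hv2' : π v2 ∈ P := Subgroup.mem_map_of_mem π hv2
  have hxc : π x = ⁅π u1, π v1⁆ := by
    have h1 : π x = π (u1 * v1 * u1⁻¹ * v1⁻¹) := (QuotientGroup.eq).mpr hx
    rw [h1, commutatorElement_def]
    simp only [map_mul, map_inv]
  have hyc : π y = ⁅π u2, π v2⁆ := by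
    have h1 : π y = π (u2 * v2 * u2⁻¹ * v2⁻¹) := (QuotientGroup.eq).mpr hy
    rw [h1, commutatorElement_def]
    simp only [map_mul, map_inv]
  have hPc : P ≤ ⁅P, P⁆ := by
    rw [hPdef, Subgroup.map_le_iff_le_comap, Subgroup.closure_le]
    intro z hz
    rcases hz with rfl | rfl
    · show π z ∈ ⁅P, P⁆
      rw [hxc]
      exact Subgroup.commutator_mem_commutator hu1' hv1'
    · show π z ∈ ⁅P, P⁆
      rw [hyc]
      exact Subgroup.commutator_mem_commutator hu2' hv2'
  have hns : ¬ Group.IsSolvable (Y ⧸ N) := by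
    intro hsol
    obtain ⟨n, hn⟩ := (Group.isSolvable_def (Y ⧸ N)).mp hsol
    have h1 := le_derivedSeries P hPc n
    rw [hn] at h1
    have h2 : π x = 1 := (Subgroup.mem_bot).mp (h1 hxP)
    exact hxN ((QuotientGroup.eq_one_iff x).mp h2)
  have hcard : Nat.card Y = Nat.card (Y ⧸ N) * Nat.card N :=
    Subgroup.card_eq_card_quotient_mul_card_subgroup N
  rw [hN] at hcard
  have h60 : Nat.card (Y ⧸ N) = 60 := by
    by_contra hne
    have hlt : Nat.card (Y ⧸ N) < 60 := by omega
    exact hns (hS (Y ⧸ N) hlt)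
  have : IsSimpleGroup (Y ⧸ N) :=
    Cfsg.Agent.Lib.Helper56.SmallSolvable.isSimpleGroup_of_card_60 h60 hns
  have hna : ∃ a b : Y ⧸ N, a * b ≠ b * a := by
    by_contra hcon
    apply hns
    apply Group.isSolvable_of_comm
    intro a b
    by_contra hne
    exact hcon ⟨a, b, hne⟩
  exact Cfsg.Agent.Lib.Helper76.KleinDeg3.part_one hna 3 5 1 1 Nat.prime_three Nat.prime_five
    (by norm_num) (by rw [h60]; norm_num)

end Cfsg.Agent.Lib.Helper5.JzRECOG
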