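import Mathlib
import Cfsg.Agent.Lib.Helper44.Siegel

set_option autoImplicit false

namespace Cfsg.Agent.Lib.Helper5.OmegaSimple

open Module QuadraticMap
open Cfsg.Agent.Lib.Helper44.Split Cfsg.Agent.Lib.Helper44.QSpace Cfsg.Agent.Lib.Helper44.OGroup
open Cfsg.Agent.Lib.Helper44.Eichler Cfsg.Agent.Lib.Helper44.Siegel
open Cfsg.Agent.Lib.Helper44.ReflClass (q_sub)

universe u

variable {F : Type*} [Field F] {V : Type u} [AddCommGroup V] [Module F V]
variable {Q : QuadraticForm F V}

/-- the set of all Eichler transformations -/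
def eichSet (Q : QuadraticForm F V) : Set ↥(O Q) :=
  {g | ∃ (d y : V) (hd : Q d = 0) (hdy : polar Q d y = 0), g = eich Q hd hdy}

/-- the group generated by the Eichler transformations -/
def EG (Q : QuadraticForm F V) : Subgroup ↥(O Q) := Subgroup.closure (eichSet Q)

theorem eich_mem_EG {d y : V} (hd : Q d = 0) (hdy : polar Q d y = 0) : eich Q hd hdy ∈ EG Q :=
  Subgroup.subset_closure ⟨d, y, hd, hdy, rfl⟩

theorem eich_congr {d y y' : V} (hd : Q d = 0) (hdy : polar Q d y = 0) (hdy' : polar Q d y' = 0)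
    (h : y = y') : eich Q hd hdy = eich Q hd hdy' := by
  subst h
  rfl

/-- an Eichler transformation moving `a` to `b` -/
theorem eich_map {d a b : V} (hd : Q d = 0) (ha : Q a = 0) (hb : Q b = 0)
    (hda : polar Q d a = 1) (h : polar Q d (b - a) = 0) :
    ((eich Q hd h : ↥(O Q)) : V ≃ₗ[F] V) a = b := by
  rw [eich_apply, hda, q_sub, hb, ha, polar_sub_left, polar_self', ha]
  module

/-- an Eichler transformation fixes its singular vector -/
theorem eich_fix {d y u : V} (hd : Q d = 0) (hdy : polar Q d y = 0) (hdu : polar Q d u = 0)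
    (hyu : polar Q y u = 0) : ((eich Q hd hdy : ↥(O Q)) : V ≃ₗ[F] V) u = u := by
  rw [eich_apply, hdu, hyu]
  simp

/-- a nonsingular vector orthogonal to a given singular vector -/
theorem exists_nonsing_perp [FiniteDimensional F V] (hS : Sep Q) (hn : 3 ≤ finrank F V) {c : V}
    (hc : Q c = 0) : ∃ z, Q z ≠ 0 ∧ polar Q z c = 0 := by
  by_cases hc0 : c = 0
  · have : Nontrivial V := Module.nontrivial_of_finrank_pos (R := F) (by omega)
    obtain ⟨z, hz⟩ := exists_ne_zero hS
    exact ⟨z, hz, by rw [hc0]; simp⟩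
  · obtain ⟨c', hc', hcc'⟩ := exists_hyp_pair hS hc0 hc
    have hSX := sep_perp2 hS hc hc' hcc'
    have hfr := finrank_perp2' hc hc' hcc'
    have : Nontrivial (perp2 (polarBilin Q) c c') :=
      Module.nontrivial_of_finrank_pos (R := F) (by omega)
    obtain ⟨z, hz⟩ := exists_ne_zero hSX
    refine ⟨(z : V), hz, ?_⟩
    rw [polar_comm]
    exact ((mem_perp2 _ _ _ _).mp z.2).1

/-- the vector `a' + z - Q(z) a` built from a hyperbolic pair -/
theorem q_hyp_shift {a a' z : V} (ha : Q a = 0) (ha' : Q a' = 0) (haa' : polar Q a a' = 1)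
    (hza : polar Q a z = 0) (hza' : polar Q a' z = 0) : Q (a' + z - Q z • a) = 0 := by
  rw [q_sub, q_add, q_smul, ha, ha', polar_smul_r, polar_add_left, polar_comm Q a' a, haa',
    polar_comm Q z a, hza, hza']
  ring

/-- two singular vectors have a common singular non-orthogonal vector -/
theorem exists_sing_both [FiniteDimensional F V] (hS : Sep Q) (hn : 5 ≤ finrank F V) {a b : V}
    (ha0 : a ≠ 0) (ha : Q a = 0) (hb0 : b ≠ 0) (hb : Q b = 0) :
    ∃ d, Q d = 0 ∧ polar Q d a ≠ 0 ∧ polar Q d b ≠ 0 := by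
  obtain ⟨a', ha', haa'⟩ := exists_hyp_pair hS ha0 ha
  have ha'a : polar Q a' a = 1 := by rw [polar_comm]; exact haa'
  by_cases h1 : polar Q a' b = 0
  swap
  · exact ⟨a', ha', by rw [ha'a]; exact one_ne_zero, h1⟩
  have hSX := sep_perp2 hS ha ha' haa'
  have hfr := finrank_perp2' ha ha' haa'
  -- it suffices to find `z` in the complement with `f(z,b) - Q(z) f(a,b) ≠ 0`
  suffices hz : ∃ z : V, polar Q a z = 0 ∧ polar Q a' z = 0 ∧
      polar Q z b - Q z * polar Q a b ≠ 0 by
    obtain ⟨z, hza, hza', hzb⟩ := hz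
    refine ⟨a' + z - Q z • a, q_hyp_shift ha ha' haa' hza hza', ?_, ?_⟩
    · rw [polar_sub_left, polar_add_left, polar_smul_l, ha'a, polar_comm Q z a, hza, polar_self',
        ha]
      simp
    · rw [polar_sub_left, polar_add_left, polar_smul_l, h1, zero_add]
      exact hzb
  by_cases h2 : polar Q a b = 0
  · -- `b` lies in the complement
    have hbX : b ∈ perp2 (polarBilin Q) a a' := by
      rw [mem_perp2, pB_apply, pB_apply]
      exact ⟨h2, h1⟩
    obtain ⟨z, hz⟩ : ∃ z : perp2 (polarBilin Q) a a', polar Q b (z : V) ≠ 0 := by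
      by_contra hcon
      push Not at hcon
      have := hSX ⟨b, hbX⟩ (fun y => hcon y)
      exact hb0 (congrArg Subtype.val this)
    obtain ⟨hz1, hz2⟩ := (mem_perp2 _ _ _ _).mp z.2
    refine ⟨(z : V), hz1, hz2, ?_⟩
    rw [h2, mul_zero, sub_zero, polar_comm]
    exact hz
  · -- the component of `b` in the complement is singular
    have hbX : b - polar Q a' b • a - polar Q a b • a' ∈ perp2 (polarBilin Q) a a' :=
      proj_mem_perp2 (polarBilin Q) (pB_symm Q)
        (by rw [pB_apply, polar_self', ha, mul_zero])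
        (by rw [pB_apply, polar_self', ha', mul_zero]) haa' b
    have hbXq : Q (b - polar Q a' b • a - polar Q a b • a') = 0 := by
      rw [h1, zero_smul, sub_zero, q_sub, q_smul, hb, ha', polar_smul_r, polar_comm Q b a', h1]
      ring
    obtain ⟨z, hz, hzb⟩ := exists_nonsing_perp (Q := res Q (perp2 (polarBilin Q) a a')) hSX
      (by omega) (c := ⟨_, hbX⟩) hbXq
    have hzq : Q (z : V) ≠ 0 := hz
    have hzb' : polar Q (z : V) (b - polar Q a' b • a - polar Q a b • a') = 0 := hzb
    obtain ⟨hz1, hz2⟩ := (mem_perp2 _ _ _ _).mp z.2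
    rw [pB_apply] at hz1 hz2
    refine ⟨(z : V), hz1, hz2, ?_⟩
    rw [polar_sub_right, polar_sub_right, polar_smul_r, polar_smul_r, polar_comm Q (z : V) a, hz1,
      polar_comm Q (z : V) a', hz2] at hzb'
    have hzb'' : polar Q (z : V) b = 0 := by linear_combination hzb'
    rw [hzb'', zero_sub]
    exact neg_ne_zero.mpr (mul_ne_zero hzq h2)

/-- the Eichler group is transitive on singular points -/
theorem exists_eich_map [FiniteDimensional F V] (hS : Sep Q) (hn : 5 ≤ finrank F V) {a b : V}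
    (ha0 : a ≠ 0) (ha : Q a = 0) (hb0 : b ≠ 0) (hb : Q b = 0) :
    ∃ g ∈ EG Q, ∃ c : F, c ≠ 0 ∧ ((g : ↥(O Q)) : V ≃ₗ[F] V) a = c • b := by
  obtain ⟨d, hd, hda, hdb⟩ := exists_sing_both hS hn ha0 ha hb0 hb
  have hd' : Q ((polar Q d a)⁻¹ • d) = 0 := by rw [q_smul, hd, mul_zero]
  have hb' : Q ((polar Q d a / polar Q d b) • b) = 0 := by rw [q_smul, hb, mul_zero]
  have hda' : polar Q ((polar Q d a)⁻¹ • d) a = 1 := by
    rw [polar_smul_l]
    exact inv_mul_cancel₀ hda
  have h : polar Q ((polar Q d a)⁻¹ • d) ((polar Q d a / polar Q d b) • b - a) = 0 := by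
    rw [polar_sub_right, hda', polar_smul_l, polar_smul_r]
    field_simp
    ring
  exact ⟨eich Q hd' h, eich_mem_EG hd' h, polar Q d a / polar Q d b, div_ne_zero hda hdb,
    eich_map hd' ha hb' hda' h⟩

theorem move_aux {d u w x : V} (hd : Q d = 0) (hw : Q w = 0) (hx : Q x = 0)
    (hdu : polar Q d u = 0) (hdw : polar Q d w ≠ 0) (hdx : polar Q d x ≠ 0)
    (hyu : polar Q ((polar Q d w / polar Q d x) • x - w) u = 0) :
    ∃ g ∈ EG Q, ((g : ↥(O Q)) : V ≃ₗ[F] V) u = u ∧
      ∃ c : F, c ≠ 0 ∧ ((g : ↥(O Q)) : V ≃ₗ[F] V) w = c • x := by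
  have hd' : Q ((polar Q d w)⁻¹ • d) = 0 := by rw [q_smul, hd, mul_zero]
  have hx' : Q ((polar Q d w / polar Q d x) • x) = 0 := by rw [q_smul, hx, mul_zero]
  have hda' : polar Q ((polar Q d w)⁻¹ • d) w = 1 := by
    rw [polar_smul_l]
    exact inv_mul_cancel₀ hdw
  have h : polar Q ((polar Q d w)⁻¹ • d) ((polar Q d w / polar Q d x) • x - w) = 0 := by
    rw [polar_sub_right, hda', polar_smul_l, polar_smul_r]
    field_simp
    ring
  refine ⟨eich Q hd' h, eich_mem_EG hd' h, ?_, polar Q d w / polar Q d x, div_ne_zero hdw hdx,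
    eich_map hd' hw hx' hda' h⟩
  exact eich_fix hd' h (by rw [polar_smul_l, hdu, mul_zero]) hyu

/-- moving within the stabiliser of a singular point -/
theorem exists_move [FiniteDimensional F V] (hS : Sep Q) (hn : 7 ≤ finrank F V) {u w x : V}
    (hu0 : u ≠ 0) (hu : Q u = 0) (hw : Q w = 0) (hx : Q x = 0)
    (hwu : w ∉ Submodule.span F {u}) (hxu : x ∉ Submodule.span F {u})
    (h : (polar Q u w ≠ 0 ∧ polar Q u x ≠ 0) ∨ (polar Q u w = 0 ∧ polar Q u x = 0)) :
    ∃ g ∈ EG Q, ((g : ↥(O Q)) : V ≃ₗ[F] V) u = u ∧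
      ∃ c : F, c ≠ 0 ∧ ((g : ↥(O Q)) : V ≃ₗ[F] V) w = c • x := by
  rcases h with ⟨h1, h2⟩ | ⟨h1, h2⟩
  · apply move_aux hu hw hx (by rw [polar_self', hu, mul_zero]) h1 h2
    rw [polar_sub_left, polar_smul_l, polar_comm Q x u, polar_comm Q w u]
    field_simp
    ring
  · obtain ⟨u', hu', huu'⟩ := exists_hyp_pair hS hu0 hu
    have hSX := sep_perp2 hS hu hu' huu'
    have hfr := finrank_perp2' hu hu' huu'
    have hee : polarBilin Q u u = 0 := by rw [pB_apply, polar_self', hu, mul_zero]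
    have hff : polarBilin Q u' u' = 0 := by rw [pB_apply, polar_self', hu', mul_zero]
    have hwX : w - polar Q u' w • u - polar Q u w • u' ∈ perp2 (polarBilin Q) u u' :=
      proj_mem_perp2 (polarBilin Q) (pB_symm Q) hee hff huu' w
    have hxX : x - polar Q u' x • u - polar Q u x • u' ∈ perp2 (polarBilin Q) u u' :=
      proj_mem_perp2 (polarBilin Q) (pB_symm Q) hee hff huu' x
    rw [h1, zero_smul, sub_zero] at hwX
    rw [h2, zero_smul, sub_zero] at hxX
    have hwq : Q (w - polar Q u' w • u) = 0 := by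
      rw [q_sub, q_smul, hw, hu, polar_smul_r, polar_comm Q w u, h1]
      ring
    have hxq : Q (x - polar Q u' x • u) = 0 := by
      rw [q_sub, q_smul, hx, hu, polar_smul_r, polar_comm Q x u, h2]
      ring
    have hw0 : (⟨_, hwX⟩ : perp2 (polarBilin Q) u u') ≠ 0 := by
      intro h0
      apply hwu
      have h3 : w - polar Q u' w • u = 0 := congrArg Subtype.val h0
      rw [sub_eq_zero.mp h3]
      exact Submodule.smul_mem _ _ (Submodule.mem_span_singleton_self u)
    have hx0 : (⟨_, hxX⟩ : perp2 (polarBilin Q) u u') ≠ 0 := by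
      intro h0
      apply hxu
      have h3 : x - polar Q u' x • u = 0 := congrArg Subtype.val h0
      rw [sub_eq_zero.mp h3]
      exact Submodule.smul_mem _ _ (Submodule.mem_span_singleton_self u)
    obtain ⟨d, hd, hdw, hdx⟩ := exists_sing_both (Q := res Q (perp2 (polarBilin Q) u u')) hSX
      (by omega) hw0 hwq hx0 hxq
    have hdq : Q (d : V) = 0 := hd
    obtain ⟨hd1, hd2⟩ := (mem_perp2 _ _ _ _).mp d.2
    rw [pB_apply] at hd1 hd2
    have hdu : polar Q (d : V) u = 0 := by rw [polar_comm]; exact hd1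
    have hdw' : polar Q (d : V) w ≠ 0 := by
      have h3 : polar Q (d : V) (w - polar Q u' w • u) ≠ 0 := hdw
      rw [polar_sub_right, polar_smul_r, hdu, mul_zero, sub_zero] at h3
      exact h3
    have hdx' : polar Q (d : V) x ≠ 0 := by
      have h3 : polar Q (d : V) (x - polar Q u' x • u) ≠ 0 := hdx
      rw [polar_sub_right, polar_smul_r, hdu, mul_zero, sub_zero] at h3
      exact h3
    apply move_aux hdq hw hx hdu hdw' hdx'
    rw [polar_sub_left, polar_smul_l, polar_comm Q x u, polar_comm Q w u, h1, h2]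
    ring

section points

open scoped LinearAlgebra.Projectivization

/-- the singular points -/
def singSet (Q : QuadraticForm F V) : Set (ℙ F V) := {p | Q p.rep = 0}

theorem mk_mem_singSet {v : V} (hv : v ≠ 0) :
    Projectivization.mk F v hv ∈ singSet Q ↔ Q v = 0 := by
  obtain ⟨a, ha⟩ := Projectivization.exists_smul_eq_mk_rep F v hv
  show Q (Projectivization.mk F v hv).rep = 0 ↔ _
  rw [← ha, Units.smul_def, q_smul]
  constructor
  · intro h
    rcases mul_eq_zero.mp h with h' | h'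
    · exact absurd (mul_self_eq_zero.mp h') a.ne_zero
    · exact h'
  · intro h
    rw [h, mul_zero]

theorem smul_mk' (g : ↥(EG Q)) {v : V} (hv : v ≠ 0) :
    g • Projectivization.mk F v hv =
      Projectivization.mk F (((g : ↥(O Q)) : V ≃ₗ[F] V) v)
        ((LinearEquiv.map_ne_zero_iff _).mpr hv) := rfl

/-- the singular points as a sub-action -/
def singSub (Q : QuadraticForm F V) : SubMulAction ↥(EG Q) (ℙ F V) where
  carrier := singSet Q
  smul_mem' := by
    intro g p hp
    induction p using Projectivization.ind with | _ v hv => ?_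
    rw [smul_mk', mk_mem_singSet]
    rw [mk_mem_singSet] at hp
    rw [(g : ↥(O Q)).2 v]
    exact hp

/-- a singular point -/
def pt (v : V) (hv : v ≠ 0) (hq : Q v = 0) : ↥(singSub Q) :=
  ⟨Projectivization.mk F v hv, (mk_mem_singSet hv).mpr hq⟩

theorem exists_pt (p : ↥(singSub Q)) : ∃ (v : V) (hv : v ≠ 0) (hq : Q v = 0), p = pt v hv hq := by
  obtain ⟨p, hp⟩ := p
  induction p using Projectivization.ind with | _ v hv => ?_
  exact ⟨v, hv, (mk_mem_singSet hv).mp hp, rfl⟩

theorem smul_pt (g : ↥(EG Q)) (v : V) (hv : v ≠ 0) (hq : Q v = 0) :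
    g • pt v hv hq = pt (((g : ↥(O Q)) : V ≃ₗ[F] V) v) ((LinearEquiv.map_ne_zero_iff _).mpr hv)
      (by rw [(g : ↥(O Q)).2 v]; exact hq) := rfl

theorem pt_eq_pt_iff {v w : V} (hv : v ≠ 0) (hq : Q v = 0) (hw : w ≠ 0) (hq' : Q w = 0) :
    pt v hv hq = pt w hw hq' ↔ ∃ a : F, a • w = v := by
  constructor
  · intro h
    have h' : Projectivization.mk F v hv = Projectivization.mk F w hw := congrArg Subtype.val h
    exact (Projectivization.mk_eq_mk_iff' F v w hv hw).mp h'
  · intro h
    exact Subtype.ext ((Projectivization.mk_eq_mk_iff' F v w hv hw).mpr h)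

end points

section prim

variable [Finite F] [FiniteDimensional F V]

theorem isPretransitive (hS : Sep Q) (hn : 5 ≤ finrank F V) :
    MulAction.IsPretransitive ↥(EG Q) ↥(singSub Q) := by
  constructor
  intro p q
  obtain ⟨a, ha0, ha, rfl⟩ := exists_pt p
  obtain ⟨b, hb0, hb, rfl⟩ := exists_pt q
  obtain ⟨g, hg, c, hc, hgc⟩ := exists_eich_map hS hn ha0 ha hb0 hb
  refine ⟨⟨g, hg⟩, ?_⟩
  rw [smul_pt, pt_eq_pt_iff]
  exact ⟨c, hgc.symm⟩

open scoped Pointwise in
theorem block_move (hS : Sep Q) (hn : 7 ≤ finrank F V) {B : Set ↥(singSub Q)}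
    (hB : MulAction.IsBlock ↥(EG Q) B) {u w x : V} (hu0 : u ≠ 0) (hu : Q u = 0)
    (hw0 : w ≠ 0) (hw : Q w = 0) (hx0 : x ≠ 0) (hx : Q x = 0)
    (hpu : pt u hu0 hu ∈ B) (hpw : pt w hw0 hw ∈ B)
    (hwu : w ∉ Submodule.span F {u}) (hxu : x ∉ Submodule.span F {u})
    (h : (polar Q u w ≠ 0 ∧ polar Q u x ≠ 0) ∨ (polar Q u w = 0 ∧ polar Q u x = 0)) :
    pt x hx0 hx ∈ B := by
  obtain ⟨g, hg, hg1, c, hc, hg2⟩ := exists_move hS hn hu0 hu hw hx hwu hxu h
  have h1 : (⟨g, hg⟩ : ↥(EG Q)) • pt u hu0 hu = pt u hu0 hu := by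
    rw [smul_pt, pt_eq_pt_iff]
    exact ⟨1, by rw [one_smul]; exact hg1.symm⟩
  have h2 : (⟨g, hg⟩ : ↥(EG Q)) • B = B := hB.smul_eq_of_mem hpu (by rw [h1]; exact hpu)
  have h3 : (⟨g, hg⟩ : ↥(EG Q)) • pt w hw0 hw ∈ (⟨g, hg⟩ : ↥(EG Q)) • B :=
    Set.smul_mem_smul_set hpw
  rw [h2, smul_pt] at h3
  have h4 := (pt_eq_pt_iff ((LinearEquiv.map_ne_zero_iff _).mpr hw0)
    (by rw [(g : ↥(O Q)).2 w]; exact hw) hx0 hx).mpr ⟨c, hg2.symm⟩
  rw [← h4]
  exact h3

/-- the Eichler group acts primitively on the singular points -/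
theorem isPreprimitive (hS : Sep Q) (hn : 7 ≤ finrank F V) :
    MulAction.IsPreprimitive ↥(EG Q) ↥(singSub Q) := by
  have htrans := isPretransitive hS (by omega : 5 ≤ finrank F V)
  refine { toIsPretransitive := htrans, isTrivialBlock_of_isBlock := ?_ }
  intro B hB
  by_cases hsub : B.Subsingleton
  · exact Or.inl hsub
  right
  rw [Set.not_subsingleton_iff] at hsub
  obtain ⟨p, hp, r, hr, hpr⟩ := hsub
  obtain ⟨u, hu0, hu, rfl⟩ := exists_pt p
  obtain ⟨w, hw0, hw, rfl⟩ := exists_pt r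
  have hwu : w ∉ Submodule.span F {u} := by
    intro hmem
    obtain ⟨a, ha⟩ := Submodule.mem_span_singleton.1 hmem
    apply hpr
    rw [pt_eq_pt_iff]
    have ha0 : a ≠ 0 := by
      rintro rfl
      rw [zero_smul] at ha
      exact hw0 ha.symm
    refine ⟨a⁻¹, ?_⟩
    rw [← ha, smul_smul, inv_mul_cancel₀ ha0, one_smul]
  rw [Set.eq_univ_iff_forall]
  intro t
  obtain ⟨y, hy0, hy, rfl⟩ := exists_pt t
  by_cases hyu : y ∈ Submodule.span F {u}
  · obtain ⟨a, ha⟩ := Submodule.mem_span_singleton.1 hyu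
    have : pt y hy0 hy = pt u hu0 hu := by
      rw [pt_eq_pt_iff]
      exact ⟨a, ha⟩
    rw [this]
    exact hp
  by_cases h1 : polar Q u w = 0
  · by_cases h2 : polar Q u y = 0
    · exact block_move hS hn hB hu0 hu hw0 hw hy0 hy hp hr hwu hyu (Or.inr ⟨h1, h2⟩)
    · have hy' : Q ((polar Q u y)⁻¹ • y) = 0 := by rw [q_smul, hy, mul_zero]
      have huy' : polar Q u ((polar Q u y)⁻¹ • y) = 1 := by
        rw [polar_smul_r]
        exact inv_mul_cancel₀ h2
      have hSX := sep_perp2 hS hu hy' huy'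
      have hfr := finrank_perp2' hu hy' huy'
      obtain ⟨x, hx0, hx⟩ := exists_singular hSX (by omega)
      obtain ⟨hx1, hx2⟩ := (mem_perp2 _ _ _ _).mp x.2
      rw [pB_apply] at hx1 hx2
      have hxq : Q (x : V) = 0 := hx
      have hxV0 : (x : V) ≠ 0 := fun h => hx0 (Subtype.ext h)
      have hyx : polar Q y (x : V) = 0 := by
        rw [polar_smul_l] at hx2
        rcases mul_eq_zero.mp hx2 with h | h
        · exact absurd h (inv_ne_zero h2)
        · exact h
      have hxu : (x : V) ∉ Submodule.span F {u} := by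
        intro hmem
        obtain ⟨c, hc⟩ := Submodule.mem_span_singleton.1 hmem
        rw [← hc, polar_smul_r, polar_comm Q y u] at hyx
        rcases mul_eq_zero.mp hyx with h | h
        · rw [h, zero_smul] at hc
          exact hxV0 hc.symm
        · exact h2 h
      have hpx := block_move hS hn hB hu0 hu hw0 hw hxV0 hxq hp hr hwu hxu (Or.inr ⟨h1, hx1⟩)
      have hux' : u ∉ Submodule.span F {(x : V)} := by
        intro hmem
        obtain ⟨c, hc⟩ := Submodule.mem_span_singleton.1 hmem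
        apply h2
        rw [← hc, polar_smul_l, polar_comm Q (x : V) y, hyx, mul_zero]
      have hyx' : y ∉ Submodule.span F {(x : V)} := by
        intro hmem
        obtain ⟨c, hc⟩ := Submodule.mem_span_singleton.1 hmem
        apply h2
        rw [← hc, polar_smul_r, hx1, mul_zero]
      exact block_move hS hn hB hxV0 hxq hu0 hu hy0 hy hpx hp hux' hyx'
        (Or.inr ⟨by rw [polar_comm]; exact hx1, by rw [polar_comm]; exact hyx⟩)
  · by_cases h2 : polar Q u y = 0
    · obtain ⟨x, hxq, hxu', hxy'⟩ := exists_sing_both hS (by omega) hu0 hu hy0 hy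
      have hx0 : x ≠ 0 := by
        rintro rfl
        simp at hxu'
      have hxu : x ∉ Submodule.span F {u} := by
        intro hmem
        obtain ⟨c, hc⟩ := Submodule.mem_span_singleton.1 hmem
        apply hxu'
        rw [← hc, polar_smul_l, polar_self', hu]
        ring
      have hpx := block_move hS hn hB hu0 hu hw0 hw hx0 hxq hp hr hwu hxu
        (Or.inl ⟨h1, by rw [polar_comm]; exact hxu'⟩)
      have hux' : u ∉ Submodule.span F {x} := by
        intro hmem
        obtain ⟨c, hc⟩ := Submodule.mem_span_singleton.1 hmem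
        apply hxu'
        rw [← hc, polar_smul_r, polar_self', hxq]
        ring
      have hyx' : y ∉ Submodule.span F {x} := by
        intro hmem
        obtain ⟨c, hc⟩ := Submodule.mem_span_singleton.1 hmem
        apply hxy'
        rw [← hc, polar_smul_r, polar_self', hxq]
        ring
      exact block_move hS hn hB hx0 hxq hu0 hu hy0 hy hpx hp hux' hyx' (Or.inl ⟨hxu', hxy'⟩)
    · exact block_move hS hn hB hu0 hu hw0 hw hy0 hy hp hr hwu hyu (Or.inl ⟨h1, h2⟩)

end prim

section iwasawa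

open scoped Pointwise LinearAlgebra.Projectivization

theorem eich_smul_left {d y : V} (a : F) (hd : Q d = 0) (hd' : Q (a • d) = 0)
    (hdy : polar Q (a • d) y = 0) (hdy' : polar Q d (a • y) = 0) :
    eich Q hd' hdy = eich Q hd hdy' := by
  apply Subtype.ext
  apply LinearEquiv.ext
  intro x
  show eichE Q hd' hdy x = eichE Q hd hdy' x
  rw [eichE_apply, eichE_apply, polar_smul_l, polar_smul_l, q_smul]
  module

theorem eich_inv {d y : V} (hd : Q d = 0) (hdy : polar Q d y = 0) (hdy' : polar Q d (-y) = 0) :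
    (eich Q hd hdy)⁻¹ = eich Q hd hdy' := by
  rw [inv_eq_iff_mul_eq_one]
  have h0 : polar Q d (y + -y) = 0 := by rw [add_neg_cancel]; simp
  rw [eich_mul hd hdy hdy' h0, eich_congr hd h0 (by simp : polar Q d 0 = 0) (add_neg_cancel y),
    eich_zero_right]

/-- the root subgroup of a singular vector -/
def rootSub (d : V) (hd : Q d = 0) : Subgroup ↥(EG Q) where
  carrier := {g | ∃ (y : V) (hdy : polar Q d y = 0), (g : ↥(O Q)) = eich Q hd hdy}
  one_mem' := ⟨0, by simp, (eich_zero_right hd _).symm⟩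
  mul_mem' := by
    rintro g h ⟨y, hy, hg⟩ ⟨y', hy', hh⟩
    have h0 : polar Q d (y + y') = 0 := by rw [polar_add_right, hy, hy', add_zero]
    refine ⟨y + y', h0, ?_⟩
    rw [Subgroup.coe_mul, hg, hh, eich_mul hd hy hy' h0]
  inv_mem' := by
    rintro g ⟨y, hy, hg⟩
    have h0 : polar Q d (-y) = 0 := by rw [polar_neg_right, hy, neg_zero]
    refine ⟨-y, h0, ?_⟩
    rw [Subgroup.coe_inv, hg, eich_inv hd hy h0]

theorem mem_rootSub {d : V} (hd : Q d = 0) (g : ↥(EG Q)) :
    g ∈ rootSub d hd ↔ ∃ (y : V) (hdy : polar Q d y = 0), (g : ↥(O Q)) = eich Q hd hdy :=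
  Iff.rfl

theorem rootSub_smul {d : V} (a : F) (ha : a ≠ 0) (hd : Q d = 0) (hd' : Q (a • d) = 0) :
    rootSub (a • d) hd' = rootSub d hd := by
  ext g
  rw [mem_rootSub, mem_rootSub]
  constructor
  · rintro ⟨y, hy, hg⟩
    have h0 : polar Q d (a • y) = 0 := by
      rw [polar_smul_r, ← polar_smul_l]
      exact hy
    exact ⟨a • y, h0, by rw [hg, eich_smul_left a hd hd' hy h0]⟩
  · rintro ⟨y, hy, hg⟩
    have h0 : polar Q (a • d) (a⁻¹ • y) = 0 := by
      rw [polar_smul_l, polar_smul_r, hy, mul_zero, mul_zero]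
    have h1 : polar Q d (a • a⁻¹ • y) = 0 := by
      rw [smul_smul, mul_inv_cancel₀ ha, one_smul]
      exact hy
    refine ⟨a⁻¹ • y, h0, ?_⟩
    rw [hg, eich_smul_left a hd hd' h0 h1]
    exact eich_congr hd hy h1 (by rw [smul_smul, mul_inv_cancel₀ ha, one_smul])

theorem rep_sing (p : ↥(singSub Q)) : Q (p : ℙ F V).rep = 0 := p.2

/-- the root subgroup of a singular point -/
noncomputable def T (p : ↥(singSub Q)) : Subgroup ↥(EG Q) :=
  rootSub (p : ℙ F V).rep (rep_sing p)

theorem T_pt (d : V) (hd0 : d ≠ 0) (hd : Q d = 0) : T (pt d hd0 hd) = rootSub d hd := by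
  obtain ⟨a, ha⟩ := Projectivization.exists_smul_eq_mk_rep F d hd0
  have h1 : Q ((a : F) • d) = 0 := by rw [q_smul, hd, mul_zero]
  rw [← rootSub_smul (a : F) a.ne_zero hd h1]
  show rootSub (Projectivization.mk F d hd0).rep _ = _
  congr 1
  exact ha.symm

theorem T_conj (g : ↥(EG Q)) (p : ↥(singSub Q)) : T (g • p) = MulAut.conj g • T p := by
  obtain ⟨d, hd0, hd, rfl⟩ := exists_pt p
  rw [smul_pt, T_pt, T_pt]
  ext A
  rw [Subgroup.mem_pointwise_smul_iff_inv_smul_mem]
  simp only [MulAut.smul_def, MulAut.inv_apply, MulAut.conj_symm_apply]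
  rw [mem_rootSub, mem_rootSub]
  have hgd : Q (((g : ↥(O Q)) : V ≃ₗ[F] V) d) = 0 := by rw [(g : ↥(O Q)).2 d]; exact hd
  constructor
  · rintro ⟨y, hy, hA⟩
    have h0 : polar Q d (((g : ↥(O Q)) : V ≃ₗ[F] V).symm y) = 0 := by
      rw [← polar_of_mem_O (g : ↥(O Q)).2, LinearEquiv.apply_symm_apply]
      exact hy
    have h1 : polar Q (((g : ↥(O Q)) : V ≃ₗ[F] V) d)
        (((g : ↥(O Q)) : V ≃ₗ[F] V) (((g : ↥(O Q)) : V ≃ₗ[F] V).symm y)) = 0 := by
      rw [LinearEquiv.apply_symm_apply]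
      exact hy
    refine ⟨_, h0, ?_⟩
    have h2 := conj_eich hd h0 (g : ↥(O Q)) hgd h1
    have h3 : eich Q hgd h1 = eich Q hgd hy :=
      eich_congr hgd h1 hy (LinearEquiv.apply_symm_apply _ _)
    rw [Subgroup.coe_mul, Subgroup.coe_mul, Subgroup.coe_inv, hA, ← h3, ← h2]
    group
  · rintro ⟨y, hy, hA⟩
    have h1 : polar Q (((g : ↥(O Q)) : V ≃ₗ[F] V) d) (((g : ↥(O Q)) : V ≃ₗ[F] V) y) = 0 := by
      rw [polar_of_mem_O (g : ↥(O Q)).2]
      exact hy
    refine ⟨_, h1, ?_⟩
    have h2 := conj_eich hd hy (g : ↥(O Q)) hgd h1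
    rw [← h2, ← hA, Subgroup.coe_mul, Subgroup.coe_mul, Subgroup.coe_inv]
    group

theorem T_comm (p : ↥(singSub Q)) : IsMulCommutative (T p) := by
  refine ⟨⟨?_⟩⟩
  rintro ⟨g, y, hy, hg⟩ ⟨h, y', hy', hh⟩
  apply Subtype.ext
  apply Subtype.ext
  show (g : ↥(O Q)) * (h : ↥(O Q)) = (h : ↥(O Q)) * (g : ↥(O Q))
  have h0 : polar Q (p : ℙ F V).rep (y + y') = 0 := by rw [polar_add_right, hy, hy', add_zero]
  have h1 : polar Q (p : ℙ F V).rep (y' + y) = 0 := by rw [polar_add_right, hy, hy', add_zero]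
  rw [hg, hh, eich_mul (rep_sing p) hy hy' h0, eich_mul (rep_sing p) hy' hy h1]
  exact eich_congr _ h0 h1 (add_comm y y')

theorem T_gen : iSup (T (Q := Q)) = ⊤ := by
  rw [eq_top_iff]
  rintro ⟨g, hg⟩ -
  have key : EG Q ≤ (iSup (T (Q := Q))).map (EG Q).subtype := by
    show Subgroup.closure (eichSet Q) ≤ _
    rw [Subgroup.closure_le]
    rintro _ ⟨d, y, hd, hdy, rfl⟩
    by_cases hd0 : d = 0
    · subst hd0
      rw [eich_zero_left]
      exact Subgroup.one_mem _
    · refine ⟨⟨eich Q hd hdy, eich_mem_EG hd hdy⟩, ?_, rfl⟩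
      apply Subgroup.mem_iSup_of_mem (pt d hd0 hd)
      rw [T_pt]
      exact ⟨y, hdy, rfl⟩
  obtain ⟨g', hg', hgg'⟩ := key hg
  have : g' = ⟨g, hg⟩ := Subtype.ext hgg'
  rw [← this]
  exact hg'

/-- the Iwasawa structure -/
noncomputable def iwasawa (Q : QuadraticForm F V) : MulAction.IwasawaStructure ↥(EG Q) ↥(singSub Q) where
  T := T
  is_comm := T_comm
  is_conj := T_conj
  is_generator := T_gen

end iwasawa

section perfect

open scoped commutatorElement

theorem eich_congr2 {d d' y y' : V} (hd : Q d = 0) (hd' : Q d' = 0) (hdy : polar Q d y = 0)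
    (hdy' : polar Q d' y' = 0) (h1 : d = d') (h2 : y = y') :
    eich Q hd hdy = eich Q hd' hdy' := by
  subst h1
  subst h2
  rfl

theorem eich_smul_self {d : V} (c : F) (hd : Q d = 0) (h : polar Q d (c • d) = 0) :
    eich Q hd h = 1 := by
  apply Subtype.ext
  apply LinearEquiv.ext
  intro x
  show eichE Q hd h x = x
  rw [eichE_apply, q_smul, hd, polar_smul_l]
  module

/-- a long root element is a commutator of Eichler transformations -/
theorem root_eq_commutator {d y z y' : V} (hd : Q d = 0) (hy : Q y = 0) (hdy : polar Q d y = 0)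
    (hyz : polar Q y z = 0) (hdz : polar Q d z = 0) (hdy' : polar Q d y' = 0)
    (hyy' : polar Q y y' = 0) (hzy' : polar Q z y' = -1) :
    eich Q hd hdy = ⁅eich Q hy hyz, eich Q hd hdy'⁆ := by
  have hfix : ((eich Q hy hyz : ↥(O Q)) : V ≃ₗ[F] V) d = d :=
    eich_fix hy hyz (by rw [polar_comm]; exact hdy) (by rw [polar_comm]; exact hdz)
  have hmove : ((eich Q hy hyz : ↥(O Q)) : V ≃ₗ[F] V) y' = y' + y := by
    rw [eich_apply, hyy', hzy']
    module
  have hd' : Q (((eich Q hy hyz : ↥(O Q)) : V ≃ₗ[F] V) d) = 0 := by rw [hfix]; exact hd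
  have hdy'' : polar Q (((eich Q hy hyz : ↥(O Q)) : V ≃ₗ[F] V) d)
      (((eich Q hy hyz : ↥(O Q)) : V ≃ₗ[F] V) y') = 0 := by
    rw [polar_of_mem_O (eich Q hy hyz : ↥(O Q)).2]
    exact hdy'
  have h1 := conj_eich hd hdy' (eich Q hy hyz) hd' hdy''
  have h2 : polar Q d (y' + y) = 0 := by rw [polar_add_right, hdy', hdy, add_zero]
  have h3 : eich Q hd' hdy'' = eich Q hd h2 := eich_congr2 hd' hd hdy'' h2 hfix hmove
  have h4 : polar Q d (-y') = 0 := by rw [polar_neg_right, hdy', neg_zero]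
  have h5 : polar Q d (y' + y + -y') = 0 := by rw [polar_add_right, h2, h4, add_zero]
  rw [commutatorElement_def, h1, h3, eich_inv hd hdy' h4, eich_mul hd h2 h4 h5]
  exact eich_congr hd hdy h5 (by abel)

variable [FiniteDimensional F V]

theorem exists_pair_perp (hS : Sep Q) (hn : 5 ≤ finrank F V) {d y : V} (hd0 : d ≠ 0)
    (hd : Q d = 0) (hy : Q y = 0) (hdy : polar Q d y = 0) (hyd : y ∉ Submodule.span F {d}) :
    ∃ z y', polar Q y z = 0 ∧ polar Q d z = 0 ∧ polar Q d y' = 0 ∧ polar Q y y' = 0 ∧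
      polar Q z y' = -1 := by
  obtain ⟨d', hd', hdd'⟩ := exists_hyp_pair hS hd0 hd
  have hSX := sep_perp2 hS hd hd' hdd'
  have hfr := finrank_perp2' hd hd' hdd'
  have hee : polarBilin Q d d = 0 := by rw [pB_apply, polar_self', hd, mul_zero]
  have hff : polarBilin Q d' d' = 0 := by rw [pB_apply, polar_self', hd', mul_zero]
  have hyX : y - polar Q d' y • d - polar Q d y • d' ∈ perp2 (polarBilin Q) d d' :=
    proj_mem_perp2 (polarBilin Q) (pB_symm Q) hee hff hdd' y
  rw [hdy, zero_smul, sub_zero] at hyX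
  have hyq : Q (y - polar Q d' y • d) = 0 := by
    rw [q_sub, q_smul, hy, hd, polar_smul_r, polar_comm Q y d, hdy]
    ring
  have hy0 : (⟨_, hyX⟩ : perp2 (polarBilin Q) d d') ≠ 0 := by
    intro h0
    apply hyd
    have h3 : y - polar Q d' y • d = 0 := congrArg Subtype.val h0
    rw [sub_eq_zero.mp h3]
    exact Submodule.smul_mem _ _ (Submodule.mem_span_singleton_self d)
  obtain ⟨y'', hy'', hyy''⟩ := exists_hyp_pair hSX hy0 hyq
  have hSY := sep_perp2 hSX hyq hy'' hyy''
  have hfrY := finrank_perp2' (Q := res Q (perp2 (polarBilin Q) d d')) hyq hy'' hyy''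
  have hnt : Nontrivial (perp2 (polarBilin (res Q (perp2 (polarBilin Q) d d')))
      (⟨_, hyX⟩ : perp2 (polarBilin Q) d d') y'') :=
    Module.nontrivial_of_finrank_pos (R := F) (by omega)
  obtain ⟨v, hv⟩ := exists_ne (0 : perp2 (polarBilin (res Q (perp2 (polarBilin Q) d d')))
      (⟨_, hyX⟩ : perp2 (polarBilin Q) d d') y'')
  obtain ⟨v', hv'⟩ : ∃ v' : perp2 (polarBilin (res Q (perp2 (polarBilin Q) d d')))
      (⟨_, hyX⟩ : perp2 (polarBilin Q) d d') y'',
      polar Q (((v : perp2 (polarBilin Q) d d')) : V) (((v' : perp2 (polarBilin Q) d d')) : V)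
        ≠ 0 := by
    by_contra hcon
    push Not at hcon
    exact hv (hSY v (fun w => hcon w))
  -- facts about `v`, `v'`
  have key : ∀ t : perp2 (polarBilin (res Q (perp2 (polarBilin Q) d d')))
      (⟨_, hyX⟩ : perp2 (polarBilin Q) d d') y'',
      polar Q d (((t : perp2 (polarBilin Q) d d')) : V) = 0 ∧
      polar Q y (((t : perp2 (polarBilin Q) d d')) : V) = 0 := by
    intro t
    have h1 := ((mem_perp2 _ _ _ _).mp (t : perp2 (polarBilin Q) d d').2).1
    rw [pB_apply] at h1
    have h2 : polar Q (y - polar Q d' y • d) (((t : perp2 (polarBilin Q) d d')) : V) = 0 :=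
      ((mem_perp2 _ _ _ _).mp t.2).1
    refine ⟨h1, ?_⟩
    rw [polar_sub_left, polar_smul_l, h1, mul_zero, sub_zero] at h2
    exact h2
  obtain ⟨k1, k2⟩ := key v
  obtain ⟨k3, k4⟩ := key v'
  refine ⟨(((v : perp2 (polarBilin Q) d d')) : V),
    (-(polar Q (((v : perp2 (polarBilin Q) d d')) : V)
      (((v' : perp2 (polarBilin Q) d d')) : V))⁻¹) • (((v' : perp2 (polarBilin Q) d d')) : V),
    k2, k1, ?_, ?_, ?_⟩
  · rw [polar_smul_r, k3, mul_zero]
  · rw [polar_smul_r, k4, mul_zero]
  · rw [polar_smul_r]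
    field_simp

variable [Finite F]

theorem EG_eq_closure_root (hS : Sep Q) (hn : 5 ≤ finrank F V) :
    EG Q = Subgroup.closure (rootSet Q) := by
  apply le_antisymm
  · show Subgroup.closure (eichSet Q) ≤ _
    rw [Subgroup.closure_le]
    rintro _ ⟨d, y, hd, hdy, rfl⟩
    exact eich_mem_of_sing hS hn _
      (fun d y hd hdy hy => show eich Q hd hdy ∈ Subgroup.closure (rootSet Q) from
        Subgroup.subset_closure ⟨d, y, hd, hdy, hy, rfl⟩) hd hdy
  · rw [Subgroup.closure_le]
    rintro _ ⟨d, y, hd, hdy, -, rfl⟩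
    exact eich_mem_EG hd hdy

/-- the Eichler group is perfect -/
theorem commutator_EG (hS : Sep Q) (hn : 5 ≤ finrank F V) : commutator ↥(EG Q) = ⊤ := by
  rw [eq_top_iff]
  rintro ⟨g, hg⟩ -
  have key : EG Q ≤ (commutator ↥(EG Q)).map (EG Q).subtype := by
    refine le_trans (le_of_eq (EG_eq_closure_root hS hn)) ?_
    rw [Subgroup.closure_le]
    rintro _ ⟨d, y, hd, hdy, hy, rfl⟩
    by_cases hd0 : d = 0
    · subst hd0
      rw [eich_zero_left]
      exact Subgroup.one_mem _
    by_cases hyd : y ∈ Submodule.span F {d}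
    · obtain ⟨c, rfl⟩ := Submodule.mem_span_singleton.1 hyd
      rw [eich_smul_self]
      exact Subgroup.one_mem _
    · obtain ⟨z, y', h1, h2, h3, h4, h5⟩ := exists_pair_perp hS hn hd0 hd hy hdy hyd
      refine ⟨⁅(⟨eich Q hy h1, eich_mem_EG hy h1⟩ : ↥(EG Q)),
        (⟨eich Q hd h3, eich_mem_EG hd h3⟩ : ↥(EG Q))⁆, ?_, ?_⟩
      · rw [commutator_def]
        exact Subgroup.commutator_mem_commutator (Subgroup.mem_top _) (Subgroup.mem_top _)
      · rw [root_eq_commutator hd hy hdy h1 h2 h3 h4 h5]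
        rfl
  obtain ⟨g', hg', hgg'⟩ := key hg
  have : g' = ⟨g, hg⟩ := Subtype.ext hgg'
  rw [← this]
  exact hg'

end perfect

section kernel

variable [Finite F] [FiniteDimensional F V]

/-- the eigenvalue is the same on two independent orthogonal singular vectors -/
theorem scalar_step {g : V ≃ₗ[F] V} (h : ∀ s : V, Q s = 0 → ∃ c : F, g s = c • s) {s t : V}
    (hs0 : s ≠ 0) (hs : Q s = 0) (ht : Q t = 0) (hst : polar Q s t = 0)
    (hts : t ∉ Submodule.span F {s}) {a : F} (ha : g s = a • s) : g t = a • t := by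
  obtain ⟨b, hb⟩ := h t ht
  have hq : Q (s + t) = 0 := by rw [q_add, hs, ht, hst]; ring
  obtain ⟨c, hc⟩ := h (s + t) hq
  rw [map_add, ha, hb, smul_add] at hc
  have h1 : (b - c) • t = (c - a) • s := by
    have h' : a • s + b • t - (c • s + c • t) = 0 := sub_eq_zero.mpr hc
    apply sub_eq_zero.mp
    calc (b - c) • t - (c - a) • s = a • s + b • t - (c • s + c • t) := by module
      _ = 0 := h'
  have hbc : b = c := by
    by_contra hne
    apply hts
    have h2 : t = ((b - c)⁻¹ * (c - a)) • s := by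
      rw [mul_smul, ← h1, smul_smul, inv_mul_cancel₀ (sub_ne_zero.mpr hne), one_smul]
    rw [h2]
    exact Submodule.smul_mem _ _ (Submodule.mem_span_singleton_self s)
  have hca : c = a := by
    rw [hbc, sub_self, zero_smul] at h1
    have h3 := smul_eq_zero.mp h1.symm
    rcases h3 with h3 | h3
    · exact sub_eq_zero.mp h3
    · exact absurd h3 hs0
  rw [hb, hbc, hca]

/-- an isometry fixing every singular point is a scalar -/
theorem scalar_of_fix (hS : Sep Q) (hn : 5 ≤ finrank F V) (g : V ≃ₗ[F] V)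
    (h : ∀ s : V, Q s = 0 → ∃ c : F, g s = c • s) : ∃ c : F, ∀ v, g v = c • v := by
  obtain ⟨e, he0, he⟩ := exists_singular hS (by omega)
  obtain ⟨e', he', hee'⟩ := exists_hyp_pair hS he0 he
  obtain ⟨lam, hlam⟩ := h e he
  refine ⟨lam, ?_⟩
  -- all singular vectors
  have hA : ∀ s : V, Q s = 0 → g s = lam • s := by
    intro s hs
    by_cases hs0 : s = 0
    · rw [hs0, map_zero, smul_zero]
    by_cases hes : polar Q e s = 0
    · by_cases hse : s ∈ Submodule.span F {e}
      · obtain ⟨c, rfl⟩ := Submodule.mem_span_singleton.1 hse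
        rw [map_smul, hlam, smul_comm]
      · exact scalar_step h he0 he hs hes hse hlam
    · have hs' : Q ((polar Q e s)⁻¹ • s) = 0 := by rw [q_smul, hs, mul_zero]
      have hes' : polar Q e ((polar Q e s)⁻¹ • s) = 1 := by
        rw [polar_smul_r]
        exact inv_mul_cancel₀ hes
      have hSX := sep_perp2 hS he hs' hes'
      have hfr := finrank_perp2' he hs' hes'
      obtain ⟨r, hr0, hr⟩ := exists_singular hSX (by omega)
      obtain ⟨hr1, hr2⟩ := (mem_perp2 _ _ _ _).mp r.2
      rw [pB_apply] at hr1 hr2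
      have hrq : Q (r : V) = 0 := hr
      have hrV0 : (r : V) ≠ 0 := fun h => hr0 (Subtype.ext h)
      have hsr : polar Q s (r : V) = 0 := by
        rw [polar_smul_l] at hr2
        rcases mul_eq_zero.mp hr2 with h | h
        · exact absurd h (inv_ne_zero hes)
        · exact h
      have hre : (r : V) ∉ Submodule.span F {e} := by
        intro hmem
        obtain ⟨c, hc⟩ := Submodule.mem_span_singleton.1 hmem
        rw [← hc, polar_smul_r, polar_comm Q s e] at hsr
        rcases mul_eq_zero.mp hsr with h | h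
        · rw [h, zero_smul] at hc
          exact hrV0 hc.symm
        · exact hes h
      have h1 : g (r : V) = lam • (r : V) := scalar_step h he0 he hrq hr1 hre hlam
      have hsr' : s ∉ Submodule.span F {(r : V)} := by
        intro hmem
        obtain ⟨c, hc⟩ := Submodule.mem_span_singleton.1 hmem
        apply hes
        rw [← hc, polar_smul_r, hr1, mul_zero]
      exact scalar_step h hrV0 hrq hs (by rw [polar_comm]; exact hsr) hsr' h1
  intro v
  have hee : polarBilin Q e e = 0 := by rw [pB_apply, polar_self', he, mul_zero]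
  have hff : polarBilin Q e' e' = 0 := by rw [pB_apply, polar_self', he', mul_zero]
  have hxX : v - polar Q e' v • e - polar Q e v • e' ∈ perp2 (polarBilin Q) e e' :=
    proj_mem_perp2 (polarBilin Q) (pB_symm Q) hee hff hee' v
  obtain ⟨hx1, hx2⟩ := (mem_perp2 _ _ _ _).mp hxX
  rw [pB_apply] at hx1 hx2
  obtain ⟨x, hx⟩ : ∃ x, x = v - polar Q e' v • e - polar Q e v • e' := ⟨_, rfl⟩
  rw [← hx] at hx1 hx2
  have hw : Q (e' + x - Q x • e) = 0 := q_hyp_shift he he' hee' hx1 hx2
  have h1 := hA _ hw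
  have h2 := hA _ he'
  have hv : v = (e' + x - Q x • e) - e' + Q x • e + polar Q e' v • e + polar Q e v • e' := by
    rw [hx]
    abel
  have h3 : g v = g (e' + x - Q x • e) - g e' + Q x • g e + polar Q e' v • g e
      + polar Q e v • g e' := by
    conv_lhs => rw [hv]
    simp only [map_add, map_sub, map_smul]
  rw [h3, h1, h2, hlam]
  conv_rhs => rw [hv]
  module

theorem mem_center_of_fix (hS : Sep Q) (hn : 5 ≤ finrank F V) (g : ↥(EG Q))
    (h : ∀ p : ↥(singSub Q), g • p = p) : g ∈ Subgroup.center ↥(EG Q) := by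
  have h' : ∀ s : V, Q s = 0 → ∃ c : F, ((g : ↥(O Q)) : V ≃ₗ[F] V) s = c • s := by
    intro s hs
    by_cases hs0 : s = 0
    · exact ⟨0, by rw [hs0, map_zero, smul_zero]⟩
    · have h1 := h (pt s hs0 hs)
      rw [smul_pt, pt_eq_pt_iff] at h1
      obtain ⟨a, ha⟩ := h1
      exact ⟨a, ha.symm⟩
  obtain ⟨c, hc⟩ := scalar_of_fix hS hn _ h'
  rw [Subgroup.mem_center_iff]
  intro k
  apply Subtype.ext
  apply Subtype.ext
  apply LinearEquiv.ext
  intro v
  show ((k : ↥(O Q)) : V ≃ₗ[F] V) (((g : ↥(O Q)) : V ≃ₗ[F] V) v) =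
    ((g : ↥(O Q)) : V ≃ₗ[F] V) (((k : ↥(O Q)) : V ≃ₗ[F] V) v)
  rw [hc, hc, map_smul]

/-- **Simplicity**: the group generated by the Eichler transformations, modulo its centre, is
simple (finite field, nondegenerate polar form, dimension at least seven). -/
theorem simple_EG (hS : Sep Q) (hn : 7 ≤ finrank F V) :
    IsSimpleGroup (↥(EG Q) ⧸ Subgroup.center ↥(EG Q)) := by
  have hprim := isPreprimitive hS hn
  have hperf := commutator_EG hS (by omega : 5 ≤ finrank F V)
  have hnt : Nontrivial (↥(EG Q) ⧸ Subgroup.center ↥(EG Q)) := by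
    rw [QuotientGroup.nontrivial_iff]
    intro htop
    have h1 : commutator ↥(EG Q) = ⊥ := by
      rw [commutator_def, Subgroup.commutator_top_left_eq_bot_iff_le_center, htop]
    rw [hperf] at h1
    obtain ⟨e, he0, he⟩ := exists_singular hS (by omega)
    obtain ⟨e', he', hee'⟩ := exists_hyp_pair hS he0 he
    have he'0 : e' ≠ 0 := by
      rintro rfl
      simp at hee'
    obtain ⟨g, hg, c, hc, hgc⟩ := exists_eich_map hS (by omega : 5 ≤ finrank F V) he0 he he'0 he'
    have h2 : (⟨g, hg⟩ : ↥(EG Q)) ∈ (⊤ : Subgroup ↥(EG Q)) := Subgroup.mem_top _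
    rw [h1, Subgroup.mem_bot] at h2
    have h3 : g = 1 := congrArg Subtype.val h2
    rw [h3] at hgc
    have h4 : e = c • e' := hgc
    have h5 : polar Q e e' = 0 := by
      rw [h4, polar_smul_l, polar_self', he']
      ring
    rw [hee'] at h5
    exact one_ne_zero h5
  refine { toNontrivial := hnt, eq_bot_or_eq_top_of_normal := ?_ }
  intro Nbar hNbar
  set N := Nbar.comap (QuotientGroup.mk' (Subgroup.center ↥(EG Q))) with hN
  have hNn : N.Normal := hNbar.comap _
  by_cases hfix : MulAction.fixedPoints N ↥(singSub Q) = Set.univ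
  · left
    rw [Subgroup.eq_bot_iff_forall]
    intro x hx
    obtain ⟨g, rfl⟩ := QuotientGroup.mk_surjective x
    have hg : g ∈ N := hx
    rw [QuotientGroup.eq_one_iff]
    apply mem_center_of_fix hS (by omega : 5 ≤ finrank F V)
    intro p
    have hp : p ∈ MulAction.fixedPoints N ↥(singSub Q) := by
      rw [hfix]
      exact Set.mem_univ _
    exact hp ⟨g, hg⟩
  · right
    have hle := (iwasawa Q).commutator_le N hfix
    rw [hperf, top_le_iff] at hle
    rw [eq_top_iff]
    intro x _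
    obtain ⟨g, rfl⟩ := QuotientGroup.mk_surjective x
    have hg : g ∈ N := by
      rw [hle]
      exact Subgroup.mem_top _
    exact hg

end kernel

/-- in odd characteristic the commutator subgroup of the orthogonal group is the Eichler group -/
theorem commutator_eq_EG_odd [FiniteDimensional F V] [Fintype F] (h2 : (2 : F) ≠ 0) (hS : Sep Q)
    (hn : 5 ≤ finrank F V) : commutator ↥(O Q) = EG Q := by
  rw [commutator_eq_closure h2 hS hn, EG_eq_closure_root hS hn]

end Cfsg.Agent.Lib.Helper5.OmegaSimple
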