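import Mathlib
import Cfsg.Agent.Lib.Helper5.OmegaSimple
import Cfsg.Agent.Lib.Helper44.Omega2
import Cfsg.Agent.Lib.Helper44.QClass
import Cfsg.Agent.Lib.Helper44.CD2a

set_option autoImplicit false

namespace Cfsg.Agent.Lib.Helper5.OmegaGen2

open Module QuadraticMap
open Cfsg.Agent.Lib.Helper44.Split Cfsg.Agent.Lib.Helper44.QSpace Cfsg.Agent.Lib.Helper44.OGroup
open Cfsg.Agent.Lib.Helper44.Eichler Cfsg.Agent.Lib.Helper44.Siegel
open Cfsg.Agent.Lib.Helper44.Omega2 Cfsg.Agent.Lib.Helper44.CD2a Cfsg.Agent.Lib.Helper44.QClass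
open Cfsg.Agent.Lib.Helper44.ReflClass (q_sub)
open Cfsg.Agent.Lib.Helper5.OmegaSimple

universe u

variable {F : Type*} [Field F] {V : Type u} [AddCommGroup V] [Module F V]
variable {Q : QuadraticForm F V}

/-- an Eichler transformation with nonsingular second vector is a product of two reflections -/
theorem eich_eq_refl_mul {d z : V} (hd : Q d = 0) (hdz : polar Q d z = 0) (hz : Q z ≠ 0) :
    eich Q hd hdz = refl Q ((Q z)⁻¹ • z) * refl Q ((Q z)⁻¹ • z + d) := by
  have ha : Q ((Q z)⁻¹ • z) = (Q z)⁻¹ := by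
    rw [q_smul]
    field_simp
  have ha0 : Q ((Q z)⁻¹ • z) ≠ 0 := by rw [ha]; exact inv_ne_zero hz
  have had : polar Q ((Q z)⁻¹ • z) d = 0 := by
    rw [polar_smul_l, polar_comm, hdz, mul_zero]
  have e : (Q ((Q z)⁻¹ • z))⁻¹ • (Q z)⁻¹ • z = z := by
    rw [ha, inv_inv, smul_smul, mul_inv_cancel₀ hz, one_smul]
  have hdy : polar Q d ((Q ((Q z)⁻¹ • z))⁻¹ • (Q z)⁻¹ • z) = 0 := by rw [e]; exact hdz
  rw [refl_mul_refl_eq ha0 hd had hdy]
  exact eich_congr hd hdz hdy e.symm

section general

variable [FiniteDimensional F V]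

/-- a nonsingular vector orthogonal to two orthogonal singular vectors -/
theorem exists_nonsing_perp2 (hS : Sep Q) (hn : 5 ≤ finrank F V) {d y : V} (hd0 : d ≠ 0)
    (hd : Q d = 0) (hy : Q y = 0) (hdy : polar Q d y = 0) :
    ∃ t, Q t ≠ 0 ∧ polar Q d t = 0 ∧ polar Q y t = 0 := by
  obtain ⟨d', hd', hdd'⟩ := exists_hyp_pair hS hd0 hd
  have hSX := sep_perp2 hS hd hd' hdd'
  have hfr := finrank_perp2' hd hd' hdd'
  have hee : polarBilin Q d d = 0 := by rw [pB_apply, polar_self', hd, mul_zero]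
  have hff : polarBilin Q d' d' = 0 := by rw [pB_apply, polar_self', hd', mul_zero]
  have hyX : y - polar Q d' y • d - polar Q d y • d' ∈ perp2 (polarBilin Q) d d' :=
    proj_mem_perp2 (polarBilin Q) (pB_symm Q) hee hff hdd' y
  rw [hdy, zero_smul, sub_zero] at hyX
  have hyq : Q (y - polar Q d' y • d) = 0 := by
    rw [q_sub, q_smul, hy, hd, polar_smul_r, polar_comm Q y d, hdy]
    ring
  obtain ⟨t, ht, hty⟩ := exists_nonsing_perp (Q := res Q (perp2 (polarBilin Q) d d')) hSX
    (by omega) (c := ⟨_, hyX⟩) hyq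
  have htq : Q (t : V) ≠ 0 := ht
  have hty' : polar Q (t : V) (y - polar Q d' y • d) = 0 := hty
  obtain ⟨ht1, ht2⟩ := (mem_perp2 _ _ _ _).mp t.2
  rw [pB_apply] at ht1 ht2
  refine ⟨(t : V), htq, ht1, ?_⟩
  rw [polar_sub_right, polar_smul_r, polar_comm Q (t : V) d, ht1, mul_zero, sub_zero] at hty'
  rw [polar_comm]
  exact hty'

end general

section two

variable [Fintype F] [CharP F 2] [FiniteDimensional F V]

/-- a singular vector orthogonal to `a` and not to `c` -/
theorem exists_sing_perp_two (hS : Sep Q) (hn : 5 ≤ finrank F V) {a c : V} (ha : Q a ≠ 0)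
    (hc : c ∉ Submodule.span F {a}) : ∃ s, Q s = 0 ∧ polar Q a s = 0 ∧ polar Q c s ≠ 0 := by
  have ha0 : a ≠ 0 := by
    rintro rfl
    exact ha (QuadraticMap.map_zero Q)
  obtain ⟨w, hw⟩ : ∃ w, polar Q a w ≠ 0 := by
    by_contra hcon
    push Not at hcon
    exact ha0 (hS a hcon)
  obtain ⟨a₂, h12⟩ : ∃ a₂, polar Q a a₂ = 1 :=
    ⟨(polar Q a w)⁻¹ • w, by rw [polar_smul_r]; exact inv_mul_cancel₀ hw⟩
  have hSX := sep_perp2_two hS h12
  have hfr := finrank_perp2_two (Q := Q) h12
  have hee : polarBilin Q a a = 0 := polar_self_two Q a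
  have hff : polarBilin Q a₂ a₂ = 0 := polar_self_two Q a₂
  have hcX : c - polar Q a₂ c • a - polar Q a c • a₂ ∈ perp2 (polarBilin Q) a a₂ :=
    proj_mem_perp2 (polarBilin Q) (pB_symm Q) hee hff h12 c
  by_cases h0 : c - polar Q a₂ c • a - polar Q a c • a₂ = 0
  · have hc' : c = polar Q a₂ c • a + polar Q a c • a₂ := by
      have h := sub_eq_zero.mp h0
      have h' := sub_eq_iff_eq_add.mp h
      rw [add_comm]
      exact h'
    have hβ : polar Q a c ≠ 0 := by
      intro h
      apply hc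
      rw [hc', h, zero_smul, add_zero]
      exact Submodule.smul_mem _ _ (Submodule.mem_span_singleton_self a)
    obtain ⟨x, hx⟩ := exists_q_eq hSX (by omega) (Q a)
    have hxq : Q (x : V) = Q a := hx
    obtain ⟨hx1, hx2⟩ := (mem_perp2 _ _ _ _).mp x.2
    rw [pB_apply] at hx1 hx2
    refine ⟨a + (x : V), ?_, ?_, ?_⟩
    · rw [q_add, hxq, hx1, add_zero]
      exact CharTwo.add_self_eq_zero (Q a)
    · rw [polar_add_right, polar_self_two, hx1, add_zero]
    · have h1 : polar Q c (x : V) = 0 := by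
        rw [hc', polar_add_left, polar_smul_l, polar_smul_l, hx1, hx2]
        ring
      rw [polar_add_right, h1, add_zero, polar_comm]
      exact hβ
  · have hne : (⟨_, hcX⟩ : perp2 (polarBilin Q) a a₂) ≠ 0 := fun h => h0 (congrArg Subtype.val h)
    obtain ⟨e, he0, he⟩ := exists_singular hSX (by omega)
    obtain ⟨s, hs, hsc⟩ := exists_sing_nonorth hSX he0 he hne
    have hsq : Q (s : V) = 0 := hs
    obtain ⟨hs1, hs2⟩ := (mem_perp2 _ _ _ _).mp s.2
    rw [pB_apply] at hs1 hs2
    have hsc' : polar Q (c - polar Q a₂ c • a - polar Q a c • a₂) (s : V) ≠ 0 := hsc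
    refine ⟨(s : V), hsq, hs1, ?_⟩
    rw [polar_sub_left, polar_sub_left, polar_smul_l, polar_smul_l, hs1, hs2, mul_zero, mul_zero,
      sub_zero, sub_zero] at hsc'
    exact hsc'

/-- Reflections in vectors of the same norm are congruent modulo the Eichler transformations
(characteristic two). -/
theorem refl_mul_refl_mem_two (hS : Sep Q) (hn : 5 ≤ finrank F V) (N : Subgroup ↥(O Q))
    (hN : ∀ (d y : V) (hd : Q d = 0) (hdy : polar Q d y = 0), eich Q hd hdy ∈ N)
    {a a' : V} (ha : Q a ≠ 0) (haa' : Q a' = Q a) : refl Q a * refl Q a' ∈ N := by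
  by_cases ht : Q (a' - a) = 0
  · exact refl_mul_refl_mem_of_sub N hN ha haa' ht
  by_cases hdep : a' ∈ Submodule.span F {a}
  · obtain ⟨lam, hlam⟩ := Submodule.mem_span_singleton.1 hdep
    have hl0 : lam ≠ 0 := by
      rintro rfl
      rw [zero_smul] at hlam
      rw [← hlam] at haa'
      apply ha
      rw [← haa']
      exact QuadraticMap.map_zero Q
    have e2 : refl Q a' = refl Q a := by
      apply Subtype.ext
      show reflE Q a' = reflE Q a
      rw [← hlam]
      exact reflE_smul Q hl0 a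
    rw [e2, refl_mul_self]
    exact N.one_mem
  · have hc : a' - a ∉ Submodule.span F {a} := by
      intro hmem
      apply hdep
      have : a' = (a' - a) + a := by abel
      rw [this]
      exact Submodule.add_mem _ hmem (Submodule.mem_span_singleton_self a)
    obtain ⟨s₁, hs₁Q, has₁, hcs₁⟩ := exists_sing_perp_two hS hn ha hc
    have ha's₁ : polar Q a' s₁ ≠ 0 := by
      rw [polar_sub_left, has₁, sub_zero] at hcs₁
      exact hcs₁
    set s := (Q (a' - a) / polar Q a' s₁) • s₁ with hs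
    have hsQ : Q s = 0 := by rw [hs, q_smul, hs₁Q, mul_zero]
    have has : polar Q a s = 0 := by rw [hs, polar_smul_r, has₁, mul_zero]
    have ha's : polar Q a' s = Q (a' - a) := by
      rw [hs, polar_smul_r]
      field_simp
    have hbQ : Q (a + s) = Q a := by rw [q_add, hsQ, has]; ring
    have hb0 : Q (a + s) ≠ 0 := by rw [hbQ]; exact ha
    have h1 : refl Q a * refl Q (a + s) ∈ N := by
      apply refl_mul_refl_mem_of_sub N hN ha hbQ
      have : a + s - a = s := by abel
      rw [this]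
      exact hsQ
    have h2' : refl Q (a + s) * refl Q a' ∈ N := by
      apply refl_mul_refl_mem_of_sub N hN hb0 (by rw [hbQ]; exact haa')
      have : a' - (a + s) = (a' - a) - s := by abel
      rw [this, q_sub, hsQ, polar_sub_left, ha's, has]
      ring
    have e : refl Q a * refl Q a' = (refl Q a * refl Q (a + s)) * (refl Q (a + s) * refl Q a') := by
      rw [mul_assoc, ← mul_assoc (refl Q (a + s)), refl_mul_self, one_mul]
    rw [e]
    exact N.mul_mem h1 h2'

omit [Fintype F] [CharP F 2] [FiniteDimensional F V] in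
theorem EG_normal : (EG Q).Normal := by
  apply closure_normal_of_conj
  rintro _ ⟨d, y, hd, hdy, rfl⟩ g
  have hd' : Q ((g : V ≃ₗ[F] V) d) = 0 := by rw [g.2 d]; exact hd
  have hdy' : polar Q ((g : V ≃ₗ[F] V) d) ((g : V ≃ₗ[F] V) y) = 0 := by
    rw [polar_of_mem_O g.2]; exact hdy
  exact ⟨_, _, hd', hdy', conj_eich hd hdy g hd' hdy'⟩

theorem refl_pair_mem (hS : Sep Q) (hG : Good Q) {a b : V} (ha : Q a ≠ 0) (hb : Q b ≠ 0) :
    refl Q a * refl Q b ∈ commutator ↥(O Q) := by
  have h := even_prod_mem_commutator hS hG [a, b] (by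
    intro v hv
    simp only [List.mem_cons, List.not_mem_nil, or_false] at hv
    rcases hv with rfl | rfl
    · exact ha
    · exact hb) ⟨1, rfl⟩
  simpa using h

/-- **Characteristic two**: the commutator subgroup of the orthogonal group is generated by
the Eichler transformations (dimension at least five). -/
theorem commutator_eq_EG_two (hS : Sep Q) (hn : 5 ≤ finrank F V) :
    commutator ↥(O Q) = EG Q := by
  have hG : Good Q := Or.inr (Or.inl hn)
  have hCD : CDP Q := cdp_two hS hG
  apply le_antisymm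
  · have : (EG Q).Normal := EG_normal
    exact commutator_le_of_refl hCD _ (fun a a' ha haa' =>
      refl_mul_refl_mem_two hS hn _ (fun d y hd hdy => eich_mem_EG hd hdy) ha haa')
  · rw [EG_eq_closure_root hS hn, Subgroup.closure_le]
    rintro _ ⟨d, y, hd, hdy, hy, rfl⟩
    show eich Q hd hdy ∈ commutator ↥(O Q)
    by_cases hd0 : d = 0
    · subst hd0
      rw [eich_zero_left]
      exact Subgroup.one_mem _
    obtain ⟨t, ht, hdt, hyt⟩ := exists_nonsing_perp2 hS hn hd0 hd hy hdy
    have h1 : polar Q d (y + t) = 0 := by rw [polar_add_right, hdy, hdt, add_zero]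
    have h2 : Q (y + t) ≠ 0 := by
      rw [q_add, hy, hyt, zero_add, add_zero]
      exact ht
    have h3 : polar Q d (y + t + t) = 0 := by rw [polar_add_right, h1, hdt, add_zero]
    have e1 := eich_mul hd h1 hdt h3
    have e2 : eich Q hd hdy = eich Q hd h3 := by
      apply eich_congr
      have : t + t = 0 := by
        have h : (2 : F) • t = 0 := by rw [CharTwo.two_eq_zero, zero_smul]
        rw [two_smul] at h
        exact h
      rw [add_assoc, this, add_zero]
    rw [e2, ← e1, eich_eq_refl_mul hd h1 h2, eich_eq_refl_mul hd hdt ht]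
    have hq1 : Q ((Q (y + t))⁻¹ • (y + t)) ≠ 0 := by
      rw [q_smul]
      exact mul_ne_zero (mul_ne_zero (inv_ne_zero h2) (inv_ne_zero h2)) h2
    have hq2 : Q ((Q (y + t))⁻¹ • (y + t) + d) ≠ 0 := by
      rw [q_add, hd, polar_smul_l, polar_comm, h1, mul_zero, add_zero, add_zero]
      exact hq1
    have hq3 : Q ((Q t)⁻¹ • t) ≠ 0 := by
      rw [q_smul]
      exact mul_ne_zero (mul_ne_zero (inv_ne_zero ht) (inv_ne_zero ht)) ht
    have hq4 : Q ((Q t)⁻¹ • t + d) ≠ 0 := by
      rw [q_add, hd, polar_smul_l, polar_comm, hdt, mul_zero, add_zero, add_zero]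
      exact hq3
    exact Subgroup.mul_mem _ (refl_pair_mem hS hG hq1 hq2) (refl_pair_mem hS hG hq3 hq4)

end two

end Cfsg.Agent.Lib.Helper5.OmegaGen2
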