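import Mathlib

set_option autoImplicit false

namespace Cfsg.Agent.Lib.Helper5.OmegaIso

open scoped commutatorElement

/-- If `f : G → Ω` is onto and every `g` whose commutators with all of `G` lie in `ker f` is central,
then `Ω / Z(Ω) ≃* G / Z(G)`. -/
theorem quot_center_equiv {G Ω : Type*} [Group G] [Group Ω] (f : G →* Ω)
    (hf : Function.Surjective f)
    (hk : ∀ g : G, (∀ h : G, g * h * g⁻¹ * h⁻¹ ∈ f.ker) → g ∈ Subgroup.center G) :
    Nonempty (Ω ⧸ Subgroup.center Ω ≃* G ⧸ Subgroup.center G) := by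
  let π : G →* Ω ⧸ Subgroup.center Ω := (QuotientGroup.mk' _).comp f
  have hπ : Function.Surjective π := (QuotientGroup.mk'_surjective _).comp hf
  have hker : π.ker = Subgroup.center G := by
    ext g
    rw [MonoidHom.mem_ker]
    show (QuotientGroup.mk (f g) : Ω ⧸ Subgroup.center Ω) = 1 ↔ _
    rw [QuotientGroup.eq_one_iff]
    constructor
    · intro hg
      apply hk
      intro h
      rw [MonoidHom.mem_ker, map_mul, map_mul, map_mul, map_inv, map_inv]
      have h1 := Subgroup.mem_center_iff.mp hg (f h)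
      rw [← h1]
      group
    · intro hg
      rw [Subgroup.mem_center_iff]
      intro y
      obtain ⟨h, rfl⟩ := hf y
      rw [← map_mul, ← map_mul, Subgroup.mem_center_iff.mp hg h]
  exact ⟨(QuotientGroup.quotientKerEquivOfSurjective π hπ).symm.trans
    (QuotientGroup.quotientMulEquivOfEq hker)⟩

/-- In a perfect group, an element all of whose commutators are central is central. -/
theorem mem_center_of_perfect {G : Type*} [Group G] (hperf : commutator G = ⊤) (g : G)
    (hg : ∀ h : G, g * h * g⁻¹ * h⁻¹ ∈ Subgroup.center G) : g ∈ Subgroup.center G := by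
  -- `c h = g h g⁻¹ h⁻¹` is multiplicative
  have hmul : ∀ a b : G, g * (a * b) * g⁻¹ * (a * b)⁻¹ =
      (g * a * g⁻¹ * a⁻¹) * (g * b * g⁻¹ * b⁻¹) := by
    intro a b
    have hb := Subgroup.mem_center_iff.mp (hg b) a⁻¹
    have : g * (a * b) * g⁻¹ * (a * b)⁻¹ = g * a * g⁻¹ * ((g * b * g⁻¹ * b⁻¹) * a⁻¹) := by
      group
    rw [this, ← hb]
    group
  have hcomm : ∀ a b : G, (g * a * g⁻¹ * a⁻¹) * (g * b * g⁻¹ * b⁻¹) =
      (g * b * g⁻¹ * b⁻¹) * (g * a * g⁻¹ * a⁻¹) := fun a b =>
    (Subgroup.mem_center_iff.mp (hg b) _)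
  -- the set of `h` with `c h = 1` is a subgroup containing all commutators
  let K : Subgroup G :=
    { carrier := {h | g * h * g⁻¹ * h⁻¹ = 1}
      one_mem' := by simp
      mul_mem' := by
        intro a b ha hb
        show g * (a * b) * g⁻¹ * (a * b)⁻¹ = 1
        rw [hmul, show g * a * g⁻¹ * a⁻¹ = 1 from ha, show g * b * g⁻¹ * b⁻¹ = 1 from hb, one_mul]
      inv_mem' := by
        intro a ha
        show g * a⁻¹ * g⁻¹ * a⁻¹⁻¹ = 1
        have h1 := hmul a a⁻¹
        rw [show g * a * g⁻¹ * a⁻¹ = 1 from ha, one_mul] at h1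
        rw [← h1]
        simp }
  have hK : commutator G ≤ K := by
    rw [commutator_def, Subgroup.commutator_le]
    intro a _ b _
    show g * ⁅a, b⁆ * g⁻¹ * ⁅a, b⁆⁻¹ = 1
    have hinv : ∀ x : G, g * x⁻¹ * g⁻¹ * x⁻¹⁻¹ = (g * x * g⁻¹ * x⁻¹)⁻¹ := by
      intro x
      have h1 := hmul x x⁻¹
      have h2 : g * (x * x⁻¹) * g⁻¹ * (x * x⁻¹)⁻¹ = 1 := by simp
      rw [h2] at h1
      exact eq_inv_of_mul_eq_one_right h1.symm
    rw [commutatorElement_def, hmul, hmul, hmul, hinv, hinv, hcomm a b]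
    group
  rw [Subgroup.mem_center_iff]
  intro h
  have h1 : h ∈ K := hK (by rw [hperf]; exact Subgroup.mem_top _)
  have h2 : g * h * g⁻¹ * h⁻¹ = 1 := h1
  have h3 : g * h = h * g := by
    have : g * h = (g * h * g⁻¹ * h⁻¹) * (h * g) := by group
    rw [this, h2, one_mul]
  exact h3.symm

end Cfsg.Agent.Lib.Helper5.OmegaIso
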