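import Mathlib
import Cfsg.Agent.Lib.Helper5.OmegaSimple
import Cfsg.Agent.Lib.Helper5.OmegaIso
import Cfsg.Agent.Lib.Helper44.OMat

set_option autoImplicit false

namespace Cfsg.Agent.Lib.Helper5.OmegaSimpleMat

open Module QuadraticMap
open Cfsg.Agent.Lib.Helper44.QSpace Cfsg.Agent.Lib.Helper44.OGroup Cfsg.Agent.Lib.Helper44.OMat
open Cfsg.Agent.Lib.Helper5.OmegaSimple

variable {F : Type*} [Field F] {ι : Type} [Fintype ι] [DecidableEq ι]

/-- `Ω` of the Prelude is the commutator subgroup of the abstract orthogonal group -/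
noncomputable def omegaEquiv (Q : QuadraticForm F (ι → F)) :
    ↥(Cfsg.Omega F ⇑Q) ≃* ↥(commutator ↥(O Q)) where
  toFun g := ⟨isoEquiv Q g.1, (mem_omega_iff Q g.1).mp g.2⟩
  invFun h := ⟨(isoEquiv Q).symm h.1, (mem_omega_iff Q _).mpr (by
    rw [MulEquiv.apply_symm_apply]
    exact h.2)⟩
  left_inv g := Subtype.ext ((isoEquiv Q).symm_apply_apply g.1)
  right_inv h := Subtype.ext ((isoEquiv Q).apply_symm_apply h.1)
  map_mul' g h := Subtype.ext (map_mul (isoEquiv Q) g.1 h.1)

/-- isomorphic groups have isomorphic central quotients -/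
theorem quot_center_congr {G H : Type*} [Group G] [Group H] (e : G ≃* H) :
    Nonempty (H ⧸ Subgroup.center H ≃* G ⧸ Subgroup.center G) := by
  apply Cfsg.Agent.Lib.Helper5.OmegaIso.quot_center_equiv e.toMonoidHom e.surjective
  intro g hg
  rw [Subgroup.mem_center_iff]
  intro h
  have h1 := hg h
  rw [MonoidHom.mem_ker] at h1
  have h2 : g * h * g⁻¹ * h⁻¹ = 1 := by
    apply e.injective
    rw [map_one]
    exact h1
  have h3 : g * h = h * g := by
    have : g * h = (g * h * g⁻¹ * h⁻¹) * (h * g) := by group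
    rw [this, h2, one_mul]
  exact h3.symm

/-- `PΩ(Q)` is simple as soon as the commutator subgroup of `O(Q)` is generated by the Eichler
transformations (finite field, dimension at least seven). -/
theorem simple_of_gen [Finite F] (Q : QuadraticForm F (ι → F)) (hS : Sep Q)
    (hn : 7 ≤ Fintype.card ι) (hgen : commutator ↥(O Q) = EG Q) :
    IsSimpleGroup (Cfsg.POmega F ⇑Q) := by
  have h1 : IsSimpleGroup (↥(EG Q) ⧸ Subgroup.center ↥(EG Q)) :=
    simple_EG hS (by rw [Module.finrank_fintype_fun_eq_card]; exact hn)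
  have h2 : IsSimpleGroup (↥(commutator ↥(O Q)) ⧸ Subgroup.center ↥(commutator ↥(O Q))) := by
    rw [hgen]
    exact h1
  obtain ⟨e⟩ := quot_center_congr (omegaEquiv Q)
  exact e.symm.isSimpleGroup

end Cfsg.Agent.Lib.Helper5.OmegaSimpleMat
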