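import Mathlib
import Cfsg.Agent.Lib.Helper13.SympMat

set_option autoImplicit false

namespace Cfsg.Agent.Lib.Helper5.SpPerfect

open Matrix Cfsg.Agent.Lib.Helper13 Cfsg.Agent.Lib.Helper13.SympMat
open scoped commutatorElement

variable {F : Type*} [Field F] (m : ℕ)

/-- Symplectic transvections as elements of the symplectic group. -/
def tv (w : Fin m ⊕ Fin m → F) (c : F) : symplecticGroup (Fin m) F :=
  ⟨Cfsg.sympTransvection m w c, transvection_mem m w c⟩

theorem tv_mul (w : Fin m ⊕ Fin m → F) (c d : F) : tv m w c * tv m w d = tv m w (c + d) :=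
  Subtype.ext (transvection_mul m w c d)

theorem tv_zero (w : Fin m ⊕ Fin m → F) : tv m w 0 = 1 := by
  apply Subtype.ext
  simp [tv, Cfsg.sympTransvection]

theorem tv_zero_vec (c : F) : tv m (0 : Fin m ⊕ Fin m → F) c = 1 := by
  apply Subtype.ext
  simp [tv, Cfsg.sympTransvection]

theorem tv_inv (w : Fin m ⊕ Fin m → F) (c : F) : (tv m w c)⁻¹ = tv m w (-c) := by
  apply inv_eq_of_mul_eq_one_right
  rw [tv_mul, add_neg_cancel, tv_zero]

theorem transvection_conj' (v : Fin m ⊕ Fin m → F)
    (A : Matrix (Fin m ⊕ Fin m) (Fin m ⊕ Fin m) F)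
    (hA : A ∈ Matrix.symplecticGroup (Fin m) F) (c : F) :
    A * Cfsg.sympTransvection m v c * A⁻¹ = Cfsg.sympTransvection m (A *ᵥ v) c := by
  have hinv : A * A⁻¹ = 1 := Matrix.mul_nonsing_inv A (SymplecticGroup.symplectic_det hA)
  apply Matrix.toLin'.injective
  apply LinearMap.ext
  intro x
  rw [Matrix.toLin'_apply, Matrix.toLin'_apply, ← Matrix.mulVec_mulVec, ← Matrix.mulVec_mulVec,
    transvection_mulVec, transvection_mulVec, Matrix.mulVec_add, Matrix.mulVec_mulVec, hinv,
    Matrix.one_mulVec, Matrix.mulVec_smul]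
  have e := (mem_symp_iff m A).1 hA (A⁻¹ *ᵥ x) v
  rw [Matrix.mulVec_mulVec, hinv, Matrix.one_mulVec] at e
  rw [e]

theorem tv_conj (g : symplecticGroup (Fin m) F) (w : Fin m ⊕ Fin m → F) (c : F) :
    g * tv m w c * g⁻¹ = tv m ((g : Matrix (Fin m ⊕ Fin m) (Fin m ⊕ Fin m) F) *ᵥ w) c := by
  apply Subtype.ext
  show (g : Matrix (Fin m ⊕ Fin m) (Fin m ⊕ Fin m) F) * Cfsg.sympTransvection m w c *
    ((g⁻¹ : symplecticGroup (Fin m) F) : Matrix (Fin m ⊕ Fin m) (Fin m ⊕ Fin m) F) = _
  rw [SymplecticGroup.coe_inv']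
  exact transvection_conj' m w g.1 g.2 c

theorem tv_smul (w : Fin m ⊕ Fin m → F) (a c : F) : tv m (a • w) c = tv m w (c * a * a) := by
  apply Subtype.ext
  show Cfsg.sympTransvection m (a • w) c = Cfsg.sympTransvection m w (c * a * a)
  simp only [Cfsg.sympTransvection, Matrix.mulVec_smul, Matrix.vecMulVec_smul, Matrix.smul_vecMulVec,
    smul_smul]
  congr 2
  ring

/-- Transitivity on nonzero vectors. -/
theorem exists_mulVec_eq (v w : Fin m ⊕ Fin m → F) (hv : v ≠ 0) (hw : w ≠ 0) :
    ∃ g : symplecticGroup (Fin m) F,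
      (g : Matrix (Fin m ⊕ Fin m) (Fin m ⊕ Fin m) F) *ᵥ v = w := by
  have hv' : v ∉ (⊥ : Submodule F (Fin m ⊕ Fin m → F)) := by
    rw [Submodule.mem_bot]; exact hv
  have hw' : w ∉ (⊥ : Submodule F (Fin m ⊕ Fin m → F)) := by
    rw [Submodule.mem_bot]; exact hw
  obtain ⟨t, ht, -, h1⟩ := Symp.step2 (form m F) (form_nondeg m) (form_alt m) ⊥ v w hv' hw'
    (by
      intro z hz
      rw [Submodule.mem_bot] at hz
      rw [hz]
      simp)
  rw [T_eq] at ht
  obtain ⟨A, -, hA⟩ := ht
  refine ⟨A, ?_⟩
  rw [← Φ_apply, hA, h1]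

/-- If one transvection with parameter `c` lies in a normal subgroup, all of them do. -/
theorem tv_mem_of_normal (N : Subgroup (symplecticGroup (Fin m) F)) [N.Normal]
    (w₀ : Fin m ⊕ Fin m → F) (hw₀ : w₀ ≠ 0) (c : F) (h : tv m w₀ c ∈ N)
    (w : Fin m ⊕ Fin m → F) : tv m w c ∈ N := by
  by_cases hw : w = 0
  · rw [hw, tv_zero_vec]; exact one_mem _
  · obtain ⟨g, hg⟩ := exists_mulVec_eq m w₀ w hw₀ hw
    rw [← hg, ← tv_conj]
    exact Subgroup.Normal.conj_mem inferInstance _ h g

/-- A subgroup containing all transvections is everything. -/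
theorem eq_top_of_tv_mem (N : Subgroup (symplecticGroup (Fin m) F))
    (h : ∀ (w : Fin m ⊕ Fin m → F) (c : F), tv m w c ∈ N) : N = ⊤ := by
  rw [eq_top_iff, ← closure_gens_eq_top m, Subgroup.closure_le]
  rintro A ⟨w, c, hA⟩
  have : A = tv m w c := Subtype.ext hA
  rw [this]
  exact h w c

/-- The torus trick: with `a ≠ 0`, `a ^ 2 ≠ 1`, every transvection is a commutator. -/
theorem tv_mem_commutator_of_sq_ne_one (a : F) (ha : a ≠ 0) (ha2 : a ^ 2 ≠ 1)
    (w : Fin m ⊕ Fin m → F) (c : F) :
    tv m w c ∈ commutator (symplecticGroup (Fin m) F) := by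
  by_cases hw : w = 0
  · rw [hw, tv_zero_vec]; exact one_mem _
  · have haw : a • w ≠ 0 := smul_ne_zero ha hw
    obtain ⟨g, hg⟩ := exists_mulVec_eq m w (a • w) hw haw
    have ha2' : a ^ 2 - 1 ≠ 0 := sub_ne_zero_of_ne ha2
    have key : tv m w c = ⁅g, tv m w (c / (a ^ 2 - 1))⁆ := by
      rw [commutatorElement_def, tv_conj, hg, tv_smul, tv_inv, tv_mul]
      congr 1
      field_simp
      ring
    rw [key]
    exact Subgroup.commutator_mem_commutator (Subgroup.mem_top _) (Subgroup.mem_top _)

/-- The transvection along a standard basis vector as a block matrix. -/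
theorem sympTransvection_single (i : Fin m) (c : F) :
    Cfsg.sympTransvection m (Pi.single (Sum.inl i) 1) c =
      fromBlocks 1 (c • Matrix.single i i (1 : F)) 0 1 := by
  ext (a | a) (b | b) <;>
    simp [Cfsg.sympTransvection, Matrix.vecMulVec_apply, Matrix.mulVec_single_one, J,
      Pi.single_apply, Matrix.one_apply, Matrix.single_apply, Matrix.fromBlocks] <;>
    grind

/-- An upper unitriangular block matrix with symmetric corner is symplectic. -/
theorem upper_mem (S : Matrix (Fin m) (Fin m) F) (hS : Sᵀ = S) :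
    fromBlocks 1 S 0 1 ∈ symplecticGroup (Fin m) F := by
  rw [SymplecticGroup.fromBlocks_mem_iff]
  simp [hS]

/-- A block diagonal matrix `diag(A, D)` with `Aᵀ * D = 1` is symplectic. -/
theorem diag_mem (A D : Matrix (Fin m) (Fin m) F) (h : Aᵀ * D = 1) :
    fromBlocks A 0 0 D ∈ symplecticGroup (Fin m) F := by
  rw [SymplecticGroup.fromBlocks_mem_iff]
  simp [h]

/-- The basic commutator computation. -/
theorem commutator_eq (A D S Z : Matrix (Fin m) (Fin m) F) (hAD : Aᵀ * D = 1) (hS : Sᵀ = S)
    (hZ : Zᵀ = Z) (h : A * S = (S + Z) * D) :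
    (⟨fromBlocks 1 Z 0 1, upper_mem m Z hZ⟩ : symplecticGroup (Fin m) F) =
      ⁅(⟨fromBlocks A 0 0 D, diag_mem m A D hAD⟩ : symplecticGroup (Fin m) F),
        (⟨fromBlocks 1 S 0 1, upper_mem m S hS⟩ : symplecticGroup (Fin m) F)⁆ := by
  rw [commutatorElement_def, eq_mul_inv_iff_mul_eq, eq_mul_inv_iff_mul_eq]
  apply Subtype.ext
  show fromBlocks 1 Z 0 1 * fromBlocks 1 S 0 1 * fromBlocks A 0 0 D =
    fromBlocks A 0 0 D * fromBlocks 1 S 0 1
  simp only [fromBlocks_multiply, Matrix.one_mul, Matrix.mul_one, Matrix.zero_mul,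
    Matrix.mul_zero, add_zero, zero_add]
  rw [h]

section explicit

variable {m}

/-- In any characteristic, with two distinct indices, the transvection with parameter `2` along
a standard basis vector is a commutator. -/
theorem tv_two_mem_commutator {i j : Fin m} (hij : i ≠ j) :
    tv m (Pi.single (Sum.inl i) 1) (2 : F) ∈ commutator (symplecticGroup (Fin m) F) := by
  have hji : j ≠ i := hij.symm
  set A : Matrix (Fin m) (Fin m) F := 1 + Matrix.single i j 1 with hA
  set D : Matrix (Fin m) (Fin m) F := 1 - Matrix.single j i 1 with hD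
  set S : Matrix (Fin m) (Fin m) F := Matrix.single i j 1 + Matrix.single j i 1 with hSdef
  set Z : Matrix (Fin m) (Fin m) F := (2 : F) • Matrix.single i i 1 with hZdef
  have hAD : Aᵀ * D = 1 := by
    rw [hA, hD, Matrix.transpose_add, Matrix.transpose_one, Matrix.transpose_single]
    simp only [mul_sub, add_mul, Matrix.mul_one, Matrix.one_mul,
      single_mul_single_of_ne _ _ _ _ hij]
    abel
  have hS : Sᵀ = S := by
    rw [hSdef, Matrix.transpose_add, Matrix.transpose_single, Matrix.transpose_single, add_comm]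
  have hZ : Zᵀ = Z := by
    rw [hZdef, Matrix.transpose_smul, Matrix.transpose_single]
  have h : A * S = (S + Z) * D := by
    rw [hA, hSdef, hZdef, hD]
    simp only [mul_sub, add_mul, mul_add, Matrix.mul_one, Matrix.one_mul, Matrix.smul_mul,
      single_mul_single_same, single_mul_single_of_ne _ _ _ _ hij,
      single_mul_single_of_ne _ _ _ _ hji, mul_one, smul_zero, sub_zero, add_zero, two_smul]
    abel
  have key := commutator_eq m A D S Z hAD hS hZ h
  have e : tv m (Pi.single (Sum.inl i) 1) (2 : F) =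
      (⟨fromBlocks 1 Z 0 1, upper_mem m Z hZ⟩ : symplecticGroup (Fin m) F) :=
    Subtype.ext (sympTransvection_single m i 2)
  rw [e, key]
  exact Subgroup.commutator_mem_commutator (Subgroup.mem_top _) (Subgroup.mem_top _)

/-- In characteristic two, with three distinct indices, the transvection with parameter `1` along
a standard basis vector is a commutator. -/
theorem tv_one_mem_commutator (h2 : (2 : F) = 0) {i j k : Fin m} (hij : i ≠ j) (hik : i ≠ k)
    (hjk : j ≠ k) :
    tv m (Pi.single (Sum.inl i) 1) (1 : F) ∈ commutator (symplecticGroup (Fin m) F) := by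
  have hji : j ≠ i := hij.symm
  have hki : k ≠ i := hik.symm
  have hkj : k ≠ j := hjk.symm
  have hdouble : ∀ M : Matrix (Fin m) (Fin m) F, M + M = 0 := by
    intro M
    rw [← two_smul F M, h2, zero_smul]
  set A : Matrix (Fin m) (Fin m) F := 1 + Matrix.single i j 1 + Matrix.single j k 1 with hA
  set D : Matrix (Fin m) (Fin m) F :=
    1 - Matrix.single j i 1 - Matrix.single k j 1 + Matrix.single k i 1 with hD
  set S : Matrix (Fin m) (Fin m) F :=
    Matrix.single i k 1 + Matrix.single k i 1 + Matrix.single j j 1 with hSdef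
  set Z : Matrix (Fin m) (Fin m) F := Matrix.single i i 1 +
    ((Matrix.single i j 1 + Matrix.single j i 1) + (Matrix.single i j 1 + Matrix.single j i 1))
    with hZdef
  have hAD : Aᵀ * D = 1 := by
    rw [hA, hD, Matrix.transpose_add, Matrix.transpose_add, Matrix.transpose_one,
      Matrix.transpose_single, Matrix.transpose_single]
    simp only [add_mul, mul_add, mul_sub, sub_mul, Matrix.mul_one, Matrix.one_mul,
      single_mul_single_same,
      single_mul_single_of_ne _ _ _ _ hij, single_mul_single_of_ne _ _ _ _ hji,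
      single_mul_single_of_ne _ _ _ _ hik, single_mul_single_of_ne _ _ _ _ hki,
      single_mul_single_of_ne _ _ _ _ hjk, single_mul_single_of_ne _ _ _ _ hkj,
      mul_one, add_zero, zero_add, sub_zero]
    abel
  have hS : Sᵀ = S := by
    rw [hSdef, Matrix.transpose_add, Matrix.transpose_add, Matrix.transpose_single,
      Matrix.transpose_single, Matrix.transpose_single, add_comm (Matrix.single k i (1 : F))]
  have hZ : Zᵀ = Z := by
    rw [hZdef]
    simp only [Matrix.transpose_add, Matrix.transpose_single]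
    abel
  have h : A * S = (S + Z) * D := by
    rw [hA, hSdef, hZdef, hD]
    simp only [add_mul, mul_add, mul_sub, sub_mul, Matrix.mul_one, Matrix.one_mul,
      single_mul_single_same,
      single_mul_single_of_ne _ _ _ _ hij, single_mul_single_of_ne _ _ _ _ hji,
      single_mul_single_of_ne _ _ _ _ hik, single_mul_single_of_ne _ _ _ _ hki,
      single_mul_single_of_ne _ _ _ _ hjk, single_mul_single_of_ne _ _ _ _ hkj,
      mul_one, add_zero, zero_add, sub_zero]
    abel
  have key := commutator_eq m A D S Z hAD hS hZ h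
  have hZ1 : (1 : F) • Matrix.single i i (1 : F) = Z := by
    rw [hZdef, hdouble, add_zero, one_smul]
  have e : tv m (Pi.single (Sum.inl i) 1) (1 : F) =
      (⟨fromBlocks 1 Z 0 1, upper_mem m Z hZ⟩ : symplecticGroup (Fin m) F) := by
    apply Subtype.ext
    show Cfsg.sympTransvection m (Pi.single (Sum.inl i) 1) 1 = fromBlocks 1 Z 0 1
    rw [sympTransvection_single m i 1, hZ1]
  rw [e, key]
  exact Subgroup.commutator_mem_commutator (Subgroup.mem_top _) (Subgroup.mem_top _)

end explicit

end Cfsg.Agent.Lib.Helper5.SpPerfect
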