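import Mathlib
import Cfsg.Agent.Lib.Helper5.SpPerfect

set_option autoImplicit false

namespace Cfsg.Agent.Lib.Helper5.SpPrim

open Matrix Cfsg.Agent.Lib.Helper13 Cfsg.Agent.Lib.Helper13.SympMat
open Cfsg.Agent.Lib.Helper5.SpPerfect
open scoped LinearAlgebra.Projectivization Pointwise

variable {F : Type*} [Field F] (m : ℕ)

/-- The action of the symplectic group on the points of projective space. -/
noncomputable instance spAction :
    MulAction (symplecticGroup (Fin m) F) (ℙ F (Fin m ⊕ Fin m → F)) :=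
  MulAction.compHom _ (Φ m)

theorem mulVec_ne_zero (g : symplecticGroup (Fin m) F) {v : Fin m ⊕ Fin m → F} (hv : v ≠ 0) :
    (g : Matrix (Fin m ⊕ Fin m) (Fin m ⊕ Fin m) F) *ᵥ v ≠ 0 := by
  rw [← Φ_apply]
  exact (LinearEquiv.map_ne_zero_iff _).mpr hv

theorem smul_mk (g : symplecticGroup (Fin m) F) {v : Fin m ⊕ Fin m → F} (hv : v ≠ 0) :
    g • Projectivization.mk F v hv =
      Projectivization.mk F ((g : Matrix (Fin m ⊕ Fin m) (Fin m ⊕ Fin m) F) *ᵥ v)
        (mulVec_ne_zero m g hv) := by
  show (Φ m g) • Projectivization.mk F v hv = _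
  rw [Projectivization.smul_mk]
  congr 1

instance spTransitive : MulAction.IsPretransitive (symplecticGroup (Fin m) F)
    (ℙ F (Fin m ⊕ Fin m → F)) := by
  constructor
  intro p q
  induction p using Projectivization.ind with | _ v hv => ?_
  induction q using Projectivization.ind with | _ w hw => ?_
  obtain ⟨g, hg⟩ := exists_mulVec_eq m v w hv hw
  refine ⟨g, ?_⟩
  rw [smul_mk]
  congr 1

/-- Moving one vector to a multiple of another while fixing `u`. -/
theorem exists_move (u w x : Fin m ⊕ Fin m → F)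
    (hw : w ∉ Submodule.span F {u}) (hx : x ∉ Submodule.span F {u})
    (h : (form m F u w ≠ 0 ∧ form m F u x ≠ 0) ∨ (form m F u w = 0 ∧ form m F u x = 0)) :
    ∃ g : symplecticGroup (Fin m) F,
      (g : Matrix (Fin m ⊕ Fin m) (Fin m ⊕ Fin m) F) *ᵥ u = u ∧
      ∃ a : F, a ≠ 0 ∧ (g : Matrix (Fin m ⊕ Fin m) (Fin m ⊕ Fin m) F) *ᵥ w = a • x := by
  have hA := form_alt (F := F) m
  -- the normalised version
  have key : ∀ w' x' : Fin m ⊕ Fin m → F, w' ∉ Submodule.span F {u} → x' ∉ Submodule.span F {u} →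
      form m F u (x' - w') = 0 →
      ∃ g : symplecticGroup (Fin m) F,
        (g : Matrix (Fin m ⊕ Fin m) (Fin m ⊕ Fin m) F) *ᵥ u = u ∧
        (g : Matrix (Fin m ⊕ Fin m) (Fin m ⊕ Fin m) F) *ᵥ w' = x' := by
    intro w' x' hw' hx' hwx
    obtain ⟨t, ht, hfix, h1⟩ := Symp.step2 (form m F) (form_nondeg m) hA
      (Submodule.span F {u}) w' x' hw' hx'
      (by
        intro z hz
        obtain ⟨k, rfl⟩ := Submodule.mem_span_singleton.1 hz
        rw [map_smul, LinearMap.smul_apply, hwx, smul_zero])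
    rw [T_eq] at ht
    obtain ⟨A, -, hAt⟩ := ht
    refine ⟨A, ?_, ?_⟩
    · rw [← Φ_apply, hAt]
      exact hfix u (Submodule.mem_span_singleton_self u)
    · rw [← Φ_apply, hAt, h1]
  rcases h with ⟨h1, h2⟩ | ⟨h1, h2⟩
  · have hw' : (form m F u w)⁻¹ • w ∉ Submodule.span F {u} := by
      intro hmem
      apply hw
      have := Submodule.smul_mem _ (form m F u w) hmem
      rwa [smul_smul, mul_inv_cancel₀ h1, one_smul] at this
    have hx' : (form m F u x)⁻¹ • x ∉ Submodule.span F {u} := by
      intro hmem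
      apply hx
      have := Submodule.smul_mem _ (form m F u x) hmem
      rwa [smul_smul, mul_inv_cancel₀ h2, one_smul] at this
    obtain ⟨g, hg1, hg2⟩ := key _ _ hw' hx' (by
      rw [map_sub, map_smul, map_smul, smul_eq_mul, smul_eq_mul, inv_mul_cancel₀ h1,
        inv_mul_cancel₀ h2, sub_self])
    refine ⟨g, hg1, form m F u w * (form m F u x)⁻¹, mul_ne_zero h1 (inv_ne_zero h2), ?_⟩
    rw [Matrix.mulVec_smul] at hg2
    have := congrArg (fun z => form m F u w • z) hg2
    simp only [smul_smul, mul_inv_cancel₀ h1, one_smul] at this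
    exact this
  · obtain ⟨g, hg1, hg2⟩ := key w x hw hx (by rw [map_sub, h1, h2, sub_self])
    exact ⟨g, hg1, 1, one_ne_zero, by rw [one_smul]; exact hg2⟩

/-- Closure property of a block. -/
theorem block_move {B : Set (ℙ F (Fin m ⊕ Fin m → F))}
    (hB : MulAction.IsBlock (symplecticGroup (Fin m) F) B)
    (u w x : Fin m ⊕ Fin m → F) (hu : u ≠ 0) (hw0 : w ≠ 0) (hx0 : x ≠ 0)
    (hpu : Projectivization.mk F u hu ∈ B) (hpw : Projectivization.mk F w hw0 ∈ B)
    (hw : w ∉ Submodule.span F {u}) (hx : x ∉ Submodule.span F {u})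
    (h : (form m F u w ≠ 0 ∧ form m F u x ≠ 0) ∨ (form m F u w = 0 ∧ form m F u x = 0)) :
    Projectivization.mk F x hx0 ∈ B := by
  obtain ⟨g, hg1, a, ha, hg2⟩ := exists_move m u w x hw hx h
  have h1 : g • Projectivization.mk F u hu = Projectivization.mk F u hu := by
    rw [smul_mk]
    congr 1
  have h2 : g • B = B := hB.smul_eq_of_mem hpu (by rw [h1]; exact hpu)
  have h3 : g • Projectivization.mk F w hw0 ∈ B := by
    rw [← h2]
    exact Set.smul_mem_smul_set hpw
  rw [smul_mk] at h3
  have h4 : Projectivization.mk F ((g : Matrix (Fin m ⊕ Fin m) (Fin m ⊕ Fin m) F) *ᵥ w)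
      (mulVec_ne_zero m g hw0) = Projectivization.mk F x hx0 := by
    rw [Projectivization.mk_eq_mk_iff']
    exact ⟨a, hg2.symm⟩
  rw [← h4]
  exact h3

theorem form_swap (x y : Fin m ⊕ Fin m → F) : form m F x y = -form m F y x :=
  ((form_alt (F := F) m).neg_eq y x).symm

theorem exists_both_ne (u y : Fin m ⊕ Fin m → F) (hu : u ≠ 0) (hy : y ≠ 0) :
    ∃ x, form m F u x ≠ 0 ∧ form m F y x ≠ 0 := by
  have hnd := form_nondeg (F := F) m
  have h1 : ∃ x, form m F u x ≠ 0 := by
    by_contra hcon
    push Not at hcon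
    exact hu (hnd.1 u hcon)
  have h2 : ∃ x, form m F y x ≠ 0 := by
    by_contra hcon
    push Not at hcon
    exact hy (hnd.1 y hcon)
  obtain ⟨x₁, hx₁⟩ := h1
  obtain ⟨x₂, hx₂⟩ := h2
  by_cases h3 : form m F y x₁ = 0
  · by_cases h4 : form m F u x₂ = 0
    · refine ⟨x₁ + x₂, ?_, ?_⟩
      · rw [map_add, h4, add_zero]; exact hx₁
      · rw [map_add, h3, zero_add]; exact hx₂
    · exact ⟨x₂, h4, hx₂⟩
  · exact ⟨x₁, hx₁, h3⟩

theorem exists_both_zero (hm : 2 ≤ m) (u y : Fin m ⊕ Fin m → F) :
    ∃ x, x ≠ 0 ∧ form m F u x = 0 ∧ form m F y x = 0 := by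
  let f : (Fin m ⊕ Fin m → F) →ₗ[F] F × F := (form m F u).prod (form m F y)
  have hlt : Module.finrank F (F × F) < Module.finrank F (Fin m ⊕ Fin m → F) := by
    rw [Module.finrank_prod, Module.finrank_self, Module.finrank_fintype_fun_eq_card,
      Fintype.card_sum, Fintype.card_fin]
    omega
  have hker := LinearMap.ker_ne_bot_of_finrank_lt (f := f) hlt
  obtain ⟨x, hx, hx0⟩ := (Submodule.ne_bot_iff _).mp hker
  rw [LinearMap.mem_ker] at hx
  have h1 : form m F u x = 0 := congrArg Prod.fst hx
  have h2 : form m F y x = 0 := congrArg Prod.snd hx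
  exact ⟨x, hx0, h1, h2⟩

/-- The symplectic group acts primitively on the points of projective space, for `m ≥ 2`. -/
theorem isPreprimitive (hm : 2 ≤ m) : MulAction.IsPreprimitive (symplecticGroup (Fin m) F)
    (ℙ F (Fin m ⊕ Fin m → F)) := by
  have hA := form_alt (F := F) m
  refine { toIsPretransitive := spTransitive m, isTrivialBlock_of_isBlock := ?_ }
  intro B hB
  by_cases hsub : B.Subsingleton
  · exact Or.inl hsub
  right
  rw [Set.not_subsingleton_iff] at hsub
  obtain ⟨p, hp, r, hr, hpr⟩ := hsub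
  induction p using Projectivization.ind with | _ u hu => ?_
  induction r using Projectivization.ind with | _ w hw0 => ?_
  have hw : w ∉ Submodule.span F {u} := by
    intro hmem
    obtain ⟨a, ha⟩ := Submodule.mem_span_singleton.1 hmem
    apply hpr
    rw [Projectivization.mk_eq_mk_iff']
    have ha0 : a ≠ 0 := by
      rintro rfl
      rw [zero_smul] at ha
      exact hw0 ha.symm
    refine ⟨a⁻¹, ?_⟩
    rw [← ha, smul_smul, inv_mul_cancel₀ ha0, one_smul]
  rw [Set.eq_univ_iff_forall]
  intro t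
  induction t using Projectivization.ind with | _ y hy => ?_
  by_cases hyu : y ∈ Submodule.span F {u}
  · obtain ⟨a, ha⟩ := Submodule.mem_span_singleton.1 hyu
    have : Projectivization.mk F y hy = Projectivization.mk F u hu := by
      rw [Projectivization.mk_eq_mk_iff']
      exact ⟨a, ha⟩
    rw [this]
    exact hp
  by_cases h1 : form m F u w = 0
  · by_cases h2 : form m F u y = 0
    · exact block_move m hB u w y hu hw0 hy hp hr hw hyu (Or.inr ⟨h1, h2⟩)
    · obtain ⟨x, hx0, hux, hyx⟩ := exists_both_zero m hm u y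
      have hxu : x ∉ Submodule.span F {u} := by
        intro hmem
        obtain ⟨c, rfl⟩ := Submodule.mem_span_singleton.1 hmem
        rw [map_smul, smul_eq_mul, form_swap m y u] at hyx
        rcases mul_eq_zero.mp hyx with h | h
        · rw [h, zero_smul] at hx0
          exact hx0 rfl
        · exact h2 (neg_eq_zero.mp h)
      have hpx := block_move m hB u w x hu hw0 hx0 hp hr hw hxu (Or.inr ⟨h1, hux⟩)
      have hux' : u ∉ Submodule.span F {x} := by
        intro hmem
        obtain ⟨c, rfl⟩ := Submodule.mem_span_singleton.1 hmem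
        apply h2
        rw [map_smul, LinearMap.smul_apply, smul_eq_mul, form_swap m x y, hyx, neg_zero, mul_zero]
      have hyx' : y ∉ Submodule.span F {x} := by
        intro hmem
        obtain ⟨c, rfl⟩ := Submodule.mem_span_singleton.1 hmem
        apply h2
        rw [map_smul, smul_eq_mul, hux, mul_zero]
      exact block_move m hB x u y hx0 hu hy hpx hp hux' hyx'
        (Or.inr ⟨by rw [form_swap, hux, neg_zero], by rw [form_swap, hyx, neg_zero]⟩)
  · by_cases h2 : form m F u y = 0
    · obtain ⟨x, hux, hyx⟩ := exists_both_ne m u y hu hy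
      have hx0 : x ≠ 0 := by
        rintro rfl
        simp at hux
      have hxu : x ∉ Submodule.span F {u} := by
        intro hmem
        obtain ⟨c, rfl⟩ := Submodule.mem_span_singleton.1 hmem
        apply hux
        rw [map_smul, smul_eq_mul, hA u, mul_zero]
      have hpx := block_move m hB u w x hu hw0 hx0 hp hr hw hxu (Or.inl ⟨h1, hux⟩)
      have hux' : u ∉ Submodule.span F {x} := by
        intro hmem
        obtain ⟨c, rfl⟩ := Submodule.mem_span_singleton.1 hmem
        apply hux
        rw [map_smul, LinearMap.smul_apply, smul_eq_mul, hA x, mul_zero]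
      have hyx' : y ∉ Submodule.span F {x} := by
        intro hmem
        obtain ⟨c, rfl⟩ := Submodule.mem_span_singleton.1 hmem
        apply hyx
        rw [map_smul, LinearMap.smul_apply, smul_eq_mul, hA x, mul_zero]
      exact block_move m hB x u y hx0 hu hy hpx hp hux' hyx'
        (Or.inl ⟨by rw [form_swap]; exact neg_ne_zero.mpr hux,
          by rw [form_swap]; exact neg_ne_zero.mpr hyx⟩)
    · exact block_move m hB u w y hu hw0 hy hp hr hw hyu (Or.inl ⟨h1, h2⟩)

/-- The root subgroup of a point: the transvections along it. -/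
def rootSubgroup (p : ℙ F (Fin m ⊕ Fin m → F)) : Subgroup (symplecticGroup (Fin m) F) where
  carrier := {g | ∃ c : F, g = tv m p.rep c}
  one_mem' := ⟨0, (tv_zero m _).symm⟩
  mul_mem' := by
    rintro _ _ ⟨c, rfl⟩ ⟨d, rfl⟩
    exact ⟨c + d, tv_mul m _ c d⟩
  inv_mem' := by
    rintro _ ⟨c, rfl⟩
    exact ⟨-c, tv_inv m _ c⟩

theorem mem_rootSubgroup_mk (w : Fin m ⊕ Fin m → F) (hw : w ≠ 0)
    (g : symplecticGroup (Fin m) F) :
    g ∈ rootSubgroup m (Projectivization.mk F w hw) ↔ ∃ c : F, g = tv m w c := by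
  obtain ⟨a, ha⟩ := Projectivization.exists_smul_eq_mk_rep F w hw
  have ha0 : (a : F) ≠ 0 := a.ne_zero
  constructor
  · rintro ⟨c, rfl⟩
    refine ⟨c * a * a, ?_⟩
    rw [← ha, Units.smul_def, tv_smul]
  · rintro ⟨c, rfl⟩
    refine ⟨c * (a : F)⁻¹ * (a : F)⁻¹, ?_⟩
    rw [← ha, Units.smul_def, tv_smul]
    congr 1
    field_simp

/-- The Iwasawa structure of the symplectic group acting on points. -/
def iwasawa : MulAction.IwasawaStructure (symplecticGroup (Fin m) F)
    (ℙ F (Fin m ⊕ Fin m → F)) where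
  T := rootSubgroup m
  is_comm p := by
    refine ⟨⟨?_⟩⟩
    rintro ⟨_, c, rfl⟩ ⟨_, d, rfl⟩
    apply Subtype.ext
    show tv m p.rep c * tv m p.rep d = tv m p.rep d * tv m p.rep c
    rw [tv_mul, tv_mul, add_comm]
  is_conj g p := by
    induction p using Projectivization.ind with | _ w hw => ?_
    ext A
    rw [smul_mk, mem_rootSubgroup_mk, Subgroup.mem_pointwise_smul_iff_inv_smul_mem]
    simp only [MulAut.smul_def, MulAut.inv_apply, MulAut.conj_symm_apply]
    rw [mem_rootSubgroup_mk]
    constructor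
    · rintro ⟨c, rfl⟩
      refine ⟨c, ?_⟩
      rw [← tv_conj]
      group
    · rintro ⟨c, hc⟩
      refine ⟨c, ?_⟩
      rw [← tv_conj, ← hc]
      group
  is_generator := by
    apply eq_top_of_tv_mem
    intro w c
    by_cases hw : w = 0
    · rw [hw, tv_zero_vec]; exact one_mem _
    · exact Subgroup.mem_iSup_of_mem (Projectivization.mk F w hw)
        ((mem_rootSubgroup_mk m w hw _).2 ⟨c, rfl⟩)

/-- An element fixing every point is central. -/
theorem mem_center_of_fix (g : symplecticGroup (Fin m) F)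
    (h : ∀ p : ℙ F (Fin m ⊕ Fin m → F), g • p = p) :
    g ∈ Subgroup.center (symplecticGroup (Fin m) F) := by
  have hdep : ∀ v : Fin m ⊕ Fin m → F, ¬ LinearIndependent F
      ![v, Matrix.toLin' (g : Matrix (Fin m ⊕ Fin m) (Fin m ⊕ Fin m) F) v] := by
    intro v
    by_cases hv : v = 0
    · simp [hv, linearIndependent_fin2]
    · rw [LinearIndependent.pair_iff' hv]
      push Not
      have h1 := h (Projectivization.mk F v hv)
      rw [smul_mk, Projectivization.mk_eq_mk_iff'] at h1
      obtain ⟨a, ha⟩ := h1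
      exact ⟨a, by rw [Matrix.toLin'_apply]; exact ha⟩
  obtain ⟨a, ha⟩ := LinearMap.exists_eq_smul_id_of_forall_notLinearIndependent hdep
  have hga : (g : Matrix (Fin m ⊕ Fin m) (Fin m ⊕ Fin m) F) = a • 1 := by
    apply Matrix.toLin'.injective
    rw [ha, map_smul, Matrix.toLin'_one]
    rfl
  rw [Subgroup.mem_center_iff]
  intro k
  apply Subtype.ext
  show (k : Matrix (Fin m ⊕ Fin m) (Fin m ⊕ Fin m) F) * (g : Matrix _ _ F) =
    (g : Matrix _ _ F) * (k : Matrix _ _ F)
  rw [hga, Matrix.mul_smul, Matrix.smul_mul, Matrix.mul_one, Matrix.one_mul]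

/-- `PSp_{2m}(F)` is simple when `Sp_{2m}(F)` is perfect and `m ≥ 2`. -/
theorem psp_simple (hm : 2 ≤ m) (hperf : commutator (symplecticGroup (Fin m) F) = ⊤) :
    IsSimpleGroup (symplecticGroup (Fin m) F ⧸ Subgroup.center (symplecticGroup (Fin m) F)) := by
  have hprim := isPreprimitive (F := F) m hm
  have hnt : Nontrivial (symplecticGroup (Fin m) F ⧸
      Subgroup.center (symplecticGroup (Fin m) F)) := by
    rw [QuotientGroup.nontrivial_iff]
    intro htop
    have h1 : commutator (symplecticGroup (Fin m) F) = ⊥ := by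
      rw [commutator_def, Subgroup.commutator_top_left_eq_bot_iff_le_center, htop]
    rw [hperf] at h1
    have h2 : tv m (Pi.single (Sum.inl (⟨0, by omega⟩ : Fin m)) 1) (1 : F) ∈
        (⊤ : Subgroup (symplecticGroup (Fin m) F)) := Subgroup.mem_top _
    rw [h1, Subgroup.mem_bot] at h2
    have h3 := congrArg (fun A : symplecticGroup (Fin m) F =>
      (A : Matrix (Fin m ⊕ Fin m) (Fin m ⊕ Fin m) F) (Sum.inl ⟨0, by omega⟩)
        (Sum.inr ⟨0, by omega⟩)) h2
    simp [tv, sympTransvection_single] at h3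
  refine { toNontrivial := hnt, eq_bot_or_eq_top_of_normal := ?_ }
  intro Nbar hNbar
  set N := Nbar.comap (QuotientGroup.mk' (Subgroup.center (symplecticGroup (Fin m) F))) with hN
  have hNn : N.Normal := hNbar.comap _
  by_cases hfix : MulAction.fixedPoints N (ℙ F (Fin m ⊕ Fin m → F)) = Set.univ
  · left
    rw [Subgroup.eq_bot_iff_forall]
    intro x hx
    obtain ⟨g, rfl⟩ := QuotientGroup.mk_surjective x
    have hg : g ∈ N := hx
    rw [QuotientGroup.eq_one_iff]
    apply mem_center_of_fix
    intro p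
    have hp : p ∈ MulAction.fixedPoints N (ℙ F (Fin m ⊕ Fin m → F)) := by
      rw [hfix]; exact Set.mem_univ _
    exact hp ⟨g, hg⟩
  · right
    have hle := (iwasawa (F := F) m).commutator_le N hfix
    rw [hperf, top_le_iff] at hle
    rw [eq_top_iff]
    intro x _
    obtain ⟨g, rfl⟩ := QuotientGroup.mk_surjective x
    have hg : g ∈ N := by rw [hle]; exact Subgroup.mem_top _
    exact hg

end Cfsg.Agent.Lib.Helper5.SpPrim
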